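import Cfsg.Agent.LieClassical.GUOrder
import Cfsg.Agent.LieClassical.SUBasic
import Cfsg.Agent.H849.OZ.Bad_m3
import Cfsg.Agent.SporadicA.FieldFour
import Cfsg.Agent.SporadicStructure.FieldNine
import Cfsg.Agent.S0280
import Cfsg.Agent.H730.OZ.Asm
import Cfsg.Agent.SporadicStructure.PsuMatch
import Cfsg.Agent.S0277
import Cfsg.Agent.S0283
import Cfsg.Agent.H62.PCPlusEnd
import Cfsg.Agent.H985.VZ.Defs
import Mathlib
import Cfsg.Agent.H62.FrameSL
import Cfsg.Agent.TitsThree.KInstSp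
import Cfsg.Agent.Nodes.WittInst
import Cfsg.Agent.H876.OZU.Cent
import Cfsg.Agent.H72.AdjPSUW
import Cfsg.Agent.H279.OZ.Kaw
import Cfsg.Agent.Nodes.RGDClass
import Cfsg.Agent.FastGrp
import Cfsg.Agent.Prune
set_option linter.all false

section
prune_inst 0x7ffeadf8abac31dedfff7e3da6d8cdfc11800fffa4dff943ffe061bf23df338a01c5638d09e010fe1e42c01410a87803f97eceffe06bdc7ffffd5df41ffbee0fa5e7b508119488340f3c0ffe03f0678e7f3ffffffffcffffffffffffffffffbeffbdffffffff

-- part: H933/OZ/U42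
section
prune_inst 0x40008a202000000259011200420480004200000000080200980000004a209820800388000035228000500340020020000a0400000000a200000011c05a18002040081080108220009000180000000000000300000000000000000000004200000000
set_option linter.all false
open scoped Cfsg.Agent.FastGrp

-- part: H933/OZ/Cyc
section
/-!
# Counting the unitary matrices that normalise a cyclic element modulo scalars (helper933, for S4842)

`T` an isometry of the Hermitian form with a cyclic vector `e`. A unitary `g` with `g T = c T g` is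
determined by `c` and `g e`, and `v = g e` satisfies `h(v, T ^ i v) = c ^ i h(e, T ^ i e)`. The number of
these pairs is bounded by a computation with lists (`Cyc.cnt`).
-/

set_option autoImplicit false

namespace Cfsg.Agent.H933.OZ.Cyc

open Cfsg Matrix Finset

/-! ### lists -/

/-- raw operations -/
structure Ops (α : Type) where
  add : α → α → α
  mul : α → α → α
  cj : α → α
  eq : α → α → Bool
  zero : α
  seq : α → (α → ℕ) → ℕ

section lists

variable {α : Type} (O : Ops α)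

def dotL : List α → List α → α
  | [], _ => O.zero
  | _ :: _, [] => O.zero
  | a :: l, b :: m => O.add (O.mul a b) (dotL l m)

def seqL : List α → (List α → ℕ) → ℕ
  | [], k => k []
  | a :: l, k => O.seq a fun a' => seqL l fun l' => k (a' :: l')

def hd (x : α) : List α → Option (List α)
  | [] => none
  | y :: t => if O.eq y x then some t else none

def go (T : List (List α)) (v : List α) : ℕ → List α → List (List α) → ℕ
  | 0, _, tg => tg.length
  | k + 1, w, tg => O.seq (dotL O v (w.map O.cj)) fun x =>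
      match tg.filterMap (hd O x) with
      | [] => 0
      | t :: tg' => seqL O (T.map fun r => dotL O r w) fun w' => go T v k w' (t :: tg')

def cnt (els : List α) (T : List (List α)) (tg : List (List α)) (n : ℕ) : ℕ → List α → ℕ
  | 0, p => go O T p n p tg
  | k + 1, p => els.foldr (fun a s => cnt els T tg n k (a :: p) + s) 0

end lists

/-! ### semantics -/

/-- the operations compute in the field -/
structure Law {α : Type} (O : Ops α) {F : Type} [Field F] (q : ℕ) (enc : F → α) : Prop where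
  add : ∀ a b, O.add (enc a) (enc b) = enc (a + b)
  mul : ∀ a b, O.mul (enc a) (enc b) = enc (a * b)
  cj : ∀ a, O.cj (enc a) = enc (a ^ q)
  eq : ∀ a, O.eq (enc a) (enc a) = true
  zero : O.zero = enc 0
  seq : ∀ x k, O.seq x k = k x

section sem

variable {α : Type} {O : Ops α} {F : Type} [Field F] {q : ℕ} {enc : F → α} (H : Law O q enc)
include H

omit H in
/-- the list of a vector -/
def L (enc : F → α) {n : ℕ} (v : Fin n → F) : List α := List.ofFn fun i => enc (v i)

theorem dot_spec {n : ℕ} (u v : Fin n → F) : dotL O (L enc u) (L enc v) = enc (∑ i, u i * v i) := by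
  induction n with
  | zero => simp [L, dotL, H.zero]
  | succ n ih =>
    have h1 := ih (fun i => u i.succ) fun i => v i.succ
    simp only [L, List.ofFn_succ, dotL, Fin.sum_univ_succ] at h1 ⊢
    rw [h1, H.mul, H.add]

theorem cj_spec {n : ℕ} (v : Fin n → F) : (L enc v).map O.cj = L enc fun i => v i ^ q := by
  unfold L
  rw [List.map_ofFn]
  congr 1
  funext i
  exact H.cj _

theorem herm_spec {n : ℕ} (u v : Fin n → F) :
    dotL O (L enc u) ((L enc v).map O.cj) = enc (hermForm n F q u v) := by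
  rw [cj_spec H, dot_spec H]
  rfl

omit H in
/-- the rows of a matrix -/
def rows (enc : F → α) {n : ℕ} (A : Matrix (Fin n) (Fin n) F) : List (List α) :=
  List.ofFn fun i => L enc (A i)

theorem mv_spec {n : ℕ} (A : Matrix (Fin n) (Fin n) F) (v : Fin n → F) :
    ((rows enc A).map fun r => dotL O r (L enc v)) = L enc (A *ᵥ v) := by
  unfold rows
  rw [List.map_ofFn]
  unfold L
  congr 1
  funext i
  exact dot_spec H _ _

theorem seqL_spec (l : List α) (k : List α → ℕ) : seqL O l k = k l := by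
  induction l generalizing k with
  | nil => rfl
  | cons a l ih =>
    rw [seqL, H.seq, ih]

omit H in
/-- the invariants -/
def qs (enc : F → α) (q : ℕ) {n : ℕ} (T : Matrix (Fin n) (Fin n) F) (v : Fin n → F) :
    ℕ → (Fin n → F) → List α
  | 0, _ => []
  | k + 1, w => enc (hermForm n F q v w) :: qs enc q T v k (T *ᵥ w)

theorem count_le_filterMap [DecidableEq α] (x : F) (l : List α) (tg : List (List α)) :
    List.count (enc x :: l) tg ≤ List.count l (tg.filterMap (hd O (enc x))) := by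
  induction tg with
  | nil => simp
  | cons t tg ih =>
    by_cases h : t = enc x :: l
    · subst h
      rw [List.count_cons_self, List.filterMap_cons_some (b := l) (by simp [hd, H.eq]),
        List.count_cons_self]
      omega
    · rw [List.count_cons_of_ne h]
      refine ih.trans ?_
      rw [List.filterMap_cons]
      split
      · exact le_rfl
      · exact List.count_le_count_cons

theorem go_spec [DecidableEq α] {n : ℕ} (T : Matrix (Fin n) (Fin n) F) (v : Fin n → F) (k : ℕ)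
    (w : Fin n → F) (tg : List (List α)) :
    List.count (qs enc q T v k w) tg ≤ go O (rows enc T) (L enc v) k (L enc w) tg := by
  induction k generalizing w tg with
  | zero =>
    rw [go]
    exact List.count_le_length
  | succ k ih =>
    rw [go, H.seq, herm_spec H, qs]
    refine (count_le_filterMap H _ _ _).trans ?_
    split
    · rename_i h
      rw [h]
      simp
    · rename_i t tg' h
      rw [seqL_spec H, mv_spec H, h]
      exact ih _ _

omit H [Field F] in
theorem sum_snoc {k : ℕ} [Fintype F] (f : (Fin (k + 1) → F) → ℕ) :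
    ∑ v : Fin (k + 1) → F, f v = ∑ a : F, ∑ v : Fin k → F, f (Fin.snoc v a) := by
  rw [← Fintype.sum_prod_type']
  exact (Equiv.sum_comp (Fin.snocEquiv fun _ => F) f).symm

omit H [Field F] in
theorem L_snoc {k : ℕ} (v : Fin k → F) (a : F) (p : List α) :
    L enc (Fin.snoc v a : Fin (k + 1) → F) ++ p = L enc v ++ enc a :: p := by
  unfold L
  rw [List.ofFn_succ', List.concat_eq_append, List.append_assoc]
  simp

omit H [Field F] in
theorem cnt_spec [Fintype F] {els : List α}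
    (hels : ∀ f : α → ℕ, ∑ a : F, f (enc a) ≤ els.foldr (fun a s => f a + s) 0)
    (T : List (List α)) (tg : List (List α)) (n k : ℕ) (p : List α) :
    ∑ v : Fin k → F, go O T (L enc v ++ p) n (L enc v ++ p) tg ≤ cnt O els T tg n k p := by
  induction k generalizing p with
  | zero =>
    rw [cnt, Fintype.sum_unique]
    exact le_of_eq (by simp [L])
  | succ k ih =>
    rw [cnt, sum_snoc]
    refine le_trans ?_ (hels fun a => cnt O els T tg n k (a :: p))
    refine Finset.sum_le_sum fun a _ => ?_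
    simp only [L_snoc]
    exact ih (enc a :: p)

end sem

/-! ### unitary matrices -/

section unitary

variable {α : Type} {O : Ops α} {F : Type} [Field F] [Fintype F] [DecidableEq F] {q n : ℕ} {enc : F → α}

/-- the matrix of an element of `GU` -/
abbrev gm (g : GU n F q) : Matrix (Fin n) (Fin n) F := ((g : GL (Fin n) F) : Matrix (Fin n) (Fin n) F)

/-- the target invariants -/
def tgts (enc : F → α) (q : ℕ) (T : Matrix (Fin n) (Fin n) F) (e : Fin n → F) (c : F) :
    ℕ → F → (Fin n → F) → List α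
  | 0, _, _ => []
  | k + 1, d, w => enc (d * hermForm n F q e w) :: tgts enc q T e c k (c * d) (T *ᵥ w)

omit [DecidableEq F] in
theorem qs_eq (hF : Fintype.card F = q ^ 2) (T : Matrix (Fin n) (Fin n) F) (e : Fin n → F) {c : F}
    (hc : c ^ (q + 1) = 1) {g : GU n F q} (hg : gm g * T = c • (T * gm g)) (k : ℕ) {d : F}
    (hd : d ^ (q + 1) = 1) {w w' : Fin n → F} (hw : gm g *ᵥ w = d • w') :
    qs enc q T (gm g *ᵥ e) k w' = tgts enc q T e c k d w := by
  induction k generalizing d w w' with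
  | zero => rfl
  | succ k ih =>
    rw [qs, tgts]
    congr 1
    · congr 1
      have h1 := g.2 e w
      change hermForm n F q (gm g *ᵥ e) (gm g *ᵥ w) = hermForm n F q e w at h1
      rw [hw, LieClassical.GUOrder.herm_smul_right hF, LieClassical.GUOrder.frob_apply] at h1
      rw [← h1, ← mul_assoc, ← pow_succ', hd, one_mul]
    · refine ih (by rw [mul_pow, hc, hd, one_mul]) ?_
      rw [Matrix.mulVec_mulVec, hg, Matrix.smul_mulVec, ← Matrix.mulVec_mulVec, hw, Matrix.mulVec_smul,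
        smul_smul]

/-- the matrix of the Krylov space -/
def kry (T : Matrix (Fin n) (Fin n) F) (e : Fin n → F) : Matrix (Fin n) (Fin n) F :=
  Matrix.of fun i j => ((T ^ (j : ℕ)) *ᵥ e) i

omit [Fintype F] [DecidableEq F] in
theorem mul_kry (T : Matrix (Fin n) (Fin n) F) (e : Fin n → F) {c : F} {M : Matrix (Fin n) (Fin n) F}
    (hM : M * T = c • (T * M)) :
    M * kry T e = Matrix.of fun (i j : Fin n) => c ^ (j : ℕ) * ((T ^ (j : ℕ)) *ᵥ (M *ᵥ e)) i := by
  have h1 : ∀ k : ℕ, M * T ^ k = c ^ k • (T ^ k * M) := by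
    intro k
    induction k with
    | zero => simp
    | succ k ih =>
      rw [pow_succ, ← mul_assoc, ih, Matrix.smul_mul, mul_assoc, hM, Matrix.mul_smul, smul_smul, ← mul_assoc,
        ← pow_succ, ← pow_succ]
  ext i j
  have h2 : (M * kry T e) i j = (M *ᵥ ((T ^ (j : ℕ)) *ᵥ e)) i := rfl
  rw [h2, Matrix.mulVec_mulVec, h1, Matrix.smul_mulVec, ← Matrix.mulVec_mulVec]
  rfl

theorem card_le (H : Law O q enc) (hF : Fintype.card F = q ^ 2) {els : List α}
    (hels : ∀ f : α → ℕ, ∑ a : F, f (enc a) ≤ els.foldr (fun a s => f a + s) 0)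
    (T : Matrix (Fin n) (Fin n) F) (e : Fin n → F) {E' : Matrix (Fin n) (Fin n) F}
    (hE : kry T e * E' = 1) {cs : List F} (hcs : ∀ c ∈ cs, c ^ (q + 1) = 1)
    {R : List (List α)} (hR : rows enc T = R) {tg : List (List α)}
    (htg : cs.map (fun c => tgts enc q T e c n 1 e) = tg) (P : Finset (GU n F q))
    (hP : ∀ g ∈ P, ∃ c ∈ cs, gm g * T = c • (T * gm g)) :
    P.card ≤ cnt O els R tg n n [] := by
  classical
  choose! cc hcc hccg using hP
  set D : Finset (F × (Fin n → F)) := (cs.toFinset ×ˢ univ).filter fun x =>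
    qs enc q T x.2 n x.2 = tgts enc q T e x.1 n 1 e with hD
  have h1 : P.card ≤ D.card := by
    refine Finset.card_le_card_of_injOn (fun g => (cc g, gm g *ᵥ e)) ?_ ?_
    · intro g hg
      rw [Finset.mem_coe] at hg
      rw [Finset.mem_coe, hD, mem_filter, mem_product, List.mem_toFinset]
      refine ⟨⟨hcc g hg, mem_univ _⟩, ?_⟩
      exact qs_eq hF T e (hcs _ (hcc g hg)) (hccg g hg) n (one_pow _) (one_smul _ _).symm
    · intro g hg g' hg' hgg
      rw [Finset.mem_coe] at hg hg'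
      simp only [Prod.mk.injEq] at hgg
      have h2 : gm g * kry T e = gm g' * kry T e := by
        rw [mul_kry T e (hccg g hg), mul_kry T e (hccg g' hg'), hgg.1, hgg.2]
      have h3 : gm g = gm g' := by
        have h4 := congrArg (· * E') h2
        simpa only [mul_assoc, hE, mul_one] using h4
      exact Subtype.ext (Units.ext h3)
  refine h1.trans ?_
  have h2 : D.card ≤ ∑ v : Fin n → F, List.count (qs enc q T v n v) tg := by
    rw [hD, Finset.card_filter, Finset.sum_product_right]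
    refine Finset.sum_le_sum fun v _ => ?_
    rw [← htg, List.count, List.countP_map, List.countP_eq_length_filter, ← Finset.card_filter]
    refine le_trans (Finset.card_le_card ?_) (List.toFinset_card_le _)
    intro c hc
    rw [mem_filter, List.mem_toFinset] at hc
    rw [List.mem_toFinset, List.mem_filter]
    exact ⟨hc.1, beq_iff_eq.2 hc.2.symm⟩
  refine h2.trans ?_
  have h3 : ∀ v : Fin n → F, List.count (qs enc q T v n v) tg
      ≤ go O R (L enc v ++ []) n (L enc v ++ []) tg := by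
    intro v
    rw [List.append_nil, ← hR]
    exact go_spec H T v n v tg
  exact (Finset.sum_le_sum fun v _ => h3 v).trans (cnt_spec hels R tg n n [])

omit [Fintype F] [DecidableEq F] in
theorem kry_eq {T : Matrix (Fin n) (Fin n) F} {e : Fin n → F} (E : Matrix (Fin n) (Fin n) F)
    (h0 : ∀ h : 0 < n, (fun i => E i ⟨0, h⟩) = e)
    (h : ∀ j : Fin n, ∀ hj : (j : ℕ) + 1 < n, T *ᵥ (fun i => E i j) = fun i => E i ⟨j + 1, hj⟩) :
    kry T e = E := by
  have key : ∀ k : ℕ, ∀ hk : k < n, (T ^ k) *ᵥ e = fun i => E i ⟨k, hk⟩ := by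
    intro k
    induction k with
    | zero => intro hk; rw [pow_zero, Matrix.one_mulVec, h0 hk]
    | succ k ih =>
      intro hk
      rw [pow_succ', ← Matrix.mulVec_mulVec, ih (by omega)]
      exact h ⟨k, by omega⟩ hk
  ext i j
  exact congrFun (key j j.2) i

/-- the targets, computed with the raw operations -/
def tgL (O : Ops α) (T : List (List α)) (e : List α) (c : α) : ℕ → α → List α → List α
  | 0, _, _ => []
  | k + 1, d, w => O.mul d (dotL O e (w.map O.cj)) :: tgL O T e c k (O.mul c d) (T.map fun r => dotL O r w)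

omit [Fintype F] [DecidableEq F] in
theorem tgts_eq (H : Law O q enc) (T : Matrix (Fin n) (Fin n) F) (e : Fin n → F) (c : F) (k : ℕ) (d : F)
    (w : Fin n → F) :
    tgts enc q T e c k d w = tgL O (rows enc T) (L enc e) (enc c) k (enc d) (L enc w) := by
  induction k generalizing d w with
  | zero => rfl
  | succ k ih =>
    rw [tgts, tgL, herm_spec H, mv_spec H, H.mul, H.mul, ih]

/-- **The count**, all computations with the raw operations. -/
theorem card_le' (H : Law O q enc) (hF : Fintype.card F = q ^ 2) {els : List α}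
    (hels : ∀ f : α → ℕ, ∑ a : F, f (enc a) ≤ els.foldr (fun a s => f a + s) 0)
    {T : Matrix (Fin n) (Fin n) F} {e : Fin n → F} {E E' : Matrix (Fin n) (Fin n) F}
    (h0 : ∀ h : 0 < n, (fun i => E i ⟨0, h⟩) = e)
    (hj : ∀ j : Fin n, ∀ hj : (j : ℕ) + 1 < n, T *ᵥ (fun i => E i j) = fun i => E i ⟨j + 1, hj⟩)
    (hE : E * E' = 1) {cs : List F} (hcs : ∀ c ∈ cs, c ^ (q + 1) = 1)
    {R : List (List α)} (hR : rows enc T = R) {m : ℕ} {tg : List (List α)}
    (htg : cs.map (fun c => tgL O R (L enc e) (enc c) n (enc 1) (L enc e)) = tg)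
    (hm : cnt O els R tg n n [] ≤ m) (P : Finset (GU n F q))
    (hP : ∀ g ∈ P, ∃ c ∈ cs, gm g * T = c • (T * gm g)) :
    P.card ≤ m := by
  refine (card_le H hF hels T e (E' := E') ?_ hcs hR (tg := tg) ?_ P hP).trans hm
  · rw [kry_eq E h0 hj, hE]
  · rw [← htg, ← hR]
    exact List.map_congr_left fun c _ => tgts_eq H T e c n 1 e

end unitary

end Cfsg.Agent.H933.OZ.Cyc
end

-- part: H933/OZ/Orb
section
/-!
# Orbits of `GU` on `PSU` (helper933, for S4842)

* `orb t` : the images in `PSU` of the conjugates of `t` under `GU`.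
* `card_GU_le` : `|GU| ≤ m |orb t|`.
* `gal_orb`, `isConj_pow`, `isConj_inv_pow` : powers.
-/

set_option autoImplicit false

namespace Cfsg.Agent.H933.OZ.Orb

open Cfsg Matrix Finset Cyc Cfsg.Agent.LieClassical

variable {F : Type} [Field F] {q n : ℕ}

/-- matrix of an element of `SU` -/
abbrev sm (t : SU n F q) : Matrix (Fin n) (Fin n) F := t.1.1

theorem gm_mul_inv (g : GU n F q) : gm g * gm g⁻¹ = 1 := by
  have h : g * g⁻¹ = 1 := mul_inv_cancel g
  exact congrArg gm h

theorem gm_inv_mul (g : GU n F q) : gm g⁻¹ * gm g = 1 := by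
  have h : g⁻¹ * g = 1 := inv_mul_cancel g
  exact congrArg gm h

theorem sm_inj {s t : SU n F q} (h : sm s = sm t) : s = t := Subtype.ext (Subtype.ext h)

/-- conjugation of `SU` by elements of `GU` -/
def cg (g : GU n F q) : SU n F q →* SU n F q where
  toFun t := ⟨⟨gm g * sm t * gm g⁻¹, by
      have h1 : (sm t).det = 1 := t.1.2
      rw [Matrix.det_mul, Matrix.det_mul, h1, mul_one, ← Matrix.det_mul, gm_mul_inv, Matrix.det_one]⟩, by
    refine (SUBasic.mem_SU_iff _).2 fun u v => ?_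
    change hermForm n F q ((gm g * sm t * gm g⁻¹) *ᵥ u) ((gm g * sm t * gm g⁻¹) *ᵥ v) = _
    rw [← Matrix.mulVec_mulVec, ← Matrix.mulVec_mulVec, ← Matrix.mulVec_mulVec, ← Matrix.mulVec_mulVec]
    exact (g.2 _ _).trans ((t.2 _ _).trans (g⁻¹.2 _ _))⟩
  map_one' := by
    apply sm_inj
    change gm g * 1 * gm g⁻¹ = 1
    rw [mul_one, gm_mul_inv]
  map_mul' s t := by
    apply sm_inj
    change gm g * (sm s * sm t) * gm g⁻¹ = (gm g * sm s * gm g⁻¹) * (gm g * sm t * gm g⁻¹)
    calc gm g * (sm s * sm t) * gm g⁻¹ = gm g * sm s * (1 * sm t) * gm g⁻¹ := by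
          rw [one_mul]; simp only [mul_assoc]
      _ = _ := by rw [← gm_inv_mul g]; simp only [mul_assoc]

theorem sm_cg (g : GU n F q) (t : SU n F q) : sm (cg g t) = gm g * sm t * gm g⁻¹ := rfl

theorem cg_mul (g h : GU n F q) (t : SU n F q) : cg (g * h) t = cg g (cg h t) := by
  apply sm_inj
  rw [sm_cg, sm_cg, sm_cg]
  have h1 : gm (g * h) = gm g * gm h := rfl
  have h2 : gm (g * h)⁻¹ = gm h⁻¹ * gm g⁻¹ := by rw [_root_.mul_inv_rev]; rfl
  rw [h1, h2]
  simp only [mul_assoc]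

theorem cg_one (t : SU n F q) : cg 1 t = t := by
  apply sm_inj
  rw [sm_cg, inv_one]
  change 1 * sm t * 1 = _
  rw [one_mul, mul_one]

theorem cg_center (g : GU n F q) {z : SU n F q} (hz : z ∈ Subgroup.center (SU n F q)) :
    cg g z ∈ Subgroup.center (SU n F q) := by
  rw [Subgroup.mem_center_iff]
  intro s
  have h1 : s = cg g (cg g⁻¹ s) := by rw [← cg_mul, mul_inv_cancel, cg_one]
  rw [h1, ← map_mul, ← map_mul, Subgroup.mem_center_iff.1 hz]

/-- the projection -/
abbrev pr : SU n F q →* PSU n F q := QuotientGroup.mk' (Subgroup.center (SU n F q))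

theorem pr_eq_iff {s t : SU n F q} : pr s = pr t ↔ s⁻¹ * t ∈ Subgroup.center (SU n F q) :=
  QuotientGroup.eq

theorem pr_cg (g : GU n F q) {s t : SU n F q} (h : pr s = pr t) : pr (cg g s) = pr (cg g t) := by
  rw [pr_eq_iff] at h ⊢
  rw [← map_inv, ← map_mul]
  exact cg_center g h

/-- an element of `SU` as an element of `GU` -/
def ofSU (s : SU n F q) : GU n F q :=
  ⟨⟨sm s, sm s⁻¹, congrArg sm (mul_inv_cancel s), congrArg sm (inv_mul_cancel s)⟩, s.2⟩

theorem cg_ofSU (s t : SU n F q) : cg (ofSU s) t = s * t * s⁻¹ := sm_inj rfl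

/-- conjugate to the `k`-th power modulo scalars -/
def Pw (t : SU n F q) (k : ℕ) : Prop := ∃ s : SU n F q, pr (s * t * s⁻¹) = pr t ^ k

/-- conjugate under `GU` to the `k`-th power modulo scalars -/
def GPw (t : SU n F q) (k : ℕ) : Prop := ∃ g : GU n F q, pr (cg g t) = pr t ^ k

theorem Pw.one (t : SU n F q) : Pw t 1 := ⟨1, by simp⟩

theorem Pw.mul {t : SU n F q} {a b : ℕ} (ha : Pw t a) (hb : Pw t b) : Pw t (a * b) := by
  obtain ⟨s, hs⟩ := ha
  obtain ⟨r, hr⟩ := hb
  refine ⟨s * r, ?_⟩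
  have h1 : s * r * t * (s * r)⁻¹ = s * (r * t * r⁻¹) * s⁻¹ := by group
  rw [h1, map_mul, map_mul, hr, pow_mul, ← hs, map_mul, map_mul, map_inv, conj_pow]

theorem GPw.mul {t : SU n F q} {a b : ℕ} (ha : GPw t a) (hb : GPw t b) : GPw t (a * b) := by
  obtain ⟨s, hs⟩ := ha
  obtain ⟨r, hr⟩ := hb
  refine ⟨s * r, ?_⟩
  rw [← map_pow] at hr
  rw [cg_mul, pr_cg s hr, map_pow, map_pow, hs, pow_mul]

theorem Pw.congr {t : SU n F q} {a b : ℕ} (h : Pw t a) (hab : pr t ^ a = pr t ^ b) : Pw t b := by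
  obtain ⟨s, hs⟩ := h
  exact ⟨s, hs.trans hab⟩

theorem GPw.congr {t : SU n F q} {a b : ℕ} (h : GPw t a) (hab : pr t ^ a = pr t ^ b) : GPw t b := by
  obtain ⟨s, hs⟩ := h
  exact ⟨s, hs.trans hab⟩

theorem pow_mod {t : SU n F q} {N : ℕ} (hN : pr t ^ N = 1) (k : ℕ) : pr t ^ (k % N) = pr t ^ k :=
  (pow_eq_pow_mod k hN).symm

section orb

variable [Fintype F] [DecidableEq F]

open Classical in
/-- the orbit -/
noncomputable def orb (t : SU n F q) : Finset (PSU n F q) :=
  Set.Finite.toFinset (Set.finite_range fun g : GU n F q => pr (cg g t))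

omit [DecidableEq F] in
theorem mem_orb {t : SU n F q} {y : PSU n F q} : y ∈ orb t ↔ ∃ g : GU n F q, pr (cg g t) = y := by
  rw [orb, Set.Finite.mem_toFinset, Set.mem_range]

omit [DecidableEq F] in
theorem self_mem (t : SU n F q) : pr t ∈ orb t := mem_orb.2 ⟨1, by rw [cg_one]⟩

omit [DecidableEq F] in
theorem card_GU_le (hF : Fintype.card F = q ^ 2) (hn : 3 ≤ n) {m : ℕ} {cs : List F} (t : SU n F q)
    (hcs : ∀ c : F, c ^ n = 1 → c ^ (q + 1) = 1 → c ∈ cs)
    (hP : ∀ P : Finset (GU n F q), (∀ g ∈ P, ∃ c ∈ cs, gm g * sm t = c • (sm t * gm g)) → P.card ≤ m) :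
    Nat.card (GU n F q) ≤ m * (orb t).card := by
  classical
  have := Fintype.ofFinite (GU n F q)
  have := Fintype.ofFinite (PSU n F q)
  have h1 : orb t = (univ : Finset (GU n F q)).image fun g => pr (cg g t) := by
    ext y
    rw [mem_orb, mem_image]
    simp only [_root_.QuotientGroup.mk'_apply, _root_.Subtype.exists, _root_.Finset.mem_univ, _root_.true_and]
  rw [Nat.card_eq_fintype_card, ← Finset.card_univ, h1]
  refine Finset.card_le_mul_card_image _ m ?_
  intro a ha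
  obtain ⟨d, -, rfl⟩ := mem_image.1 ha
  have h2 : (univ.filter fun g : GU n F q => pr (cg g t) = pr (cg d t)).card
      = ((univ.filter fun g : GU n F q => pr (cg g t) = pr (cg d t)).image fun g => d⁻¹ * g).card :=
    (Finset.card_image_of_injective _ (mul_right_injective d⁻¹)).symm
  rw [h2]
  refine hP _ ?_
  intro g' hg'
  obtain ⟨g, hg, rfl⟩ := mem_image.1 hg'
  rw [mem_filter] at hg
  have h3 : pr (cg (d⁻¹ * g) t) = pr t := by
    rw [cg_mul, pr_cg d⁻¹ hg.2, ← cg_mul, inv_mul_cancel, cg_one]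
  rw [eq_comm, pr_eq_iff] at h3
  obtain ⟨c, hc1, hc2, hc⟩ := (SUBasic.mem_center_SU_iff hF hn _).1 h3
  refine ⟨c, hcs c hc1 hc2, ?_⟩
  have h4 : cg (d⁻¹ * g) t = t * SUBasic.suScalar q c hc1 hc2 := by rw [← hc, mul_inv_cancel_left]
  have h5 := congrArg (fun s : SU n F q => sm s * gm (d⁻¹ * g)) h4
  change gm (d⁻¹ * g) * sm t * gm (d⁻¹ * g)⁻¹ * gm (d⁻¹ * g) = _ at h5
  rw [mul_assoc, gm_inv_mul, mul_one] at h5
  rw [h5]
  have h6 : sm (t * SUBasic.suScalar q c hc1 hc2) = sm t * Matrix.diagonal fun _ => c := rfl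
  rw [h6, ← Matrix.smul_one_eq_diagonal, Matrix.mul_smul, mul_one, Matrix.smul_mul]

omit [DecidableEq F] in
theorem isConj_pow {t : SU n F q} {k : ℕ} (h : Pw t k) {y : PSU n F q} (hy : y ∈ orb t) :
    IsConj y (y ^ k) := by
  obtain ⟨g, rfl⟩ := mem_orb.1 hy
  obtain ⟨s, hs⟩ := h
  rw [← map_pow] at hs
  have h1 := pr_cg g hs
  rw [map_mul, map_mul, map_mul, map_mul, map_inv, map_inv, map_pow, map_pow] at h1
  exact isConj_iff.2 ⟨pr (cg g s), h1⟩

omit [DecidableEq F] in
theorem pow_eq_one {t : SU n F q} {N : ℕ} (hN : pr t ^ N = 1) {y : PSU n F q} (hy : y ∈ orb t) :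
    y ^ N = 1 := by
  obtain ⟨g, rfl⟩ := mem_orb.1 hy
  have h1 : pr (t ^ N) = pr 1 := by rw [map_pow, hN, map_one]
  have h2 := pr_cg g h1
  rw [map_pow, map_pow, map_one, map_one] at h2
  exact h2

omit [DecidableEq F] in
theorem isConj_inv_pow {t : SU n F q} {j k : ℕ} (h : Pw t j) (hjk : pr t ^ (j + k) = 1) {y : PSU n F q}
    (hy : y ∈ orb t) : IsConj y⁻¹ (y ^ k) := by
  have h1 := isConj_pow h hy
  have h2 : y ^ k = (y ^ j)⁻¹ := by
    rw [eq_inv_iff_mul_eq_one, ← pow_add, add_comm]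
    exact pow_eq_one hjk hy
  obtain ⟨c, hc⟩ := isConj_iff.1 h1
  rw [h2, ← hc]
  exact isConj_iff.2 ⟨c, by group⟩

end orb

/-- an element of `SU` from a matrix -/
def mkSU {cj : F → F} (hcj : ∀ x, cj x = x ^ q) (A : Matrix (Fin n) (Fin n) F)
    (h : Aᵀ * A.map cj = 1) (hd : A.det = 1) [Fintype F] (hF : Fintype.card F = q ^ 2) : SU n F q :=
  ⟨⟨A, hd⟩, (GUOrder.mul_map_eq_one_iff hF A).2 (by
    rw [← h]
    congr 1
    ext i j
    exact (hcj _).symm)⟩

theorem pr_eq_of_smul {s t : SU n F q} {c : F} (hc1 : c ^ n = 1) (hc2 : c ^ (q + 1) = 1)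
    (h : sm s = c • sm t) : pr s = pr t := by
  rw [eq_comm, pr_eq_iff]
  have h1 : t⁻¹ * s = SUBasic.suScalar q c hc1 hc2 := by
    rw [inv_mul_eq_iff_eq_mul]
    apply sm_inj
    rw [h]
    change _ = sm t * Matrix.diagonal fun _ => c
    rw [← Matrix.smul_one_eq_diagonal, Matrix.mul_smul, mul_one]
  rw [h1]
  exact SUBasic.suScalar_mem_center q c hc1 hc2

theorem smul_of_pr_eq [Fintype F] (hF : Fintype.card F = q ^ 2) (hn : 3 ≤ n) {s : SU n F q} (h : pr s = pr 1) :
    ∃ c : F, sm s = c • (1 : Matrix (Fin n) (Fin n) F) := by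
  rw [eq_comm, pr_eq_iff, inv_one, one_mul] at h
  obtain ⟨c, hc1, hc2, hc⟩ := (SUBasic.mem_center_SU_iff hF hn _).1 h
  refine ⟨c, ?_⟩
  rw [hc, Matrix.smul_one_eq_diagonal]
  rfl

theorem sm_one : sm (1 : SU n F q) = 1 := rfl

theorem sm_mul (s t : SU n F q) : sm (s * t) = sm s * sm t := rfl

theorem sm_pow (t : SU n F q) (k : ℕ) : sm (t ^ k) = sm t ^ k := by
  induction k with
  | zero => rfl
  | succ k ih => rw [pow_succ, sm_mul, ih, pow_succ]

theorem pw_of_mat {s t : SU n F q} {c : F} (hc1 : c ^ n = 1) (hc2 : c ^ (q + 1) = 1) {k : ℕ}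
    (h : sm s * sm t = c • (sm t ^ k * sm s)) : Pw t k := by
  refine ⟨s, ?_⟩
  have h1 : pr (s * t) = pr (t ^ k * s) := by
    refine pr_eq_of_smul hc1 hc2 ?_
    rw [sm_mul, sm_mul, sm_pow, h]
  rw [map_mul, h1, map_mul, mul_assoc, ← map_mul, mul_inv_cancel, map_one, mul_one, map_pow]

end Cfsg.Agent.H933.OZ.Orb
end

-- part: H933/OZ/Dat
section
/-!
# Orbit data and their cost (helper933, for S4842)
-/

set_option autoImplicit false

namespace Cfsg.Agent.H933.OZ.Orb

open Cfsg Matrix Finset Cyc Cfsg.Agent.LieClassical Cfsg.Agent.CharactersDeep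

variable {F : Type} [Field F] {q n : ℕ}

theorem Pw.mod {t : SU n F q} {N a b : ℕ} (hN : pr t ^ N = 1) (h : Pw t a) (hab : a % N = b % N) :
    Pw t b := h.congr (by rw [← pow_mod hN a, ← pow_mod hN b, hab])

theorem GPw.mod {t : SU n F q} {N a b : ℕ} (hN : pr t ^ N = 1) (h : GPw t a) (hab : a % N = b % N) :
    GPw t b := h.congr (by rw [← pow_mod hN a, ← pow_mod hN b, hab])

/-- the data of an orbit -/
structure Dat [Fintype F] (t : SU n F q) (N m : ℕ) : Prop where
  gal : ∀ y ∈ orb t, ∀ k : ℕ, k.Coprime (Nat.card (PSU n F q)) → y ^ k ∈ orb t ∨ (y ^ k)⁻¹ ∈ orb t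
  pow : ∀ y ∈ orb t, y ^ N = 1
  card : Nat.card (GU n F q) ≤ m * (orb t).card
  conj : ∀ y ∈ orb t, ∀ k : ℕ, k.Coprime (Nat.card (PSU n F q)) → IsConj y (y ^ k) ∨ IsConj y⁻¹ (y ^ k)

/-- rational -/
def Rat [Fintype F] (t : SU n F q) : Prop :=
  ∀ y ∈ orb t, ∀ k : ℕ, k.Coprime (Nat.card (PSU n F q)) → IsConj y (y ^ k)

theorem coprime_mod {N M k : ℕ} (hN : N ∣ M) (hk : k.Coprime M) : (k % N).Coprime N := by
  have h1 : k.Coprime N := hk.coprime_dvd_right hN
  rwa [Nat.Coprime, ← Nat.gcd_rec, Nat.gcd_comm]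

theorem mem_orb_of_isConj [Fintype F] {t : SU n F q} {y z : PSU n F q} (hy : y ∈ orb t)
    (h : IsConj y z) : z ∈ orb t := by
  obtain ⟨g, rfl⟩ := mem_orb.1 hy
  obtain ⟨c, rfl⟩ := isConj_iff.1 h
  obtain ⟨s, rfl⟩ := QuotientGroup.mk'_surjective _ c
  refine mem_orb.2 ⟨ofSU s * g, ?_⟩
  rw [cg_mul, cg_ofSU, map_mul, map_mul, map_inv]

theorem Dat.of [Fintype F] {t : SU n F q} {N m : ℕ} (hNG : N ∣ Nat.card (PSU n F q)) (hN0 : 0 < N)
    (hN : pr t ^ N = 1) (hcard : Nat.card (GU n F q) ≤ m * (orb t).card)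
    (hP : ∀ j < N, j.Coprime N → Pw t j ∨ Pw t (N - j)) :
    Dat t N m := by
  have hconj : ∀ y ∈ orb t, ∀ k : ℕ, k.Coprime (Nat.card (PSU n F q)) →
      IsConj y (y ^ k) ∨ IsConj y⁻¹ (y ^ k) := by
    intro y hy k hk
    rcases hP (k % N) (Nat.mod_lt _ hN0) (coprime_mod hNG hk) with h | h
    · exact Or.inl (isConj_pow (h.mod hN (Nat.mod_mod _ _)) hy)
    · refine Or.inr (isConj_inv_pow h ?_ hy)
      rw [pow_add, ← pow_mod hN k, ← pow_add, Nat.sub_add_cancel (Nat.mod_lt _ hN0).le, hN]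
  refine ⟨fun y hy k hk => ?_, fun _ hy => pow_eq_one hN hy, hcard, hconj⟩
  rcases hconj y hy k hk with h | h
  · exact Or.inl (mem_orb_of_isConj hy h)
  · refine Or.inr (mem_orb_of_isConj hy ?_)
    obtain ⟨c, hc⟩ := isConj_iff.1 h
    exact isConj_iff.2 ⟨c, by rw [← hc]; group⟩

theorem Rat.of [Fintype F] {t : SU n F q} {N : ℕ} (hNG : N ∣ Nat.card (PSU n F q)) (hN0 : 0 < N)
    (hN : pr t ^ N = 1) (hP : ∀ j < N, j.Coprime N → Pw t j) : Rat t := fun _ hy k hk =>
  isConj_pow ((hP (k % N) (Nat.mod_lt _ hN0) (coprime_mod hNG hk)).mod hN (Nat.mod_mod _ _)) hy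

/-- the orbit and the inverses -/
theorem gal_two [Fintype F] {t : SU n F q} {N m : ℕ} [DecidableEq (PSU n F q)] (D : Dat t N m) :
    H695.OneZero.Gal (orb t ∪ (orb t).image fun y => y⁻¹) := by
  intro y hy k hk
  rw [mem_union, mem_image] at hy ⊢
  rcases hy with hy | ⟨z, hz, rfl⟩
  · rcases D.gal y hy k hk with h | h
    · exact Or.inl h
    · exact Or.inr ⟨_, h, inv_inv _⟩
  · rcases D.gal z hz k hk with h | h
    · exact Or.inr ⟨_, h, (inv_pow z k).symm⟩
    · exact Or.inl (by rwa [inv_pow])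

theorem normSq_inv {G : Type} [Group G] [Finite G] (χ : IrrCharacter G) (y : G) :
    Complex.normSq ((χ : G → ℂ) y⁻¹) = Complex.normSq ((χ : G → ℂ) y) := by
  rw [apply_inv, Complex.normSq_conj]

/-- **Cost of an orbit.** -/
theorem Dat.cost_aux [Fintype F] {t : SU n F q} {N m : ℕ} [DecidableEq (PSU n F q)] (D : Dat t N m)
    {χ : IrrCharacter (PSU n F q)}
    {x : PSU n F q} (h : H732.VZ.One χ x) (hx : ∀ y ∈ orb t, ¬ IsConj x y) {k : ℕ}
    (hk : ∀ y ∈ orb t, ((k : ℝ) + 1) ≤ Complex.normSq ((χ : PSU n F q → ℂ) y)) :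
    k * (orb t ∪ (orb t).image fun y => y⁻¹).card
      * Nat.card (Subgroup.centralizer ({x} : Set (PSU n F q))) ≤ Nat.card (PSU n F q) := by
  have := Fintype.ofFinite (PSU n F q)
  refine OZ.cost h (gal_two D) ?_ ?_
  · intro y hy
    rw [mem_union, mem_image] at hy
    rcases hy with hy | ⟨z, hz, rfl⟩
    · exact hx y hy
    · intro hxz
      have h1 : (χ : PSU n F q → ℂ) z⁻¹ = 0 := by rw [← apply_eq_of_isConj χ hxz, h.zero]
      rw [apply_inv, map_eq_zero] at h1
      exact hx z hz (h.uniq z h1)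
  · intro y hy
    rw [mem_union, mem_image] at hy
    rcases hy with hy | ⟨z, hz, rfl⟩
    · exact hk y hy
    · rw [normSq_inv]
      exact hk z hz

/-- **Cost of an orbit.** -/
theorem Dat.cost [Fintype F] {t : SU n F q} {N m : ℕ} (D : Dat t N m) {χ : IrrCharacter (PSU n F q)}
    {x : PSU n F q} (h : H732.VZ.One χ x) (hx : ∀ y ∈ orb t, ¬ IsConj x y) {k : ℕ}
    (hk : ∀ y ∈ orb t, ((k : ℝ) + 1) ≤ Complex.normSq ((χ : PSU n F q → ℂ) y)) :
    k * Nat.card (GU n F q) * Nat.card (Subgroup.centralizer ({x} : Set (PSU n F q)))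
      ≤ m * Nat.card (PSU n F q) := by
  classical
  have h1 := D.cost_aux h hx hk
  have h2 : (orb t).card ≤ (orb t ∪ (orb t).image fun y => y⁻¹).card :=
    Finset.card_le_card subset_union_left
  calc k * Nat.card (GU n F q) * Nat.card (Subgroup.centralizer ({x} : Set (PSU n F q)))
      ≤ k * (m * (orb t ∪ (orb t).image fun y => y⁻¹).card)
          * Nat.card (Subgroup.centralizer ({x} : Set (PSU n F q))) :=
        Nat.mul_le_mul_right _ (Nat.mul_le_mul_left _ (D.card.trans (Nat.mul_le_mul_left _ h2)))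
    _ = m * (k * (orb t ∪ (orb t).image fun y => y⁻¹).card
          * Nat.card (Subgroup.centralizer ({x} : Set (PSU n F q)))) := by ring
    _ ≤ _ := Nat.mul_le_mul_left _ h1

/-- **Cost of an orbit of non-real elements.** -/
theorem Dat.cost_two [Fintype F] {t : SU n F q} {N m : ℕ} (D : Dat t N m)
    (hinv : ∀ y ∈ orb t, y⁻¹ ∉ orb t) {χ : IrrCharacter (PSU n F q)}
    {x : PSU n F q} (h : H732.VZ.One χ x) (hx : ∀ y ∈ orb t, ¬ IsConj x y) {k : ℕ}
    (hk : ∀ y ∈ orb t, ((k : ℝ) + 1) ≤ Complex.normSq ((χ : PSU n F q → ℂ) y)) :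
    2 * k * Nat.card (GU n F q) * Nat.card (Subgroup.centralizer ({x} : Set (PSU n F q)))
      ≤ m * Nat.card (PSU n F q) := by
  classical
  have h1 := D.cost_aux h hx hk
  have h2 : (orb t ∪ (orb t).image fun y => y⁻¹).card = 2 * (orb t).card := by
    rw [Finset.card_union_of_disjoint, Finset.card_image_of_injective _ inv_injective, two_mul]
    rw [Finset.disjoint_left]
    intro y hy hy'
    obtain ⟨z, hz, rfl⟩ := mem_image.1 hy'
    exact hinv z hz hy
  rw [h2] at h1
  calc 2 * k * Nat.card (GU n F q) * Nat.card (Subgroup.centralizer ({x} : Set (PSU n F q)))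
      ≤ 2 * k * (m * (orb t).card)
          * Nat.card (Subgroup.centralizer ({x} : Set (PSU n F q))) :=
        Nat.mul_le_mul_right _ (Nat.mul_le_mul_left _ D.card)
    _ = m * (k * (2 * (orb t).card)
          * Nat.card (Subgroup.centralizer ({x} : Set (PSU n F q)))) := by ring
    _ ≤ _ := Nat.mul_le_mul_left _ h1

/-- the squared absolute value on an orbit of `r`-elements -/
theorem Dat.normSq [Fintype F] {t : SU n F q} {r k m : ℕ} (D : Dat t (r ^ k) m) (hr : r.Prime)
    (χ : IrrCharacter (PSU n F q)) {y : PSU n F q} (hy : y ∈ orb t) :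
    ∃ a : ℕ, Complex.normSq ((χ : PSU n F q → ℂ) y) = a ∧
      (r : ℤ) ∣ (a : ℤ) - (charDegree (χ : PSU n F q → ℂ) : ℤ) ^ 2 := by
  obtain ⟨a, ha, ha'⟩ := exists_nat_of_conj χ (D.conj y hy)
  exact ⟨a, ha, dvd_sub_sq hr χ (D.pow y hy) ha'⟩

/-- the value on a rational orbit of `r`-elements -/
theorem Dat.val [Fintype F] {t : SU n F q} {r k m : ℕ} (D : Dat t (r ^ k) m) (hR : Rat t) (hr : r.Prime)
    (χ : IrrCharacter (PSU n F q)) {y : PSU n F q} (hy : y ∈ orb t) :
    ∃ a : ℤ, (χ : PSU n F q → ℂ) y = a ∧ (r : ℤ) ∣ a - (charDegree (χ : PSU n F q → ℂ) : ℤ) := by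
  obtain ⟨a, ha⟩ := exists_int_of_conj χ (hR y hy)
  exact ⟨a, ha, dvd_sub_deg hr χ (D.pow y hy) ha⟩

/-- `r` divides the degree, no zero on the rational orbit: `|χ|² ≥ r²` there. -/
theorem Dat.sq_le [Fintype F] {t : SU n F q} {r k m : ℕ} (D : Dat t (r ^ k) m) (hR : Rat t) (hr : r.Prime)
    {χ : IrrCharacter (PSU n F q)} {x : PSU n F q} (h : H732.VZ.One χ x) (hx : ∀ y ∈ orb t, ¬ IsConj x y)
    (hd : r ∣ charDegree (χ : PSU n F q → ℂ)) {y : PSU n F q} (hy : y ∈ orb t) :
    ((r : ℝ) ^ 2) ≤ Complex.normSq ((χ : PSU n F q → ℂ) y) := by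
  obtain ⟨a, ha, hra⟩ := D.val hR hr χ hy
  have h0 : a ≠ 0 := by
    rintro rfl
    exact hx y hy (h.uniq y (by rw [ha, Int.cast_zero]))
  have h1 : (r : ℤ) ∣ a := by
    have h2 : (r : ℤ) ∣ (charDegree (χ : PSU n F q → ℂ) : ℤ) := by exact_mod_cast hd
    simpa only [_root_.sub_add_cancel] using dvd_add hra h2
  have h2 : (r : ℤ) ≤ |a| := Int.le_of_dvd (abs_pos.2 h0) ((dvd_abs _ _).2 h1)
  have h3 : Complex.normSq ((χ : PSU n F q → ℂ) y) = ((a : ℝ)) ^ 2 := by
    rw [ha, Complex.normSq_intCast]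
    ring
  rw [h3, ← sq_abs (a : ℝ)]
  have h4 : (r : ℝ) ≤ |(a : ℝ)| := by exact_mod_cast h2
  exact pow_le_pow_left₀ (Nat.cast_nonneg _) h4 2

/-- `|χ|²` on an orbit of `r`-elements is at least `s` if no smaller positive number is congruent to
`χ(1)²`. -/
theorem Dat.le_normSq [Fintype F] {t : SU n F q} {r k m : ℕ} (D : Dat t (r ^ k) m) (hr : r.Prime)
    {χ : IrrCharacter (PSU n F q)} {x : PSU n F q} (h : H732.VZ.One χ x) (hx : ∀ y ∈ orb t, ¬ IsConj x y)
    {s : ℕ} (hs : ∀ a : ℕ, 0 < a → a < s → ¬ (r : ℤ) ∣ (a : ℤ) - (charDegree (χ : PSU n F q → ℂ) : ℤ) ^ 2)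
    {y : PSU n F q} (hy : y ∈ orb t) : (s : ℝ) ≤ Complex.normSq ((χ : PSU n F q → ℂ) y) := by
  obtain ⟨a, ha, hra⟩ := D.normSq hr χ hy
  rw [ha]
  have h0 : a ≠ 0 := by
    rintro rfl
    rw [Nat.cast_zero] at ha
    exact hx y hy (h.uniq y (Complex.normSq_eq_zero.1 ha))
  by_contra hcon
  rw [not_le] at hcon
  exact hs a (Nat.pos_of_ne_zero h0) (by exact_mod_cast hcon) hra

theorem pow_ne_one [Fintype F] {t : SU n F q} {k : ℕ} (ht : pr t ^ k ≠ 1) {y : PSU n F q} (hy : y ∈ orb t) :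
    y ^ k ≠ 1 := by
  obtain ⟨g, rfl⟩ := mem_orb.1 hy
  intro h
  apply ht
  have h1 : pr (cg g (t ^ k)) = pr 1 := by rw [map_pow, map_pow, h, map_one]
  have h2 := pr_cg g⁻¹ h1
  rw [← cg_mul, inv_mul_cancel, cg_one, map_one, map_one, map_pow] at h2
  exact h2

theorem trace_cg (g : GU n F q) (t : SU n F q) : (sm (cg g t)).trace = (sm t).trace := by
  rw [sm_cg, Matrix.trace_mul_comm, ← mul_assoc, gm_inv_mul, one_mul]

theorem trace_of_pr_eq [Fintype F] (hF : Fintype.card F = q ^ 2) (hn : 3 ≤ n) {s t : SU n F q}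
    (h : pr s = pr t) : ∃ c : F, c ^ n = 1 ∧ c ^ (q + 1) = 1 ∧ (sm t).trace = c * (sm s).trace := by
  rw [pr_eq_iff] at h
  obtain ⟨c, hc1, hc2, hc⟩ := (SUBasic.mem_center_SU_iff hF hn _).1 h
  refine ⟨c, hc1, hc2, ?_⟩
  have h1 : t = s * SUBasic.suScalar q c hc1 hc2 := by rw [← hc, mul_inv_cancel_left]
  rw [h1]
  have h2 : sm (s * SUBasic.suScalar q c hc1 hc2) = sm s * Matrix.diagonal fun _ => c := rfl
  rw [h2, ← Matrix.smul_one_eq_diagonal, Matrix.mul_smul, mul_one, Matrix.trace_smul, smul_eq_mul]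

/-- An orbit without inverses, by traces. -/
theorem inv_notMem [Fintype F] (hF : Fintype.card F = q ^ 2) (hn : 3 ≤ n) {t : SU n F q}
    (h : ∀ c : F, c ^ n = 1 → c ^ (q + 1) = 1 → (sm t).trace ≠ c * (sm t⁻¹).trace) {y : PSU n F q}
    (hy : y ∈ orb t) : y⁻¹ ∉ orb t := by
  intro hy'
  obtain ⟨g, rfl⟩ := mem_orb.1 hy
  obtain ⟨g', hg'⟩ := mem_orb.1 hy'
  rw [← map_inv, ← map_inv] at hg'
  obtain ⟨c, hc1, hc2, hc⟩ := trace_of_pr_eq hF hn hg'.symm
  rw [trace_cg, trace_cg] at hc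
  exact h c hc1 hc2 hc

/-- The zero class has a centralizer of order at least four. -/
theorem four_le {G : Type} [Group G] [Finite G]
    (h2 : 2 ^ 2 ∣ Nat.card G) (h3 : 3 ^ 2 ∣ Nat.card G) {χ : IrrCharacter G} {x : G}
    (h : H732.VZ.One χ x) : 4 ≤ Nat.card (Subgroup.centralizer ({x} : Set G)) := by
  have hx1 : x ≠ 1 := by
    rintro rfl
    have h1 := h.zero
    have h4 : (charDegree (χ : G → ℂ) : ℂ) = 0 := by
      rw [H686.CharKit.charDegree_irr χ]
      exact h1
    have h5 : 0 < charDegree (χ : G → ℂ) := H686.CharKit.charDegree_pos χ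
    rw [Nat.cast_eq_zero] at h4
    omega
  have hlt : 1 < Nat.card (Subgroup.centralizer ({x} : Set G)) := by
    have hn : Nontrivial (Subgroup.centralizer ({x} : Set G)) := by
      refine ⟨⟨⟨x, Subgroup.mem_centralizer_singleton_iff.2 rfl⟩, 1, fun h => hx1 (congrArg Subtype.val h)⟩⟩
    exact Finite.one_lt_card_iff_nontrivial.2 hn
  have h4 := card_centralizer_ne Nat.prime_two h2 x
  have h5 := card_centralizer_ne Nat.prime_three h3 x
  omega

end Cfsg.Agent.H933.OZ.Orb
end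

-- part: H933/OZ/OpsF
section
/-!
# Raw operations for the fields with four and nine elements (helper933, for S4842)
-/

set_option autoImplicit false

namespace Cfsg.Agent.H933.OZ.Cyc

open Cfsg Matrix Finset

/-! ### four elements -/

section four

open Cfsg.Agent.SporadicA.FieldFour

/-- the Frobenius automorphism -/
def cj4 : F4 → F4
  | .z => .z
  | .o => .o
  | .w => .v
  | .v => .w

def eq4 : F4 → F4 → Bool
  | .z, .z => true
  | .o, .o => true
  | .w, .w => true
  | .v, .v => true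
  | _, _ => false

def seq4 : F4 → (F4 → ℕ) → ℕ
  | .z, k => k .z
  | .o, k => k .o
  | .w, k => k .w
  | .v, k => k .v

def O4 : Ops F4 := ⟨F4.add, F4.mul, cj4, eq4, .z, seq4⟩

theorem cj4_eq : ∀ x : F4, cj4 x = x ^ 2 := by decide

theorem law4 : Law O4 (F := F4) 2 id where
  add _ _ := rfl
  mul _ _ := rfl
  cj := cj4_eq
  eq := by decide
  zero := rfl
  seq x k := by cases x <;> rfl

def els4 : List F4 := [.z, .o, .w, .v]

theorem els4_spec (f : F4 → ℕ) : ∑ a : F4, f (id a) ≤ els4.foldr (fun a s => f a + s) 0 := le_of_eq rfl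

end four

/-! ### nine elements -/

section nine

open Cfsg.Agent.SporadicStructure.FieldNine

/-- the codes of the elements of the field with nine elements -/
inductive N9 : Type
  | a0 | a1 | a2 | a3 | a4 | a5 | a6 | a7 | a8
  deriving DecidableEq

namespace N9

/-- `x + 1` -/
def s1 : N9 → N9
  | a0 => a1 | a1 => a2 | a2 => a0 | a3 => a4 | a4 => a5 | a5 => a3 | a6 => a7 | a7 => a8 | a8 => a6

/-- `x + i` -/
def s3 : N9 → N9
  | a0 => a3 | a1 => a4 | a2 => a5 | a3 => a6 | a4 => a7 | a5 => a8 | a6 => a0 | a7 => a1 | a8 => a2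

def add : N9 → N9 → N9
  | a0, y => y
  | a1, y => s1 y
  | a2, y => s1 (s1 y)
  | a3, y => s3 y
  | a4, y => s1 (s3 y)
  | a5, y => s1 (s1 (s3 y))
  | a6, y => s3 (s3 y)
  | a7, y => s1 (s3 (s3 y))
  | a8, y => s1 (s1 (s3 (s3 y)))

def neg : N9 → N9
  | a0 => a0 | a1 => a2 | a2 => a1 | a3 => a6 | a4 => a8 | a5 => a7 | a6 => a3 | a7 => a5 | a8 => a4

/-- `i x` -/
def mi : N9 → N9
  | a0 => a0 | a1 => a3 | a2 => a6 | a3 => a2 | a4 => a5 | a5 => a8 | a6 => a1 | a7 => a4 | a8 => a7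

/-- `(1 + i) x` -/
def m4 : N9 → N9
  | a0 => a0 | a1 => a4 | a2 => a8 | a3 => a5 | a4 => a6 | a5 => a1 | a6 => a7 | a7 => a2 | a8 => a3

def mul : N9 → N9 → N9
  | a0, _ => a0
  | a1, y => y
  | a2, y => neg y
  | a3, y => mi y
  | a4, y => m4 y
  | a5, y => mi (m4 y)
  | a6, y => neg (mi y)
  | a7, y => neg (mi (m4 y))
  | a8, y => neg (m4 y)

def cj : N9 → N9
  | a0 => a0 | a1 => a1 | a2 => a2 | a3 => a6 | a4 => a7 | a5 => a8 | a6 => a3 | a7 => a4 | a8 => a5

def seq : N9 → (N9 → ℕ) → ℕ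
  | a0, k => k a0
  | a1, k => k a1
  | a2, k => k a2
  | a3, k => k a3
  | a4, k => k a4
  | a5, k => k a5
  | a6, k => k a6
  | a7, k => k a7
  | a8, k => k a8

def eq : N9 → N9 → Bool
  | a0, a0 => true
  | a1, a1 => true
  | a2, a2 => true
  | a3, a3 => true
  | a4, a4 => true
  | a5, a5 => true
  | a6, a6 => true
  | a7, a7 => true
  | a8, a8 => true
  | _, _ => false

end N9

/-- the Frobenius automorphism -/
def cj9 (x : K9) : K9 := x * x * x

theorem cj9_eq : ∀ x : K9, cj9 x = x ^ 3 := by decide +kernel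

end nine

end Cfsg.Agent.H933.OZ.Cyc
end

-- part: H933/OZ/U42Data
section
/-!
# Orbit data for `PSU 4` over the field with `4` elements (helper933, for S4842; generated)
-/

set_option autoImplicit false

namespace Cfsg.Agent.H933.OZ.U42

open Cfsg Matrix Orb Cyc
open Cfsg.Agent.SporadicA.FieldFour F4

set_option maxRecDepth 100000

abbrev M := Matrix (Fin 4) (Fin 4) F4

theorem hF : Fintype.card F4 = 2 ^ 2 := rfl

theorem cs_spec : ∀ c : F4, c ^ 4 = 1 → c ^ (2 + 1) = 1 → c ∈ [o] := by decide +kernel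

theorem cs_norm : ∀ c ∈ [o], c ^ (2 + 1) = 1 := by decide +kernel

theorem card_G : Nat.card (PSU 4 F4 2) = 25920 := by
  have h := S0280.result hF 4 (by norm_num)
  norm_num only [Finset.prod_range_succ, _root_.one_mul, _root_.Finset.range_one, _root_.Finset.prod_singleton, _root_.ite_true, _root_.ite_false] at h
  omega

def u4M : M := !![w, z, w, w; w, v, w, z; o, w, z, o; z, w, o, o]
theorem u4_un : u4Mᵀ * u4M.map cj4 = 1 := by decide +kernel
theorem u4_det : u4M.det = 1 := by decide +kernel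
/-- element -/
def u4 : SU 4 F4 2 := mkSU cj4_eq u4M u4_un u4_det hF
theorem sm_u4 : sm u4 = u4M := rfl

theorem u4_p1 : u4M ^ 1 = u4M := pow_one _
def u4M2 : M := !![o, z, o, v; z, o, w, o; o, v, z, v; w, o, w, z]
theorem u4_m2 : u4M * u4M = u4M2 := by decide +kernel
theorem u4_p2 : u4M ^ 2 = u4M2 :=
  (pow_add u4M 1 1).trans ((congrArg₂ (· * ·) u4_p1 u4_p1).trans u4_m2)
def u4M3 : M := !![v, v, o, z; z, w, v, v; v, v, z, o; v, z, o, o]
theorem u4_m3 : u4M2 * u4M = u4M3 := by decide +kernel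
theorem u4_p3 : u4M ^ 3 = u4M3 :=
  (pow_add u4M 2 1).trans ((congrArg₂ (· * ·) u4_p2 u4_p1).trans u4_m3)
def u4M4 : M := !![o, z, z, z; z, o, z, z; z, z, o, z; z, z, z, o]
theorem u4_m4 : u4M3 * u4M = u4M4 := by decide +kernel
theorem u4_p4 : u4M ^ 4 = u4M4 :=
  (pow_add u4M 3 1).trans ((congrArg₂ (· * ·) u4_p3 u4_p1).trans u4_m4)

theorem u4_pow : pr u4 ^ 4 = 1 := by
  rw [← map_pow, ← map_one pr]
  refine pr_eq_of_smul (c := o) (by decide +kernel) (by decide +kernel) ?_
  rw [sm_pow, sm_u4, u4_p4]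
  decide +kernel

theorem u4_ne : pr u4 ^ 2 ≠ 1 := by
  intro h
  rw [← map_pow, ← map_one pr] at h
  obtain ⟨c, hc⟩ := smul_of_pr_eq hF (by norm_num) h
  rw [sm_pow, sm_u4, u4_p2] at hc
  revert c
  decide +kernel

def u4E : M := !![z, w, v, z; z, z, o, v; z, o, v, o; o, o, z, o]
def u4E' : M := !![v, w, z, o; o, o, v, z; o, v, w, z; w, v, v, z]
def u4R : List (List F4) := [[.w, .z, .w, .w], [.w, .v, .w, .z], [.o, .w, .z, .o], [.z, .w, .o, .o]]
def u4tg : List (List F4) := [[.o, .o, .z, .o]]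
theorem u4_card : Nat.card (GU 4 F4 2) ≤ 24 * (orb u4).card :=
  card_GU_le hF (by norm_num) u4 cs_spec
    (card_le' law4 hF els4_spec (e := ![z, z, z, o]) (E := u4E) (E' := u4E') (by decide +kernel) (by decide +kernel)
      (by decide +kernel) cs_norm (R := u4R) (by decide +kernel) (tg := u4tg) (by decide +kernel)
      (by decide +kernel))

def u4S3 : M := !![z, v, z, z; w, z, z, z; z, z, o, z; z, z, z, o]
theorem u4_w3 : Pw u4 3 :=
  pw_of_mat (s := mkSU cj4_eq u4S3 (by decide +kernel) (by decide +kernel) hF) (c := o)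
    (by decide +kernel) (by decide +kernel) (by
      rw [sm_u4, u4_p3]
      decide +kernel)

theorem u4_rw : ∀ j < 4, j.Coprime 4 → Pw u4 j := by
  intro j hj hc
  interval_cases j
  · exact absurd hc (by decide)
  · exact Pw.mod u4_pow (Pw.one _) rfl
  · exact absurd hc (by decide)
  · exact Pw.mod u4_pow u4_w3 rfl

theorem u4_rat : Rat u4 := Rat.of (N := 4) (by rw [card_G]; decide) (by norm_num) u4_pow u4_rw

theorem u4_dat : Dat u4 (2 ^ 2) 24 :=
  Dat.of (N := 4) (by rw [card_G]; decide) (by norm_num) u4_pow u4_card fun j hj hc => Or.inl (u4_rw j hj hc)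

def t9M : M := !![o, v, v, z; z, v, v, v; o, z, v, v; o, v, z, v]
theorem t9_un : t9Mᵀ * t9M.map cj4 = 1 := by decide +kernel
theorem t9_det : t9M.det = 1 := by decide +kernel
/-- element -/
def t9 : SU 4 F4 2 := mkSU cj4_eq t9M t9_un t9_det hF
theorem sm_t9 : sm t9 = t9M := rfl

theorem t9_p1 : t9M ^ 1 = t9M := pow_one _
def t9M2 : M := !![w, o, v, z; z, z, z, w; o, o, o, z; w, v, o, z]
theorem t9_m2 : t9M * t9M = t9M2 := by decide +kernel
theorem t9_p2 : t9M ^ 2 = t9M2 :=
  (pow_add t9M 1 1).trans ((congrArg₂ (· * ·) t9_p1 t9_p1).trans t9_m2)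
def t9M3 : M := !![o, w, z, o; w, o, z, o; z, z, v, z; v, v, z, o]
theorem t9_m3 : t9M2 * t9M = t9M3 := by decide +kernel
theorem t9_p3 : t9M ^ 3 = t9M3 :=
  (pow_add t9M 2 1).trans ((congrArg₂ (· * ·) t9_p2 t9_p1).trans t9_m3)
def t9M4 : M := !![z, o, w, w; v, o, w, z; v, z, w, w; w, v, z, o]
theorem t9_m4 : t9M3 * t9M = t9M4 := by decide +kernel
theorem t9_p4 : t9M ^ 4 = t9M4 :=
  (pow_add t9M 3 1).trans ((congrArg₂ (· * ·) t9_p3 t9_p1).trans t9_m4)
def t9M6 : M := !![o, v, z, w; v, o, z, w; z, z, w, z; o, o, z, o]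
theorem t9_m6 : t9M4 * t9M2 = t9M6 := by decide +kernel
theorem t9_p6 : t9M ^ 6 = t9M6 :=
  (pow_add t9M 4 2).trans ((congrArg₂ (· * ·) t9_p4 t9_p2).trans t9_m6)
def t9M9 : M := !![o, z, z, z; z, o, z, z; z, z, o, z; z, z, z, o]
theorem t9_m9 : t9M6 * t9M3 = t9M9 := by decide +kernel
theorem t9_p9 : t9M ^ 9 = t9M9 :=
  (pow_add t9M 6 3).trans ((congrArg₂ (· * ·) t9_p6 t9_p3).trans t9_m9)

theorem t9_pow : pr t9 ^ 9 = 1 := by
  rw [← map_pow, ← map_one pr]
  refine pr_eq_of_smul (c := o) (by decide +kernel) (by decide +kernel) ?_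
  rw [sm_pow, sm_t9, t9_p9]
  decide +kernel

def t9E : M := !![z, z, z, o; z, v, w, o; z, v, z, z; o, v, z, o]
def t9E' : M := !![o, z, o, o; z, z, w, z; v, v, v, z; o, z, z, z]
def t9R : List (List F4) := [[.o, .v, .v, .z], [.z, .v, .v, .v], [.o, .z, .v, .v], [.o, .v, .z, .v]]
def t9tg : List (List F4) := [[.o, .w, .z, .o]]
theorem t9_card : Nat.card (GU 4 F4 2) ≤ 27 * (orb t9).card :=
  card_GU_le hF (by norm_num) t9 cs_spec
    (card_le' law4 hF els4_spec (e := ![z, z, z, o]) (E := t9E) (E' := t9E') (by decide +kernel) (by decide +kernel)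
      (by decide +kernel) cs_norm (R := t9R) (by decide +kernel) (tg := t9tg) (by decide +kernel)
      (by decide +kernel))

def t9S4 : M := !![o, w, w, z; o, z, w, o; z, v, v, w; o, w, z, o]
theorem t9_w4 : Pw t9 4 :=
  pw_of_mat (s := mkSU cj4_eq t9S4 (by decide +kernel) (by decide +kernel) hF) (c := o)
    (by decide +kernel) (by decide +kernel) (by
      rw [sm_t9, t9_p4]
      decide +kernel)

theorem t9_rw : ∀ j < 9, j.Coprime 9 → Pw t9 j ∨ Pw t9 (9 - j) := by
  intro j hj hc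
  interval_cases j
  · exact absurd hc (by decide)
  · exact Or.inl (Pw.mod t9_pow (Pw.one _) rfl)
  · exact Or.inr (Pw.mod t9_pow (t9_w4.mul t9_w4) rfl)
  · exact absurd hc (by decide)
  · exact Or.inl (Pw.mod t9_pow t9_w4 rfl)
  · exact Or.inr (Pw.mod t9_pow t9_w4 rfl)
  · exact absurd hc (by decide)
  · exact Or.inl (Pw.mod t9_pow (t9_w4.mul t9_w4) rfl)
  · exact Or.inr (Pw.mod t9_pow (Pw.one _) rfl)

theorem t9_dat : Dat t9 (3 ^ 2) 27 :=
  Dat.of (N := 9) (by rw [card_G]; decide) (by norm_num) t9_pow t9_card t9_rw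

def y6M : M := !![o, o, w, z; o, z, w, w; z, v, o, o; v, v, z, o]
theorem y6_un : y6Mᵀ * y6M.map cj4 = 1 := by decide +kernel
theorem y6_det : y6M.det = 1 := by decide +kernel
/-- element -/
def y6 : SU 4 F4 2 := mkSU cj4_eq y6M y6_un y6_det hF
theorem sm_y6 : sm y6 = y6M := rfl

theorem y6_p1 : y6M ^ 1 = y6M := pow_one _
def y6M2 : M := !![z, z, w, z; z, o, z, z; z, z, z, o; v, z, z, z]
theorem y6_m2 : y6M * y6M = y6M2 := by decide +kernel
theorem y6_p2 : y6M ^ 2 = y6M2 :=
  (pow_add y6M 1 1).trans ((congrArg₂ (· * ·) y6_p1 y6_p1).trans y6_m2)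
def y6M3 : M := !![z, o, w, w; o, z, w, w; v, v, z, o; v, v, o, z]
theorem y6_m3 : y6M2 * y6M = y6M3 := by decide +kernel
theorem y6_p3 : y6M ^ 3 = y6M3 :=
  (pow_add y6M 2 1).trans ((congrArg₂ (· * ·) y6_p2 y6_p1).trans y6_m3)
def y6M5 : M := !![o, o, z, w; o, z, w, w; v, v, o, z; z, v, o, o]
theorem y6_m5 : y6M3 * y6M2 = y6M5 := by decide +kernel
theorem y6_p5 : y6M ^ 5 = y6M5 :=
  (pow_add y6M 3 2).trans ((congrArg₂ (· * ·) y6_p3 y6_p2).trans y6_m5)
def y6M6 : M := !![o, z, z, z; z, o, z, z; z, z, o, z; z, z, z, o]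
theorem y6_m6 : y6M5 * y6M = y6M6 := by decide +kernel
theorem y6_p6 : y6M ^ 6 = y6M6 :=
  (pow_add y6M 5 1).trans ((congrArg₂ (· * ·) y6_p5 y6_p1).trans y6_m6)

theorem y6_pow : pr y6 ^ 6 = 1 := by
  rw [← map_pow, ← map_one pr]
  refine pr_eq_of_smul (c := o) (by decide +kernel) (by decide +kernel) ?_
  rw [sm_pow, sm_y6, y6_p6]
  decide +kernel

def y6E : M := !![z, z, z, w; z, w, z, w; z, o, o, o; o, o, z, z]
def y6E' : M := !![v, v, z, o; v, v, z, z; z, v, o, z; v, z, z, z]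
def y6R : List (List F4) := [[.o, .o, .w, .z], [.o, .z, .w, .w], [.z, .v, .o, .o], [.v, .v, .z, .o]]
def y6tg : List (List F4) := [[.o, .o, .z, .z]]
theorem y6_card : Nat.card (GU 4 F4 2) ≤ 54 * (orb y6).card :=
  card_GU_le hF (by norm_num) y6 cs_spec
    (card_le' law4 hF els4_spec (e := ![z, z, z, o]) (E := y6E) (E' := y6E') (by decide +kernel) (by decide +kernel)
      (by decide +kernel) cs_norm (R := y6R) (by decide +kernel) (tg := y6tg) (by decide +kernel)
      (by decide +kernel))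

def y6S5 : M := !![z, z, w, z; z, o, z, z; v, z, z, z; z, z, z, o]
theorem y6_w5 : Pw y6 5 :=
  pw_of_mat (s := mkSU cj4_eq y6S5 (by decide +kernel) (by decide +kernel) hF) (c := o)
    (by decide +kernel) (by decide +kernel) (by
      rw [sm_y6, y6_p5]
      decide +kernel)

theorem y6_rw : ∀ j < 6, j.Coprime 6 → Pw y6 j := by
  intro j hj hc
  interval_cases j
  · exact absurd hc (by decide)
  · exact Pw.mod y6_pow (Pw.one _) rfl
  · exact absurd hc (by decide)
  · exact absurd hc (by decide)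
  · exact absurd hc (by decide)
  · exact Pw.mod y6_pow y6_w5 rfl

theorem y6_rat : Rat y6 := Rat.of (N := 6) (by rw [card_G]; decide) (by norm_num) y6_pow y6_rw

theorem y6_dat : Dat y6 6 54 :=
  Dat.of (N := 6) (by rw [card_G]; decide) (by norm_num) y6_pow y6_card fun j hj hc => Or.inl (y6_rw j hj hc)

def a1M : M := !![z, v, o, w; w, o, z, v; o, z, o, w; v, w, v, z]
theorem a1_un : a1Mᵀ * a1M.map cj4 = 1 := by decide +kernel
theorem a1_det : a1M.det = 1 := by decide +kernel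
/-- element -/
def a1 : SU 4 F4 2 := mkSU cj4_eq a1M a1_un a1_det hF
theorem sm_a1 : sm a1 = a1M := rfl

def a2M : M := !![o, o, w, z; o, o, z, w; v, z, o, o; z, v, o, o]
theorem a2_un : a2Mᵀ * a2M.map cj4 = 1 := by decide +kernel
theorem a2_det : a2M.det = 1 := by decide +kernel
/-- element -/
def a2 : SU 4 F4 2 := mkSU cj4_eq a2M a2_un a2_det hF
theorem sm_a2 : sm a2 = a2M := rfl

def b1M : M := !![w, o, z, v; z, v, o, w; v, w, v, z; o, z, o, w]
theorem b1_un : b1Mᵀ * b1M.map cj4 = 1 := by decide +kernel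
theorem b1_det : b1M.det = 1 := by decide +kernel
/-- element -/
def b1 : SU 4 F4 2 := mkSU cj4_eq b1M b1_un b1_det hF
theorem sm_b1 : sm b1 = b1M := rfl

def b2M : M := !![o, z, v, v; z, o, v, v; w, w, z, o; w, w, o, z]
theorem b2_un : b2Mᵀ * b2M.map cj4 = 1 := by decide +kernel
theorem b2_det : b2M.det = 1 := by decide +kernel
/-- element -/
def b2 : SU 4 F4 2 := mkSU cj4_eq b2M b2_un b2_det hF
theorem sm_b2 : sm b2 = b2M := rfl

def t9I : M := !![o, z, o, o; w, w, z, w; w, w, w, z; z, w, w, w]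

/-- the transvection -/
def zz : SU 4 F4 2 := y6 ^ 3

theorem sm_zz : sm zz = y6M3 := by
  rw [zz, sm_pow, sm_y6, y6_p3]

theorem zz_sq : zz * zz = 1 := by
  apply sm_inj
  simp only [sm_mul, sm_one, sm_zz, sm_a1, sm_a2, sm_b1, sm_b2]
  decide +kernel

theorem a1_sq : a1 * a1 = 1 := by
  apply sm_inj
  simp only [sm_mul, sm_one, sm_zz, sm_a1, sm_a2, sm_b1, sm_b2]
  decide +kernel

theorem a2_sq : a2 * a2 = 1 := by
  apply sm_inj
  simp only [sm_mul, sm_one, sm_zz, sm_a1, sm_a2, sm_b1, sm_b2]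
  decide +kernel

theorem zz_a1 : zz * a1 = a1 * zz := by
  apply sm_inj
  simp only [sm_mul, sm_one, sm_zz, sm_a1, sm_a2, sm_b1, sm_b2]
  decide +kernel

theorem zz_a2 : zz * a2 = a2 * zz := by
  apply sm_inj
  simp only [sm_mul, sm_one, sm_zz, sm_a1, sm_a2, sm_b1, sm_b2]
  decide +kernel

theorem a1_a2 : a1 * a2 = a2 * a1 := by
  apply sm_inj
  simp only [sm_mul, sm_one, sm_zz, sm_a1, sm_a2, sm_b1, sm_b2]
  decide +kernel

theorem b1_a1 : b1 * a1 = zz * a1 * b1 := by
  apply sm_inj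
  simp only [sm_mul, sm_one, sm_zz, sm_a1, sm_a2, sm_b1, sm_b2]
  decide +kernel

theorem b1_a2 : b1 * a2 = a2 * b1 := by
  apply sm_inj
  simp only [sm_mul, sm_one, sm_zz, sm_a1, sm_a2, sm_b1, sm_b2]
  decide +kernel

theorem b2_a2 : b2 * a2 = zz * a2 * b2 := by
  apply sm_inj
  simp only [sm_mul, sm_one, sm_zz, sm_a1, sm_a2, sm_b1, sm_b2]
  decide +kernel

theorem t9_inv {y : PSU 4 F4 2} (hy : y ∈ orb t9) : y⁻¹ ∉ orb t9 := by
  have h1 : t9⁻¹ = mkSU cj4_eq t9I (by decide +kernel) (by decide +kernel) hF := by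
    rw [inv_eq_iff_mul_eq_one]
    apply sm_inj
    change t9M * t9I = 1
    decide +kernel
  refine inv_notMem hF (by norm_num) ?_ hy
  rw [h1]
  change ∀ c : F4, c ^ 4 = 1 → c ^ (2 + 1) = 1 → t9M.trace ≠ c * t9I.trace
  decide +kernel

end Cfsg.Agent.H933.OZ.U42
end

-- part: H933/OZ/Fin
section
/-!
# Closing lemmas for the small unitary groups (helper933, for S4842)
-/

set_option autoImplicit false

namespace Cfsg.Agent.H933.OZ

open Cfsg Cfsg.Agent.Characters Cfsg.Agent.CharactersDeep Cfsg.Agent.H732.VZ Finset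
open Cfsg.Agent.H686.CharKit

universe u

variable {G : Type u} [Group G]

theorem pow_eq_one_of_isConj {x z : G} (h : IsConj x z) {k : ℕ} (hz : z ^ k = 1) : x ^ k = 1 := by
  obtain ⟨c, hc⟩ := isConj_iff.1 h
  have h1 : (c * x * c⁻¹) ^ k = 1 := by rw [hc, hz]
  rw [conj_pow] at h1
  have h2 : c⁻¹ * (c * x ^ k * c⁻¹) * c = 1 := by rw [h1]; group
  rw [← h2]
  group

/-- **Burnside.** Degree a prime power: the zero class has order the prime. -/
theorem pow_eq_one_of_deg [Finite G] [IsSimpleGroup G] (hna : ¬ IsMulCommutative G) {r : ℕ} (hr : r.Prime)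
    (hG : r ∣ Nat.card G) {χ : IrrCharacter G} {x : G} (h : _root_.Cfsg.Agent.H732.VZ.One χ x) {i : ℕ}
    (hd : charDegree (χ : G → ℂ) = r ^ i) : x ^ r = 1 := by
  have : Fact r.Prime := ⟨hr⟩
  let P : Sylow r G := default
  have hPr : r ∣ Nat.card P := by
    rw [P.card_eq_multiplicity]
    exact dvd_pow_self r (hr.factorization_pos_of_dvd Nat.card_pos.ne' hG).ne'
  have : Nontrivial P := by
    rw [← Finite.one_lt_card_iff_nontrivial]
    exact lt_of_lt_of_le hr.one_lt (Nat.le_of_dvd Nat.card_pos hPr)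
  have hcen : Nontrivial (Subgroup.center P) := P.isPGroup'.center_nontrivial
  have hcp : r ∣ Nat.card (Subgroup.center P) := by
    have h1 := (P.isPGroup'.to_subgroup (Subgroup.center P)).card_eq_or_dvd
    rcases h1 with h1 | h1
    · exact absurd h1 (Finite.one_lt_card_iff_nontrivial.2 hcen).ne'
    · exact h1
  obtain ⟨⟨z, hz⟩, hz1⟩ := exists_prime_orderOf_dvd_card' (p := r) hcp
  have hzr : orderOf (z : G) = r := by
    rw [Subgroup.orderOf_mk] at hz1
    exact (Subgroup.orderOf_coe z).trans hz1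
  have hzc : ∀ y ∈ (P : Subgroup G), y * (z : G) = (z : G) * y := fun y hy =>
    congrArg Subtype.val (Subgroup.mem_center_iff.1 hz ⟨y, hy⟩)
  have hz0 : (z : G) ≠ 1 := by
    intro h1
    rw [h1, orderOf_one] at hzr
    exact hr.one_lt.ne hzr
  have hPC : (P : Subgroup G) ≤ Subgroup.centralizer ({(z : G)} : Set G) := by
    intro y hy
    rw [Subgroup.mem_centralizer_singleton_iff]
    exact hzc y hy
  have hidx : ¬ r ∣ (Subgroup.centralizer ({(z : G)} : Set G)).index := fun h1 =>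
    P.not_dvd_index (h1.trans (Subgroup.index_dvd_of_le hPC))
  have hzp : (z : G) ^ r = 1 := orderOf_dvd_iff_pow_eq_one.1 hzr.dvd
  refine pow_eq_one_of_isConj (zero_of_coprime hna χ h hz0 ?_) hzp
  rw [hd]
  exact Nat.Coprime.pow_right _ ((hr.coprime_iff_not_dvd.2 hidx).symm)

/-- Exactly dividing prime: the zero class has that order. -/
theorem pow_eq_one_of_dvd [Finite G] {r n : ℕ} (hr : r.Prime) (hG : Nat.card G = r * n) (hn : ¬ r ∣ n)
    {χ : IrrCharacter G} {x : G} (h : _root_.Cfsg.Agent.H732.VZ.One χ x) (hd : r ∣ charDegree (χ : G → ℂ)) : x ^ r = 1 := by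
  have : Fact r.Prime := ⟨hr⟩
  obtain ⟨z, hz⟩ := exists_prime_orderOf_dvd_card' (G := G) r (by rw [hG]; exact Dvd.intro _ rfl)
  have h1 := zero_of_defect hr (a := 1) (by rw [pow_one]; exact hG) hn χ (by rwa [pow_one]) (g := z)
    (by rw [hz])
  refine pow_eq_one_of_isConj (h.uniq z h1) ?_
  rw [← hz]
  exact pow_orderOf_eq_one z

/-- The degree is a prime power if every prime divisor `r` of it comes with an `r`-power killing `x`. -/
theorem deg_prime_pow [Finite G] {χ : IrrCharacter G} {x : G} (h : _root_.Cfsg.Agent.H732.VZ.One χ x)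
    (H : ∀ r : ℕ, r.Prime → r ∣ charDegree (χ : G → ℂ) → ∃ k : ℕ, x ^ (r ^ k) = 1) {r : ℕ} (hr : r.Prime)
    (hrd : r ∣ charDegree (χ : G → ℂ)) : ∃ i : ℕ, charDegree (χ : G → ℂ) = r ^ i := by
  refine ⟨_, Nat.eq_prime_pow_of_unique_prime_dvd (charDegree_pos χ).ne' fun {s} hs hsd => ?_⟩
  by_contra hne
  obtain ⟨k, hk⟩ := H r hr hrd
  obtain ⟨l, hl⟩ := H s hs hsd
  have h1 : (r ^ k).Coprime (s ^ l) := Nat.Coprime.pow _ _ ((Nat.coprime_primes hr hs).2 (Ne.symm hne))
  have h2 : orderOf x ∣ Nat.gcd (r ^ k) (s ^ l) :=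
    Nat.dvd_gcd (orderOf_dvd_of_pow_eq_one hk) (orderOf_dvd_of_pow_eq_one hl)
  rw [h1.gcd_eq_one, Nat.dvd_one, orderOf_eq_one_iff] at h2
  exact H604.OZ.ne_one h h2

end Cfsg.Agent.H933.OZ
end

-- part: H933/OZ/Ext
section
/-!
# A congruence from an abelian subgroup of order eight (helper933, for S4842)

`z, a, b` commuting involutions, `c` maps `a` to `z a` and fixes `b`, `d` maps `b` to `z b` and fixes `a`
(conjugation): `χ(1) - χ(z) = 8 m`, where `m` is a multiplicity.
-/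

set_option autoImplicit false

namespace Cfsg.Agent.H933.OZ

open Cfsg Cfsg.Agent.Characters Cfsg.Agent.CharactersDeep Cfsg.Agent.H732.VZ Finset
open Cfsg.Agent.H686.CharKit

universe u

variable {G : Type u} [Group G]

theorem idem_half {A : Type*} [Ring A] [Algebra ℂ A] {s : A} (hs : s * s = 1) :
    IsIdempotentElem ((2⁻¹ : ℂ) • (1 + s)) := by
  unfold IsIdempotentElem
  rw [smul_mul_smul_comm]
  have h1 : (1 + s) * (1 + s) = (2 : ℂ) • (1 + s) := by
    rw [mul_add, add_mul, add_mul, hs, one_mul, mul_one, one_mul, two_smul]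
    abel
  rw [h1, smul_smul]
  norm_num

theorem idem_three {A : Type*} [Ring A] [Algebra ℂ A] {x y w : A} (hx : x * x = 1) (hy : y * y = 1)
    (hw : w * w = 1) (hxy : Commute x y) (hxw : Commute x w) (hyw : Commute y w) :
    IsIdempotentElem ((8⁻¹ : ℂ) • (1 + y + w + y * w - x - x * y - x * w - x * (y * w))) := by
  have hx' : (-x) * (-x) = 1 := by rw [neg_mul_neg, hx]
  have i1 := idem_half hx'
  have i2 := idem_half hy
  have i3 := idem_half hw
  have c1 : Commute ((2⁻¹ : ℂ) • (1 + y)) ((2⁻¹ : ℂ) • (1 + w)) :=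
    (((Commute.one_left _).add_left ((Commute.one_right _).add_right hyw)).smul_left (2⁻¹ : ℂ)).smul_right
      (2⁻¹ : ℂ)
  have c2 : Commute ((2⁻¹ : ℂ) • (1 + -x)) ((2⁻¹ : ℂ) • (1 + y)) :=
    (((Commute.one_left _).add_left ((Commute.one_right _).add_right hxy.neg_left)).smul_left
      (2⁻¹ : ℂ)).smul_right (2⁻¹ : ℂ)
  have c3 : Commute ((2⁻¹ : ℂ) • (1 + -x)) ((2⁻¹ : ℂ) • (1 + w)) :=
    (((Commute.one_left _).add_left ((Commute.one_right _).add_right hxw.neg_left)).smul_left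
      (2⁻¹ : ℂ)).smul_right (2⁻¹ : ℂ)
  have h1 := IsIdempotentElem.mul_of_commute (c2.mul_right c3) i1 (IsIdempotentElem.mul_of_commute c1 i2 i3)
  have h2 : ((2⁻¹ : ℂ) • (1 + -x)) * (((2⁻¹ : ℂ) • (1 + y)) * ((2⁻¹ : ℂ) • (1 + w)))
      = (8⁻¹ : ℂ) • (1 + y + w + y * w - x - x * y - x * w - x * (y * w)) := by
    rw [smul_mul_smul_comm, smul_mul_smul_comm]
    congr 1
    · norm_num
    · noncomm_ring
  rwa [h2] at h1

theorem trace_idem {V : Type*} [AddCommGroup V] [Module ℂ V] [Module.Finite ℂ V] {P : Module.End ℂ V}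
    (hP : IsIdempotentElem P) : ∃ m : ℕ, LinearMap.trace ℂ V P = m :=
  ⟨_, (LinearMap.IsIdempotentElem.isProj_range P hP).trace⟩

theorem eight_dvd {χ : G → ℂ} (hχ : IsCharacter G χ) {z a b c d : G} (hz : z * z = 1)
    (ha : a * a = 1) (hb : b * b = 1) (hza : z * a = a * z) (hzb : z * b = b * z) (hab : a * b = b * a)
    (hca : c * a = z * a * c) (hcb : c * b = b * c) (hdb : d * b = z * b * d) :
    ∃ m : ℕ, χ 1 - χ z = 8 * m := by
  obtain ⟨n, ρ, rfl⟩ := hχ
  have conj : ∀ u v w : G, u * v = w * u → ρ.character v = ρ.character w := by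
    intro u v w h
    have h1 : w = u * v * u⁻¹ := by rw [h]; group
    rw [h1, Representation.char_conj]
  have e1 : ρ.character a = ρ.character (z * a) := conj c _ _ hca
  have e2 : ρ.character b = ρ.character (z * b) := conj d _ _ hdb
  have e3 : ρ.character (a * b) = ρ.character (z * (a * b)) := by
    refine conj c _ _ ?_
    calc c * (a * b) = c * a * b := (mul_assoc _ _ _).symm
      _ = z * a * (c * b) := by rw [hca]; group
      _ = z * (a * b) * c := by rw [hcb]; group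
  obtain ⟨m, hm⟩ := trace_idem (idem_three (x := ρ z) (y := ρ a) (w := ρ b)
    (by rw [← map_mul, hz, map_one]) (by rw [← map_mul, ha, map_one]) (by rw [← map_mul, hb, map_one])
    (by unfold Commute SemiconjBy; rw [← map_mul, hza, map_mul])
    (by unfold Commute SemiconjBy; rw [← map_mul, hzb, map_mul])
    (by unfold Commute SemiconjBy; rw [← map_mul, hab, map_mul]))
  refine ⟨m, ?_⟩
  rw [← map_mul, ← map_mul, ← map_mul, ← map_mul, ← map_one ρ, map_smul, map_sub, map_sub, map_sub, map_sub,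
    map_add, map_add, map_add, smul_eq_mul] at hm
  change (8⁻¹ : ℂ) * (ρ.character 1 + ρ.character a + ρ.character b + ρ.character (a * b) - ρ.character z
    - ρ.character (z * a) - ρ.character (z * b) - ρ.character (z * (a * b))) = m at hm
  rw [← e1, ← e2, ← e3] at hm
  rw [← hm]
  ring

end Cfsg.Agent.H933.OZ
end

-- part: H933/OZ/U42
section
/-!
# S4842: the row `U_4(2)` (helper933)
-/

set_option autoImplicit false

namespace Cfsg.Agent.H933.OZ.U42

open Cfsg Cfsg.Agent.Characters Cfsg.Agent.CharactersDeep Cfsg.Agent.H732.VZ Orb Cyc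
open Cfsg.Agent.H686.CharKit Cfsg.Agent.SporadicA.FieldFour

theorem card_GU : Nat.card (GU 4 F4 2) = 77760 := by
  have h := S0277.result hF 4
  norm_num only [Finset.prod_range_succ, Nat.even_iff, _root_.Finset.range_one, _root_.Finset.prod_singleton, _root_.ite_true, _root_.ite_false] at h
  exact h

instance simp4 : IsSimpleGroup (PSU 4 F4 2) := Cfsg.Agent.S0283.result hF 4 (by norm_num) (by omega)

theorem not_comm : ¬ IsMulCommutative (PSU 4 F4 2) := by
  intro h
  let _ : CommGroup (PSU 4 F4 2) := { mul_comm := fun a b => h.is_comm.comm a b }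
  have h1 : (Nat.card (PSU 4 F4 2)).Prime := IsSimpleGroup.prime_card
  rw [card_G] at h1
  exact absurd h1 (by norm_num)

theorem four_le_c {χ : IrrCharacter (PSU 4 F4 2)} {x : PSU 4 F4 2} (h : _root_.Cfsg.Agent.H732.VZ.One χ x) :
    4 ≤ Nat.card (Subgroup.centralizer ({x} : Set (PSU 4 F4 2))) :=
  four_le (by rw [card_G]; norm_num) (by rw [card_G]; norm_num) h

/-- even degree -/
theorem even {χ : IrrCharacter (PSU 4 F4 2)} {x : PSU 4 F4 2} (h : _root_.Cfsg.Agent.H732.VZ.One χ x)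
    (hd : 2 ∣ charDegree (χ : PSU 4 F4 2 → ℂ)) : ∃ y ∈ orb u4, IsConj x y := by
  by_contra hcon
  push Not at hcon
  have h1 := u4_dat.cost h hcon (k := 3) fun y hy =>
    le_trans (by norm_num) (u4_dat.sq_le u4_rat Nat.prime_two h hcon hd hy)
  rw [card_GU, card_G] at h1
  have h2 := four_le_c h
  omega

/-- the degree is not divisible by three -/
theorem three {χ : IrrCharacter (PSU 4 F4 2)} {x : PSU 4 F4 2} (h : _root_.Cfsg.Agent.H732.VZ.One χ x) :
    ¬ 3 ∣ charDegree (χ : PSU 4 F4 2 → ℂ) := by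
  intro hd
  have hcon : ∀ y ∈ orb t9, ¬ IsConj x y := by
    intro y hy hxy
    have hm : (Nat.card (PSU 4 F4 2) - 1).Coprime (Nat.card (PSU 4 F4 2)) := by
      rw [card_G]; norm_num
    have h1 : IsConj x (x ^ (Nat.card (PSU 4 F4 2) - 1)) := h.conj_pow hm
    have h2 : x ^ (Nat.card (PSU 4 F4 2) - 1) = x⁻¹ := by
      rw [eq_inv_iff_mul_eq_one, ← pow_succ, Nat.sub_add_cancel Nat.card_pos]
      exact pow_card_eq_one'
    rw [h2] at h1
    obtain ⟨c, hc⟩ := isConj_iff.1 hxy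
    have h3 : IsConj x⁻¹ y⁻¹ := isConj_iff.2 ⟨c, by rw [← hc]; group⟩
    exact t9_inv hy (mem_orb_of_isConj hy (hxy.symm.trans (h1.trans h3)))
  have hs : ∀ a : ℕ, 0 < a → a < 3 →
      ¬ ((3 : ℕ) : ℤ) ∣ (a : ℤ) - (charDegree (χ : PSU 4 F4 2 → ℂ) : ℤ) ^ 2 := by
    intro a ha0 ha3 hdv
    have h1 : ((3 : ℕ) : ℤ) ∣ (charDegree (χ : PSU 4 F4 2 → ℂ) : ℤ) ^ 2 :=
      Dvd.dvd.pow (by exact_mod_cast hd) two_ne_zero
    have h2 : ((3 : ℕ) : ℤ) ∣ (a : ℤ) := by simpa only [_root_.Nat.cast_ofNat, _root_.sub_add_cancel] using dvd_add hdv h1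
    omega
  have h1 := t9_dat.cost_two (fun y hy => t9_inv hy) h hcon (k := 2) fun y hy =>
    le_trans (by norm_num) (t9_dat.le_normSq Nat.prime_three h hcon hs hy)
  rw [card_GU, card_G] at h1
  have h2 := four_le_c h
  omega

theorem y6_ne3 : pr y6 ^ 3 ≠ 1 := by
  intro h
  rw [← map_pow, ← map_one pr] at h
  obtain ⟨c, hc⟩ := smul_of_pr_eq hF (by norm_num) h
  rw [sm_pow, sm_y6, y6_p3] at hc
  revert c
  decide +kernel

/-- no character of degree five -/
theorem five {χ : IrrCharacter (PSU 4 F4 2)} {x : PSU 4 F4 2} (h : _root_.Cfsg.Agent.H732.VZ.One χ x)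
    (hx5 : x ^ 5 = 1) (hd : charDegree (χ : PSU 4 F4 2 → ℂ) = 5) : False := by
  have hx1 := H604.OZ.ne_one h
  have hcon : ∀ y ∈ orb y6, ¬ IsConj x y := by
    intro y hy hxy
    have h1 := pow_eq_one_of_isConj hxy (y6_dat.pow y hy)
    apply hx1
    have h2 : orderOf x ∣ Nat.gcd 5 6 :=
      Nat.dvd_gcd (orderOf_dvd_of_pow_eq_one hx5) (orderOf_dvd_of_pow_eq_one h1)
    rwa [show Nat.gcd 5 6 = 1 from rfl, Nat.dvd_one, orderOf_eq_one_iff] at h2
  have key : ∀ y ∈ orb y6, ∃ a : ℤ, (χ : PSU 4 F4 2 → ℂ) y = a ∧ 3 ∣ a := by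
    intro y hy
    obtain ⟨a, ha⟩ := exists_int_of_conj χ (y6_rat y hy)
    refine ⟨a, ha, ?_⟩
    obtain ⟨g, rfl⟩ := mem_orb.1 hy
    have hcg : ∀ s t : SU 4 F4 2, s = t → pr (cg g s) = pr (cg g t) := fun s t hst => by rw [hst]
    have hz3 : pr (cg g y6) ^ 3 = pr (cg g zz) := by rw [zz, map_pow, map_pow]
    obtain ⟨m, hm⟩ := eight_dvd (Core.isIrr_isCharacter χ.2) (z := pr (cg g zz)) (a := pr (cg g a1))
      (b := pr (cg g a2)) (c := pr (cg g b1)) (d := pr (cg g b2))
      (by rw [← map_mul, ← map_mul, zz_sq, map_one, map_one])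
      (by rw [← map_mul, ← map_mul, a1_sq, map_one, map_one])
      (by rw [← map_mul, ← map_mul, a2_sq, map_one, map_one])
      (by rw [← map_mul, ← map_mul, zz_a1, map_mul, map_mul])
      (by rw [← map_mul, ← map_mul, zz_a2, map_mul, map_mul])
      (by rw [← map_mul, ← map_mul, a1_a2, map_mul, map_mul])
      (by rw [← map_mul, ← map_mul, b1_a1, map_mul, map_mul, map_mul, map_mul])
      (by rw [← map_mul, ← map_mul, b1_a2, map_mul, map_mul])
      (by rw [← map_mul, ← map_mul, b2_a2, map_mul, map_mul, map_mul, map_mul])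
    have hne : pr (cg g zz) ≠ 1 := by
      rw [← hz3]
      exact pow_ne_one y6_ne3 hy
    have hdeg : (χ : PSU 4 F4 2 → ℂ) 1 = 5 := by
      rw [← charDegree_irr χ, hd]; norm_num
    have hval : (χ : PSU 4 F4 2 → ℂ) (pr (cg g zz)) = ((5 - 8 * (m : ℤ) : ℤ) : ℂ) := by
      push_cast
      rw [hdeg] at hm
      linear_combination -hm
    have hnorm := norm_ne not_comm χ h.zero hne
    have hle : ‖(χ : PSU 4 F4 2 → ℂ) (pr (cg g zz))‖ ≤ 5 := by
      obtain ⟨k, ρ, hρ, hk⟩ := χ.2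
      have h3 := charDegree_irr χ
      rw [← hk, Representation.char_one] at h3
      have h4 : charDegree (χ : PSU 4 F4 2 → ℂ) = Module.finrank ℂ (Fin k → ℂ) := by
        rw [← hk]; exact_mod_cast h3
      have h5 := Values.norm_character_le ρ (pr (cg g zz))
      rw [← h4, hd] at h5
      rw [← hk]
      exact_mod_cast h5
    have hm1 : m = 1 := by
      rw [hval, Complex.norm_intCast] at hnorm hle
      have h3 : |5 - 8 * (m : ℤ)| ≤ 5 := by exact_mod_cast hle
      rw [abs_le] at h3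
      have h4 : m ≤ 1 := by omega
      rcases Nat.le_one_iff_eq_zero_or_eq_one.1 h4 with rfl | h5
      · exfalso
        apply hnorm
        rw [hd]
        norm_num
      · exact h5
    rw [hm1] at hval
    have h5 := dvd_sub_int Nat.prime_three χ (g := pr (cg g y6)) (s := pr (cg g zz)) (j := 3) (k := 1) hz3
      (by
        have h6 : pr (cg g y6) ^ 6 = 1 := y6_dat.pow _ hy
        rw [← hz3, pow_one]
        calc (pr (cg g y6) ^ 3) ^ 3 = pr (cg g y6) ^ 6 * pr (cg g y6) ^ 3 := by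
              rw [← pow_mul, ← pow_add]
          _ = _ := by rw [h6, one_mul]) ha hval
    omega
  have h1 := y6_dat.cost h hcon (k := 8) fun y hy => by
    obtain ⟨a, ha, h3⟩ := key y hy
    have h0 : a ≠ 0 := by
      rintro rfl
      exact hcon y hy (h.uniq y (by rw [ha, Int.cast_zero]))
    have h2 : (3 : ℤ) ≤ |a| := Int.le_of_dvd (abs_pos.2 h0) ((dvd_abs _ _).2 h3)
    have h4 : Complex.normSq ((χ : PSU 4 F4 2 → ℂ) y) = ((a : ℝ)) ^ 2 := by
      rw [ha, Complex.normSq_intCast]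
      ring
    rw [h4, ← sq_abs (a : ℝ)]
    have h5 : (3 : ℝ) ≤ |(a : ℝ)| := by exact_mod_cast h2
    push_cast
    nlinarith only [h5]
  rw [card_GU, card_G] at h1
  have h2 := four_le_c h
  omega

theorem none {χ : IrrCharacter (PSU 4 F4 2)} {x : PSU 4 F4 2} (h : _root_.Cfsg.Agent.H732.VZ.One χ x) : False := by
  have hd1 := H604.OZ.one_lt_deg h
  have hdvd := H604.OZ.deg_dvd χ
  have hfac : Nat.card (PSU 4 F4 2) = 2 ^ 6 * 3 ^ 4 * 5 := by rw [card_G]; norm_num
  have hmem : ∀ r : ℕ, r.Prime → r ∣ charDegree (χ : PSU 4 F4 2 → ℂ) → r = 2 ∨ r = 5 := by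
    intro r hr hrd
    have h1 := hrd.trans hdvd
    rw [hfac] at h1
    simp only [hr.dvd_mul] at h1
    rcases h1 with (h1 | h1) | h1
    · exact Or.inl ((Nat.prime_dvd_prime_iff_eq hr Nat.prime_two).1 (hr.dvd_of_dvd_pow h1))
    · have h2 := (Nat.prime_dvd_prime_iff_eq hr Nat.prime_three).1 (hr.dvd_of_dvd_pow h1)
      exact absurd (h2 ▸ hrd) (three h)
    · exact Or.inr ((Nat.prime_dvd_prime_iff_eq hr Nat.prime_five).1 h1)
  have hex : 5 ∣ charDegree (χ : PSU 4 F4 2 → ℂ) → x ^ 5 = 1 := fun hrd =>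
    pow_eq_one_of_dvd (n := 2 ^ 6 * 3 ^ 4) (by norm_num) (by rw [hfac]; norm_num) (by norm_num) h hrd
  have hkill : ∀ r : ℕ, r.Prime → r ∣ charDegree (χ : PSU 4 F4 2 → ℂ) → ∃ k : ℕ, x ^ (r ^ k) = 1 := by
    intro r hr hrd
    rcases hmem r hr hrd with rfl | rfl
    · obtain ⟨y, hy, hxy⟩ := even h hrd
      exact ⟨2, pow_eq_one_of_isConj hxy (u4_dat.pow y hy)⟩
    · exact ⟨1, by rw [pow_one]; exact hex hrd⟩
  obtain ⟨r, hr, hrd⟩ := Nat.exists_prime_and_dvd hd1.ne'
  obtain ⟨i, hi⟩ := deg_prime_pow h hkill hr hrd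
  have hxr : x ^ r = 1 := pow_eq_one_of_deg not_comm hr (hrd.trans hdvd) h hi
  rcases hmem r hr hrd with rfl | rfl
  · obtain ⟨y, hy, hxy⟩ := even h hrd
    exact pow_ne_one u4_ne hy (pow_eq_one_of_isConj hxy.symm hxr)
  · have hi1 : i ≤ 1 := by
      by_contra hcon
      have h1 : 5 ^ 2 ∣ Nat.card (PSU 4 F4 2) := (pow_dvd_pow 5 (by omega)).trans (hi ▸ hdvd)
      rw [card_G] at h1
      exact absurd h1 (by norm_num)
    have hi0 : i ≠ 0 := by
      rintro rfl
      rw [pow_zero] at hi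
      omega
    have h1 : i = 1 := by omega
    rw [h1, pow_one] at hi
    exact five h hxr hi

universe u

/-- **`U_4(2)`** -/
theorem row_u42 {S : Type u} [Group S] [Finite S] {F : Type} [Field F] [Fintype F]
    (hF : Fintype.card F = 2 ^ 2) (e : S ≃* PSU 4 F 2) : H730.OZ.Row S := by
  obtain ⟨f⟩ := SporadicStructure.PsuMatch.psu_iso_of_card (F := F) (K := F4) (by rw [hF]; rfl) 4 2
  exact H730.OZ.Row.congr (e.trans f) (H604.OZ.row_of fun _ _ h => none h)

end Cfsg.Agent.H933.OZ.U42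
end

private theorem dce_660b347d8db3 : _root_.True := by
  try have : _root_.True := by simp only [_root_.Cfsg.Agent.H933.OZ.Cyc.dotL.eq_2]
  try have : _root_.True := by simp only [_root_.Cfsg.Agent.H933.OZ.Cyc.seqL.eq_2]
  try have : _root_.True := by simp only [_root_.Cfsg.Agent.H933.OZ.Cyc.cnt.eq_def]
  try have : _root_.True := by simp only [_root_.Cfsg.Agent.H933.OZ.U42.zz.eq_1]
  try have : _root_.True := by simp only [_root_.Cfsg.Agent.H933.OZ.Cyc.cnt.eq_1]
  try have : _root_.True := by simp only [_root_.Cfsg.Agent.H933.OZ.Cyc.qs.eq_def]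
  try have : _root_.True := by simp only [_root_.Cfsg.Agent.H933.OZ.Cyc.tgL.eq_2]
  try have : _root_.True := by simp only [_root_.Cfsg.Agent.H933.OZ.Cyc.L.eq_1]
  try have : _root_.True := by simp only [_root_.Cfsg.Agent.H933.OZ.Cyc.hd.eq_1]
  try have : _root_.True := by simp only [_root_.Cfsg.Agent.H933.OZ.Cyc.go.eq_2]
  try have : _root_.True := by simp only [_root_.Cfsg.Agent.H933.OZ.Cyc.tgts.eq_2]
  try have : _root_.True := by simp only [_root_.Cfsg.Agent.H933.OZ.Cyc.tgL.eq_def]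
  try have : _root_.True := by simp only [_root_.Cfsg.Agent.H933.OZ.Cyc.dotL.eq_3]
  try have : _root_.True := by simp only [_root_.Cfsg.Agent.H933.OZ.Cyc.qs.eq_2]
  try have : _root_.True := by simp only [_root_.Cfsg.Agent.H933.OZ.Orb.orb.eq_1]
  try have : _root_.True := by simp only [_root_.Cfsg.Agent.H933.OZ.Cyc.qs.eq_1]
  try have : _root_.True := by simp only [_root_.Cfsg.Agent.H933.OZ.Cyc.cnt.eq_2]
  try have : _root_.True := by simp only [_root_.Cfsg.Agent.H933.OZ.Cyc.dotL.eq_def]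
  try have : _root_.True := by simp only [_root_.Cfsg.Agent.H933.OZ.Cyc.seqL.eq_def]
  try have : _root_.True := by simp only [_root_.Cfsg.Agent.H933.OZ.Cyc.seqL.eq_1]
  try have : _root_.True := by simp only [_root_.Cfsg.Agent.H933.OZ.Cyc.dotL.eq_1]
  try have : _root_.True := by simp only [_root_.Cfsg.Agent.H933.OZ.Cyc.hd.eq_2]
  try have : _root_.True := by simp only [_root_.Cfsg.Agent.H933.OZ.Cyc.tgL.eq_1]
  try have : _root_.True := by simp only [_root_.Cfsg.Agent.H933.OZ.Cyc.go.eq_1]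
  try have : _root_.True := by simp only [_root_.Cfsg.Agent.H933.OZ.Cyc.tgts.eq_1]
  try have : _root_.True := by simp only [_root_.Cfsg.Agent.H933.OZ.Cyc.tgts.eq_def]
  try have : _root_.True := by simp only [_root_.Cfsg.Agent.H933.OZ.Cyc.go.eq_def]
  exact _root_.True.intro
end

-- part: H410/OZ/SpE
section
prune_inst 0x10004101048010000004000000001a833100000000408000000400000001004000000001020000181000000000040000000000200000000000000000000000000000040000400008000000000000000000000000000000000000000000000000000000000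
set_option linter.all false
open scoped Cfsg.Agent.FastGrp

-- part: H410/OZ/Geo
section
/-!
# S4842: elliptic elements in the parabolic subgroups of classical groups of type `C_n` (helper410)

`M : Model Fr K` a group modelled on a Witt frame, `i : Fin n` a node, `E = RS Fr (Si i)` the span of
`b (0, true), ..., b (i, true)`, `RS Fr (Ni i)` the opposite subspace, `Mid Fr i` the orthogonal complement of both.

* `mem_LJ_of` : an element of `M.I` which preserves `E` and the opposite subspace lies over `L_J`, `J = {i}ᶜ`;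
* `ell_of`    : the criterion for `Ell {i}ᶜ`.
-/

set_option autoImplicit false
set_option linter.unusedSectionVars false

namespace Cfsg.Agent.H410.OZ

open CoxeterSystem Cfsg.Agent.ChevalleyStructure.CoxeterGeom Cfsg.Agent.Tits.Roots Cfsg.Agent.Nodes.TypeC
open Cfsg.Agent.Nodes Cfsg.Agent.Nodes.Comb Cfsg.Agent.Nodes.Reps Cfsg.Agent.Nodes.WittRoot Cfsg.Agent.Nodes.BNOf
open Cfsg.Agent.Nodes.WittRGD Cfsg.Agent.Nodes.RGDLib Cfsg.Agent.Nodes.WittAll
open Cfsg.Agent.TitsThree Cfsg.Agent.TitsThree.Siegel Cfsg.Agent.TitsThree.WittFrame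
  Cfsg.Agent.TitsThree.WittWeyl Cfsg.Agent.TitsThree.FrameCN
open Cfsg.Agent.Nodes.StabComb Cfsg.Agent.Nodes.Bruhat Cfsg.Agent.Nodes.LeviDec
open Cfsg.Agent.H62.PCFrame Cfsg.Agent.H62.PCWitt Cfsg.Agent.H985.VZ

section Roots

variable {n : ℕ}

/-- the opposite vectors -/
def Ni (i : Fin n) : Set (Fin n × Bool) := {a | a.1 ≤ i ∧ a.2 = false}

theorem isoS_Ni (i : Fin n) : IsoS (Ni i) := by
  rintro a ⟨-, ha⟩ ⟨-, hb⟩
  rw [neg_snd, ha] at hb
  exact absurd hb (by decide)

theorem sgn_eq_one {i : Fin n} {a : Fin n × Bool} : sgn i a = 1 ↔ a ∈ Si i := by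
  unfold sgn Si
  constructor
  · intro h
    split_ifs at h with h1 h2
    · exact ⟨h1, h2⟩
    · omega
  · rintro ⟨h1, h2⟩
    rw [if_pos h1, if_pos h2]

theorem sgn_eq_neg {i : Fin n} {a : Fin n × Bool} : sgn i a = -1 ↔ a ∈ Ni i := by
  unfold sgn Ni
  constructor
  · intro h
    by_cases h1 : a.1 ≤ i
    · by_cases h2 : a.2 = true
      · rw [if_pos h1, if_pos h2] at h
        omega
      · exact ⟨h1, by simpa using h2⟩
    · rw [if_neg h1] at h
      omega
  · rintro ⟨h1, h2⟩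
    rw [if_pos h1, if_neg (by rw [h2]; decide)]

theorem sgn_le (i : Fin n) (a : Fin n × Bool) : sgn i a ≤ 1 := by
  unfold sgn
  split_ifs <;> omega

theorem le_sgn (i : Fin n) (a : Fin n × Bool) : -1 ≤ sgn i a := by
  unfold sgn
  split_ifs <;> omega

theorem neg_mem_Ni {i : Fin n} {a : Fin n × Bool} (h : neg a ∈ Ni i) : sgn i a = 1 := by
  obtain ⟨h1, h2⟩ := h
  rw [neg_fst] at h1
  rw [neg_snd] at h2
  exact sgn_eq_one.2 ⟨h1, by simpa using h2⟩

end Roots

section Frame

variable {F : Type*} [Field F] {V : Type*} [AddCommGroup V] [Module F V] {H : HForm F V} {n : ℕ}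
  (Fr : Frame H (Fin n))

/-- the orthogonal complement of `E` -/
def Pp (i : Fin n) : Submodule F V where
  carrier := {v | ∀ k ≤ i, H.h v (Fr.b (k, true)) = 0}
  zero_mem' := fun _ _ => H.zero_left _
  add_mem' := fun ha hb k hk => by rw [H.add_left, ha k hk, hb k hk, add_zero]
  smul_mem' := fun c v hv k hk => by rw [H.smul_left, hv k hk, mul_zero]

/-- the orthogonal complement of `E` and the opposite subspace -/
def Mid (i : Fin n) : Submodule F V where
  carrier := {v | ∀ k ≤ i, ∀ s, H.h v (Fr.b (k, s)) = 0}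
  zero_mem' := fun _ _ _ => H.zero_left _
  add_mem' := fun ha hb k hk s => by rw [H.add_left, ha k hk, hb k hk, add_zero]
  smul_mem' := fun c v hv k hk s => by rw [H.smul_left, hv k hk, mul_zero]

variable {Fr} {i : Fin n}

theorem Mid_le_Pp : Mid Fr i ≤ Pp Fr i := fun _ hv k hk => hv k hk true

theorem h_right_zero {v : V} {S : Set (Fin n × Bool)} (hv : ∀ a ∈ S, H.h v (Fr.b a) = 0) :
    ∀ x ∈ RS Fr S, H.h v x = 0 := by
  intro x hx
  refine Submodule.span_induction (p := fun x _ => H.h v x = 0) ?_ ?_ ?_ ?_ hx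
  · rintro _ ⟨a, ha, rfl⟩
    exact hv a ha
  · exact H.zero_right _
  · intro x y _ _ hx hy
    rw [H.add_right, hx, hy, add_zero]
  · intro c x _ hx
    rw [H.smul_right, hx, mul_zero]

theorem h_left_zero {v : V} {S : Set (Fin n × Bool)} (hv : ∀ a ∈ S, H.h (Fr.b a) v = 0) :
    ∀ x ∈ RS Fr S, H.h x v = 0 := fun x hx =>
  H.orth_symm (h_right_zero (fun a ha => H.orth_symm (hv a ha)) x hx)

theorem b_mem_Pp {a : Fin n × Bool} (ha : 0 ≤ sgn i a) : Fr.b a ∈ Pp Fr i := by
  intro k hk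
  apply Fr.hb_ne
  intro e
  have h1 : a ∈ Ni i := by
    have h2 : a = neg (k, true) := by rw [e, neg_neg]
    rw [h2]
    exact ⟨hk, rfl⟩
  rw [sgn_eq_neg.2 h1] at ha
  omega

theorem Pp_right {v : V} (hv : v ∈ Pp Fr i) {a : Fin n × Bool} (ha : a ∈ Si i) : H.h v (Fr.b a) = 0 := by
  have h1 : a = (a.1, true) := Prod.ext rfl ha.2
  rw [h1]
  exact hv a.1 ha.1

theorem Mid_right {v : V} (hv : v ∈ Mid Fr i) {a : Fin n × Bool} (ha : a.1 ≤ i) : H.h v (Fr.b a) = 0 :=
  hv a.1 ha a.2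

theorem Mid_E {v : V} (hv : v ∈ Mid Fr i) : ∀ x ∈ RS Fr (Si i), H.h v x = 0 :=
  h_right_zero fun _ ha => Mid_right hv ha.1

theorem Mid_F {v : V} (hv : v ∈ Mid Fr i) : ∀ x ∈ RS Fr (Ni i), H.h v x = 0 :=
  h_right_zero fun _ ha => Mid_right hv ha.1

theorem E_b {x : V} (hx : x ∈ RS Fr (Si i)) {a : Fin n × Bool} (ha : 0 ≤ sgn i a) : H.h x (Fr.b a) = 0 := by
  refine h_left_zero (fun c hc => Fr.hb_ne fun e => ?_) x hx
  have h1 : a ∈ Ni i := by
    rw [e]
    refine ⟨hc.1, ?_⟩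
    rw [neg_snd, hc.2]
    rfl
  rw [sgn_eq_neg.2 h1] at ha
  omega

theorem E_le_Pp : RS Fr (Si i) ≤ Pp Fr i := fun _ hx k hk =>
  E_b hx (by rw [sgn_eq_one.2 ⟨hk, rfl⟩]; omega)

/-- the group of the unipotent elements -/
def Uni (Fr : Frame H (Fin n)) (i : Fin n) : Subgroup (V ≃ₗ[F] V) where
  carrier := {g | (∀ x ∈ RS Fr (Si i), g x = x) ∧ (∀ v ∈ Pp Fr i, g v - v ∈ RS Fr (Si i)) ∧
    ∀ v, g v - v ∈ Pp Fr i}
  one_mem' := by
    refine ⟨fun _ _ => rfl, fun v _ => ?_, fun v => ?_⟩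
    · change v - v ∈ _
      rw [sub_self]; exact Submodule.zero_mem _
    · change v - v ∈ _
      rw [sub_self]; exact Submodule.zero_mem _
  mul_mem' := by
    rintro g k ⟨h1, h2, h3⟩ ⟨k1, k2, k3⟩
    have e : ∀ v, (g * k) v - v = g (k v - v) + (g v - v) := fun v => by
      change g (k v) - v = _
      rw [map_sub]; abel
    refine ⟨fun x hx => ?_, fun v hv => ?_, fun v => ?_⟩
    · change g (k x) = x
      rw [k1 x hx, h1 x hx]
    · rw [e, h1 _ (k2 v hv)]
      exact Submodule.add_mem _ (k2 v hv) (h2 v hv)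
    · have e' : g (k v - v) = (g (k v - v) - (k v - v)) + (k v - v) := by abel
      rw [e, e']
      exact Submodule.add_mem _ (Submodule.add_mem _ (E_le_Pp (h2 _ (k3 v))) (k3 v)) (h3 v)
  inv_mem' := by
    rintro g ⟨h1, h2, h3⟩
    have h1' : ∀ x ∈ RS Fr (Si i), g⁻¹ x = x := fun x hx => by
      have h4 : g⁻¹ (g x) = x := g.symm_apply_apply x
      rwa [h1 x hx] at h4
    have e : ∀ v, g⁻¹ v - v = -(g (g⁻¹ v) - g⁻¹ v) := fun v => by
      have : g (g⁻¹ v) = v := g.apply_symm_apply v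
      rw [this]; abel
    have h3' : ∀ v, g⁻¹ v - v ∈ Pp Fr i := fun v => by
      rw [e]
      exact Submodule.neg_mem _ (h3 _)
    refine ⟨h1', fun v hv => ?_, h3'⟩
    have hv' : g⁻¹ v ∈ Pp Fr i := by
      have : g⁻¹ v = (g⁻¹ v - v) + v := by abel
      rw [this]
      exact Submodule.add_mem _ (h3' v) hv
    rw [e]
    exact Submodule.neg_mem _ (h2 _ hv')

theorem V0_Pp {w : V} (hw : w ∈ Fr.V0) : w ∈ Pp Fr i := fun _ _ => Fr.h0' _ hw

theorem PG_le_Uni {a b : Fin n × Bool} (hab : Ok a b) (h0 : 0 < sgn i a + sgn i b) : PG Fr a b ≤ Uni Fr i := by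
  have h1 := sgn_le i a
  have h2 := sgn_le i b
  rcases hab with h | rfl
  · rw [PG_ne Fr h]
    rintro _ ⟨t, rfl⟩
    refine ⟨fun x hx => ?_, fun v hv => ?_, fun v => ?_⟩
    · rw [X_apply Fr h, E_b hx (a := a) (by omega), E_b hx (a := b) (by omega)]
      simp
    · rw [X_apply Fr h]
      have e : ∀ c d : F, v + c • Fr.b b - d • Fr.b a - v = c • Fr.b b - d • Fr.b a := fun c d => by abel
      rw [e]
      refine Submodule.sub_mem _ ?_ ?_
      · by_cases ha : sgn i a = 1
        · rw [Pp_right hv (sgn_eq_one.1 ha), zero_mul, zero_smul]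
          exact Submodule.zero_mem _
        · exact Submodule.smul_mem _ _ (b_mem (sgn_eq_one.1 (by omega)))
      · by_cases hb : sgn i b = 1
        · rw [Pp_right hv (sgn_eq_one.1 hb), mul_zero, zero_smul]
          exact Submodule.zero_mem _
        · exact Submodule.smul_mem _ _ (b_mem (sgn_eq_one.1 (by omega)))
    · rw [X_apply Fr h]
      have e : ∀ c d : F, v + c • Fr.b b - d • Fr.b a - v = c • Fr.b b - d • Fr.b a := fun c d => by abel
      rw [e]
      exact Submodule.sub_mem _ (Submodule.smul_mem _ _ (b_mem_Pp (by omega)))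
        (Submodule.smul_mem _ _ (b_mem_Pp (by omega)))
  · rw [PG_self]
    rintro _ ⟨q, rfl⟩
    have ha : a ∈ Si i := sgn_eq_one.1 (by omega)
    have hw : q.w ∈ Fr.V0 := Fr.ok_mem q.ok
    have e : ∀ (v : V) (c d f : F), v + c • q.w - d • Fr.b a + f • Fr.b a - v = c • q.w + (f - d) • Fr.b a :=
      fun v c d f => by module
    refine ⟨fun x hx => ?_, fun v hv => ?_, fun v => ?_⟩
    · have hxw : H.h x q.w = 0 := h_left_zero (fun c _ => Fr.h0 c _ hw) x hx
      rw [Z_apply, E_b hx (a := a) (by omega), hxw]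
      simp
    · rw [Z_apply, e, Pp_right hv ha, zero_smul, zero_add]
      exact Submodule.smul_mem _ _ (b_mem ha)
    · rw [Z_apply, e]
      exact Submodule.add_mem _ (Submodule.smul_mem _ _ (V0_Pp hw)) (Submodule.smul_mem _ _ (b_mem_Pp (by omega)))

theorem PG_le_StbN [Finite V] {a b : Fin n × Bool} (hab : Ok a b) (h0 : sgn i a + sgn i b ≤ 0) :
    PG Fr a b ≤ Stb (RS Fr (Ni i)) := by
  have key : ∀ c d : Fin n × Bool, sgn i c + sgn i d ≤ 0 → neg c ∈ Ni i → d ∈ Ni i := by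
    intro c d hcd hc
    have h1 := neg_mem_Ni hc
    have h2 := le_sgn i d
    exact sgn_eq_neg.1 (by omega)
  rcases hab with h | rfl
  · rw [PG_ne Fr h]
    rintro _ ⟨t, rfl⟩
    exact X_maps h (key a b h0) (key b a (by omega)) t
  · rw [PG_self]
    rintro _ ⟨q, rfl⟩
    refine Z_maps (fun h1 => ?_) q
    rw [neg_mem_Ni h1] at h0
    omega

/-- the components of a vector -/
theorem exists_decomp (i : Fin n) (v : V) : ∃ x ∈ RS Fr (Si i), ∃ y ∈ RS Fr (Ni i), ∃ w ∈ Mid Fr i, v = x + y + w := by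
  classical
  set x : V := ∑ k ∈ Finset.Iic i, (H.h v (Fr.b (k, false))) • Fr.b (k, true) with hx
  set y : V := ∑ k ∈ Finset.Iic i, (H.ε⁻¹ * H.h v (Fr.b (k, true))) • Fr.b (k, false) with hy
  have hxm : x ∈ RS Fr (Si i) := Submodule.sum_mem _ fun k hk =>
    Submodule.smul_mem _ _ (b_mem ⟨Finset.mem_Iic.1 hk, rfl⟩)
  have hym : y ∈ RS Fr (Ni i) := Submodule.sum_mem _ fun k hk =>
    Submodule.smul_mem _ _ (b_mem ⟨Finset.mem_Iic.1 hk, rfl⟩)
  refine ⟨x, hxm, y, hym, v - x - y, ?_, by abel⟩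
  have hsum : ∀ (c : Fin n → F) (s : Bool) (w : V), H.h (∑ k ∈ Finset.Iic i, c k • Fr.b (k, s)) w =
      ∑ k ∈ Finset.Iic i, c k * H.h (Fr.b (k, s)) w := by
    intro c s w
    induction (Finset.Iic i) using Finset.induction_on with
    | empty => simp [H.zero_left]
    | insert j s' hj ih => rw [Finset.sum_insert hj, Finset.sum_insert hj, H.add_left, H.smul_left, ih]
  intro k hk s
  rw [H.sub_left, H.sub_left, hx, hy, hsum, hsum]
  cases s
  · have h1 : ∀ j ∈ Finset.Iic i, H.ε⁻¹ * H.h v (Fr.b (j, true)) * H.h (Fr.b (j, false)) (Fr.b (k, false)) = 0 := by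
      intro j _
      rw [Fr.hb]; simp
    rw [Finset.sum_eq_zero h1, Finset.sum_eq_single k]
    · rw [Fr.hb]; simp
    · intro j _ hj
      rw [Fr.hb]; simp [hj]
    · intro h; exact absurd (Finset.mem_Iic.2 hk) h
  · have h1 : ∀ j ∈ Finset.Iic i, H.h v (Fr.b (j, false)) * H.h (Fr.b (j, true)) (Fr.b (k, true)) = 0 := by
      intro j _
      rw [Fr.hb]; simp
    rw [Finset.sum_eq_zero h1, Finset.sum_eq_single k]
    · have h3 := H.ε_ne
      rw [Fr.hb]
      simp only [ne_eq, Bool.false_eq_true, not_false_eq_true, and_self, sub_zero, ↓reduceIte]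
      field_simp
      simp
    · intro j _ hj
      rw [Fr.hb]; simp [hj]
    · intro h; exact absurd (Finset.mem_Iic.2 hk) h

theorem eq_zero_of_F_Pp {v : V} (hv : v ∈ RS Fr (Ni i)) (hp : v ∈ Pp Fr i) : v = 0 := by
  by_contra h0
  obtain ⟨a, ha⟩ := Function.ne_iff.1 (psi_ne hv h0)
  have key : ∀ v ∈ RS Fr (Ni i), ∀ a, a ∉ Ni i → psi Fr v a = 0 := by
    intro v hv a ha
    refine Submodule.span_induction (p := fun v _ => psi Fr v a = 0) ?_ ?_ ?_ ?_ hv
    · rintro _ ⟨c, hc, rfl⟩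
      rw [psi_b, Pi.single_eq_of_ne]
      rintro rfl
      exact ha hc
    · simp
    · intro x y _ _ hx hy
      rw [map_add, Pi.add_apply, hx, hy, add_zero]
    · intro c x _ hx
      rw [map_smul, Pi.smul_apply, hx, smul_zero]
  have ha1 : a ∈ Ni i := by
    by_contra h1
    exact ha (key v hv a h1)
  apply ha
  change (H.h (Fr.b a) (Fr.b (neg a)))⁻¹ * H.h v (Fr.b (neg a)) = 0
  have h2 : neg a = (a.1, true) := by
    refine Prod.ext rfl ?_
    rw [neg_snd, ha1.2]
    rfl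
  rw [h2, hp a.1 ha1.1, mul_zero]

theorem eq_zero_of_E_F {x : V} (hx : x ∈ RS Fr (Si i)) (h0 : ∀ k ≤ i, H.h x (Fr.b (k, false)) = 0) : x = 0 := by
  by_contra hx0
  obtain ⟨a, ha⟩ := Function.ne_iff.1 (psi_ne hx hx0)
  have key : ∀ v ∈ RS Fr (Si i), ∀ a, a ∉ Si i → psi Fr v a = 0 := by
    intro v hv a ha
    refine Submodule.span_induction (p := fun v _ => psi Fr v a = 0) ?_ ?_ ?_ ?_ hv
    · rintro _ ⟨c, hc, rfl⟩
      rw [psi_b, Pi.single_eq_of_ne]
      rintro rfl
      exact ha hc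
    · simp
    · intro x y _ _ hx hy
      rw [map_add, Pi.add_apply, hx, hy, add_zero]
    · intro c x _ hx
      rw [map_smul, Pi.smul_apply, hx, smul_zero]
  have ha1 : a ∈ Si i := by
    by_contra h1
    exact ha (key x hx a h1)
  apply ha
  change (H.h (Fr.b a) (Fr.b (neg a)))⁻¹ * H.h x (Fr.b (neg a)) = 0
  have h2 : neg a = (a.1, false) := by
    refine Prod.ext rfl ?_
    rw [neg_snd, ha1.2]
    rfl
  rw [h2, h0 a.1 ha1.1, mul_zero]

/-- a unipotent element which preserves the opposite subspace is trivial -/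
theorem eq_one_of_Uni {u : V ≃ₗ[F] V} (hu : u ∈ Uni Fr i) (hI : H.IsIso u) (hF : ∀ x ∈ RS Fr (Ni i), u x ∈ RS Fr (Ni i)) :
    u = 1 := by
  obtain ⟨h1, h2, h3⟩ := hu
  have hF1 : ∀ x ∈ RS Fr (Ni i), u x = x := fun x hx =>
    sub_eq_zero.1 (eq_zero_of_F_Pp (Submodule.sub_mem _ (hF x hx) hx) (h3 x))
  have hM : ∀ w ∈ Mid Fr i, u w = w := fun w hw => by
    refine sub_eq_zero.1 (eq_zero_of_E_F (h2 w (Mid_le_Pp hw)) fun k hk => ?_)
    have e : H.h (u w) (Fr.b (k, false)) = H.h w (Fr.b (k, false)) := by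
      conv_lhs => rw [← hF1 (Fr.b (k, false)) (b_mem ⟨hk, rfl⟩)]
      exact hI _ _
    rw [H.sub_left, e, sub_self]
  ext v
  obtain ⟨x, hx, y, hy, w, hw, rfl⟩ := exists_decomp (Fr := Fr) i v
  change u (x + y + w) = x + y + w
  rw [map_add, map_add, h1 x hx, hF1 y hy, hM w hw]

end Frame

section Model

variable {F : Type*} [Field F] {V : Type*} [AddCommGroup V] [Module F V] {H : HForm F V} {n : ℕ}
  {Fr : Frame H (Fin n)} {K : Type*} [Group K] (M : Model Fr K)
  {W : Type*} [Group W] (cs : CoxeterSystem (CoxeterMatrix.B n) W)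

/-- the elements of the kernel preserve all subspaces -/
theorem ker_maps {g : M.I} (hg : M.φ g = 1) (U : Submodule F V) {v : V} (hv : v ∈ U) : g.1 v ∈ U := by
  obtain ⟨a, ha⟩ := M.ker v g hg
  rw [ha]
  exact Submodule.smul_mem _ _ hv

/-- an element of the kernel with a fixed vector is trivial -/
theorem ker_eq_one {g : M.I} (hg : M.φ g = 1) {x : V} (hx0 : x ≠ 0) (hx : g.1 x = x) : g.1 = 1 := by
  ext v
  change g.1 v = v
  obtain ⟨a, ha⟩ := M.ker v g hg
  by_cases hv : ∃ c : F, v = c • x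
  · obtain ⟨c, rfl⟩ := hv
    rw [map_smul, hx]
  · obtain ⟨b, hb⟩ := M.ker (v + x) g hg
    rw [map_add, hx, ha, smul_add] at hb
    have h1 : (a - b) • v = (b - 1) • x := by
      rw [sub_smul, sub_smul, one_smul]
      have := sub_eq_zero.2 hb
      rw [← sub_eq_zero, ← this]
      abel
    by_cases hab : a = b
    · subst hab
      rw [sub_self, zero_smul] at h1
      have h2 : a - 1 = 0 := (smul_eq_zero.1 h1.symm).resolve_right hx0
      rw [ha, sub_eq_zero.1 h2, one_smul]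
    · exfalso
      apply hv
      refine ⟨(a - b)⁻¹ * (b - 1), ?_⟩
      rw [mul_smul, ← h1, smul_smul, inv_mul_cancel₀ (sub_ne_zero.2 hab), one_smul]

theorem VJ_le (i : Fin n) : VJ cs (isCartan n) (WittModel.X M) {i}ᶜ ≤ ((Uni Fr i).subgroupOf M.I).map M.φ := by
  refine RGD.Sup_le fun x hx => ?_
  obtain ⟨h1, h2, k, hk, hk0⟩ := hx
  obtain ⟨a, b, hab, e⟩ := exists_of_isRoot cs h1
  have hki : k = i := by simpa using hk
  subst hki
  unfold WittModel.X
  rw [rg_eq Fr hab e]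
  refine Subgroup.map_mono (Subgroup.comap_mono (PG_le_Uni hab ?_))
  rw [← coeff e]
  split_ifs <;> omega

variable [Finite V]

theorem LJ_le (i : Fin n) : LJ cs (isCartan n) (WittModel.T M) (WittModel.X M) {i}ᶜ ≤
    ((Stb (RS Fr (Si i)) ⊓ Stb (RS Fr (Ni i))).subgroupOf M.I).map M.φ := by
  refine sup_le ?_ (RGD.Sup_le fun x hx => ?_)
  · refine Subgroup.map_mono (Subgroup.comap_mono ?_)
    intro t ht
    exact ⟨mono_maps ht.2, mono_maps ht.2⟩
  · obtain ⟨a, b, hab, e⟩ := exists_of_isRoot cs hx.1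
    unfold WittModel.X
    rw [rg_eq Fr hab e]
    have h0 : x i = 0 := hx.2 i (by simp)
    have h1 := coeff e i
    rw [h0, mul_zero] at h1
    exact Subgroup.map_mono (Subgroup.comap_mono (le_inf (PG_le hab e h0.ge) (PG_le_StbN hab (by omega))))

variable {M} {cs} {p : ℕ} [Fact p.Prime] [CharP F p] (hA : AmbT Fr p M.I) {p0 : Fr.Adm} (hp0 : p0.c ≠ 0)
  (hn : 0 < n)

include hA hp0 hn

/-- the parabolic subgroup is the stabiliser -/
theorem PJ_eq (i : Fin n) : ((Stb (RS Fr (Si i))).subgroupOf M.I).map M.φ =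
    PJ cs (isCartan n) (WittModel.T M) (WittModel.X M) {i}ᶜ := by
  have : Finite W := finite_W cs
  have R := rgdC_model M hA hp0 cs
  have hG1 := WittModel.G1_eq_top M hn cs
  have hGG : GG cs (isCartan n) (WittModel.T M) (WittModel.X M) = ⊤ := by
    rw [eq_top_iff, ← hG1]
    exact le_sup_right
  have h1 := PJ_le M cs i
  have h2 := H554.RG.eq_PJ R hGG (B_le_PJ.trans h1)
  apply le_antisymm ?_ h1
  rw [h2]
  refine H554.RG.PJ_mono R fun j hj => ?_
  rw [Set.mem_compl_singleton_iff]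
  rintro rfl
  obtain ⟨g, hg, e⟩ := hj
  have hg' : ∀ v ∈ RS Fr (Si j), g.1 v ∈ RS Fr (Si j) := Subgroup.mem_subgroupOf.1 hg
  set k : M.I := ⟨_root_.Cfsg.Agent.Nodes.WittRGD.nn Fr p0 j, WittAll.nn_mem hA p0 j⟩ with hk
  have hz : M.φ (g⁻¹ * k) = 1 := by
    rw [map_mul, map_inv, e]
    exact inv_mul_cancel _
  obtain ⟨a, ha⟩ := M.ker (Fr.b (j, true)) _ hz
  have h3 : _root_.Cfsg.Agent.Nodes.WittRGD.nn Fr p0 j (Fr.b (j, true)) ∈ RS Fr (Si j) := by
    have h4 : _root_.Cfsg.Agent.Nodes.WittRGD.nn Fr p0 j (Fr.b (j, true)) = g.1 ((g⁻¹ * k : M.I).1 (Fr.b (j, true))) := by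
      change _root_.Cfsg.Agent.Nodes.WittRGD.nn Fr p0 j (Fr.b (j, true)) = g.1 (g.1⁻¹ (_root_.Cfsg.Agent.Nodes.WittRGD.nn Fr p0 j (Fr.b (j, true))))
      exact (g.1.apply_symm_apply _).symm
    rw [h4, ha, map_smul]
    exact Submodule.smul_mem _ _ (hg' _ (b_mem ⟨le_rfl, rfl⟩))
  obtain ⟨l, hl, e2⟩ := mono_nn hp0 j (j, true)
  rw [e2] at h3
  have h5 : Fr.b (sg j (j, true)) ∈ RS Fr (Si j) := by
    have := Submodule.smul_mem _ l⁻¹ h3
    rwa [smul_smul, inv_mul_cancel₀ hl, one_smul] at this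
  have h6 : sg j (j, true) ∉ Si j := by
    by_cases hi : (j : ℕ) + 1 < n
    · rw [sg_up hi]
      rintro ⟨h7, -⟩
      exact absurd (Fin.le_def.1 h7) (by simp)
    · rw [sg_last hi]
      rintro ⟨-, h7⟩
      exact absurd h7 (by simp)
  -- the vector `b (sg j (j, true))` is not in the span
  have key : ∀ v ∈ RS Fr (Si j), ∀ a, a ∉ Si j → psi Fr v a = 0 := by
    intro v hv a ha
    refine Submodule.span_induction (p := fun v _ => psi Fr v a = 0) ?_ ?_ ?_ ?_ hv
    · rintro _ ⟨c, hc, rfl⟩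
      rw [psi_b, Pi.single_eq_of_ne]
      rintro rfl
      exact ha hc
    · simp
    · intro x y _ _ hx hy
      rw [map_add, Pi.add_apply, hx, hy, add_zero]
    · intro c x _ hx
      rw [map_smul, Pi.smul_apply, hx, smul_zero]
  have h7 := key _ h5 _ h6
  rw [psi_b, Pi.single_eq_same] at h7
  exact one_ne_zero h7

/-- the elements preserving `E` and the opposite subspace lie in the Levi subgroup -/
theorem mem_LJ_of {i : Fin n} {g : M.I} (hE : ∀ x ∈ RS Fr (Si i), g.1 x ∈ RS Fr (Si i))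
    (hF : ∀ x ∈ RS Fr (Ni i), g.1 x ∈ RS Fr (Ni i)) :
    M.φ g ∈ LJ cs (isCartan n) (WittModel.T M) (WittModel.X M) {i}ᶜ := by
  have : Finite W := finite_W cs
  have R := rgdC_model M hA hp0 cs
  have h1 : M.φ g ∈ PJ cs (isCartan n) (WittModel.T M) (WittModel.X M) {i}ᶜ := by
    rw [← PJ_eq hA hp0 hn i]
    exact ⟨g, Subgroup.mem_subgroupOf.2 hE, rfl⟩
  obtain ⟨l, hl, v, hv, e⟩ := (mem_PJ R).1 h1
  obtain ⟨l', hl', rfl⟩ := LJ_le M cs i hl
  obtain ⟨v', hv', rfl⟩ := VJ_le M cs i hv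
  have hl1 := Subgroup.mem_inf.1 (Subgroup.mem_subgroupOf.1 hl')
  have hv1 : v'.1 ∈ Uni Fr i := Subgroup.mem_subgroupOf.1 hv'
  have hz : M.φ (g⁻¹ * (l' * v')) = 1 := by rw [map_mul, map_inv, map_mul, e, inv_mul_cancel]
  have h2 : v'.1 = 1 := by
    refine eq_one_of_Uni hv1 (hA.iso _ v'.2) fun x hx => ?_
    have h3 : v'.1 x = l'.1⁻¹ (g.1 ((g⁻¹ * (l' * v') : M.I).1 x)) := by
      change v'.1 x = l'.1⁻¹ (g.1 (g.1⁻¹ (l'.1 (v'.1 x))))
      rw [show g.1 (g.1⁻¹ (l'.1 (v'.1 x))) = l'.1 (v'.1 x) from g.1.apply_symm_apply _]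
      exact (l'.1.symm_apply_apply _).symm
    rw [h3]
    exact (inv_mem hl1.2 : l'.1⁻¹ ∈ Stb (RS Fr (Ni i))) _ (hF _ (ker_maps M hz _ hx))
  have h3 : v' = 1 := Subtype.ext h2
  rw [h3, map_one, mul_one] at e
  rw [e]
  exact hl

/-- **the criterion for elliptic elements** -/
theorem ell_of {i : Fin n} {t : M.I} (hE : ∀ x ∈ RS Fr (Si i), t.1 x ∈ RS Fr (Si i))
    (hF : ∀ x ∈ RS Fr (Ni i), t.1 x ∈ RS Fr (Ni i))
    (hirr : ∀ U : Submodule F V, U ≤ RS Fr (Si i) → U ≠ ⊥ → (∀ x ∈ U, t.1 x ∈ U) → U = RS Fr (Si i))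
    (hM : ∀ f : V →ₗ[F] V, (∀ v ∈ Mid Fr i, f v ∈ RS Fr (Si i)) → (∀ v ∈ Mid Fr i, f (t.1 v) = t.1 (f v)) →
      ∀ v ∈ Mid Fr i, f v = 0)
    (hFE : ∀ f : V →ₗ[F] V, (∀ v ∈ RS Fr (Ni i), f v ∈ RS Fr (Si i)) →
      (∀ v ∈ RS Fr (Ni i), f (t.1 v) = t.1 (f v)) → ∀ v ∈ RS Fr (Ni i), f v = 0)
    (hiso : ∀ U : Submodule F V, U ≤ Mid Fr i → (∀ x ∈ U, ∀ y ∈ U, H.h x y = 0) → (∀ x ∈ U, t.1 x ∈ U) → U = ⊥)
    (hnd : ∀ v ∈ Mid Fr i, (∀ w ∈ Mid Fr i, H.h v w = 0) → v = 0) :
    Ell cs (isCartan n) (WittModel.T M) (WittModel.X M) {i}ᶜ (M.φ t) := by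
  have : Finite W := finite_W cs
  have R := rgdC_model M hA hp0 cs
  have hb0 : Fr.b (i, true) ≠ 0 := b_ne_zero _
  have hbE : Fr.b (i, true) ∈ RS Fr (Si i) := b_mem ⟨le_rfl, rfl⟩
  have hEi : ∀ x ∈ RS Fr (Si i), t.1⁻¹ x ∈ RS Fr (Si i) :=
    (inv_mem (show t.1 ∈ Stb (RS Fr (Si i)) from hE) : t.1⁻¹ ∈ Stb (RS Fr (Si i)))
  refine ⟨⟨mem_LJ_of hA hp0 hn hE hF, fun u hu hcomm => ?_⟩, fun J hJ l hl hP => ?_⟩
  · obtain ⟨u, hu', rfl⟩ := VJ_le M cs i hu
    obtain ⟨h1, h2, h3⟩ : u.1 ∈ Uni Fr i := Subgroup.mem_subgroupOf.1 hu'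
    -- the commutator is a scalar with a fixed vector
    have hz : M.φ (t * u * (u * t)⁻¹) = 1 := by
      rw [map_mul, map_mul, map_inv, map_mul, hcomm, mul_inv_cancel]
    have hc : (t * u * (u * t)⁻¹ : M.I).1 = 1 := by
      refine ker_eq_one M hz hb0 ?_
      change t.1 (u.1 ((u.1 * t.1)⁻¹ (Fr.b (i, true)))) = _
      have e1 : (u.1 * t.1)⁻¹ (Fr.b (i, true)) = t.1⁻¹ (Fr.b (i, true)) := by
        apply (u.1 * t.1).injective
        rw [show (u.1 * t.1) ((u.1 * t.1)⁻¹ (Fr.b (i, true))) = Fr.b (i, true) from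
          (u.1 * t.1).apply_symm_apply _]
        change _ = u.1 (t.1 (t.1⁻¹ (Fr.b (i, true))))
        rw [show t.1 (t.1⁻¹ (Fr.b (i, true))) = Fr.b (i, true) from t.1.apply_symm_apply _, h1 _ hbE]
      rw [e1, h1 _ (hEi _ hbE)]
      exact t.1.apply_symm_apply _
    have hc2 : t.1 * u.1 = u.1 * t.1 := by
      have : t * u * (u * t)⁻¹ = 1 := Subtype.ext hc
      exact congrArg Subtype.val (mul_inv_eq_one.1 this)
    have hcv : ∀ v, t.1 (u.1 v) = u.1 (t.1 v) := fun v => LinearEquiv.congr_fun hc2 v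
    set f : V →ₗ[F] V := (u.1 : V →ₗ[F] V) - LinearMap.id with hf
    have hfa : ∀ v, f v = u.1 v - v := fun v => rfl
    have hft : ∀ v, f (t.1 v) = t.1 (f v) := fun v => by rw [hfa, hfa, map_sub, hcv]
    have hmid : ∀ v ∈ Mid Fr i, u.1 v = v := fun v hv => by
      have := hM f (fun v hv => by rw [hfa]; exact h2 v (Mid_le_Pp hv)) (fun v _ => hft v) v hv
      rw [hfa] at this
      exact sub_eq_zero.1 this
    have hFm : ∀ v ∈ RS Fr (Ni i), f v ∈ RS Fr (Si i) := fun v hv => by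
      obtain ⟨x, hx, y, hy, w, hw, e⟩ := exists_decomp (Fr := Fr) i (f v)
      have hfP : f v ∈ Pp Fr i := by rw [hfa]; exact h3 v
      have hy0 : y = 0 := by
        apply eq_zero_of_F_Pp hy
        have e2 : y = f v - x - w := by rw [e]; abel
        rw [e2]
        exact Submodule.sub_mem _ (Submodule.sub_mem _ hfP (E_le_Pp hx)) (Mid_le_Pp hw)
      have hw0 : w = 0 := by
        apply hnd w hw
        intro w' hw'
        have e2 : w = f v - x := by rw [e, hy0]; abel
        have e3 : H.h (u.1 v) w' = H.h v w' := by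
          conv_lhs => rw [← hmid w' hw']
          exact hA.iso _ u.2 _ _
        have e4 : H.h x w' = 0 := H.orth_symm (Mid_E hw' x hx)
        rw [e2, H.sub_left, hfa, H.sub_left, e3, sub_self, e4, sub_zero]
      rw [e, hy0, hw0, add_zero, add_zero]
      exact hx
    have hF1 : ∀ v ∈ RS Fr (Ni i), u.1 v = v := fun v hv => by
      have := hFE f hFm (fun v _ => hft v) v hv
      rw [hfa] at this
      exact sub_eq_zero.1 this
    have hu1 : u.1 = 1 := by
      ext v
      obtain ⟨x, hx, y, hy, w, hw, rfl⟩ := exists_decomp (Fr := Fr) i v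
      change u.1 (x + y + w) = x + y + w
      rw [map_add, map_add, h1 x hx, hF1 y hy, hmid w hw]
    have hu2 : u = 1 := Subtype.ext hu1
    rw [hu2, map_one]
  · obtain ⟨l, hl', rfl⟩ := LJ_le M cs i hl
    have hl1 := Subgroup.mem_inf.1 (Subgroup.mem_subgroupOf.1 hl')
    obtain ⟨j, hj, hjJ⟩ := Set.exists_of_ssubset hJ
    rw [Set.mem_compl_singleton_iff] at hj
    have h1 : M.φ (l * t * l⁻¹) ∈ ((Stb (RS Fr (Si j))).subgroupOf M.I).map M.φ := by
      rw [map_mul, map_mul, map_inv, PJ_eq hA hp0 hn (cs := cs) j]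
      refine H554.RG.PJ_mono R (fun k hk => ?_) hP
      rw [Set.mem_compl_singleton_iff]
      rintro rfl
      exact hjJ hk
    obtain ⟨g, hg, e⟩ := h1
    have hg' : ∀ v ∈ RS Fr (Si j), g.1 v ∈ RS Fr (Si j) := Subgroup.mem_subgroupOf.1 hg
    have hz : M.φ (g⁻¹ * (l * t * l⁻¹)) = 1 := by rw [map_mul, map_inv, e, inv_mul_cancel]
    have h2 : ∀ v ∈ RS Fr (Si j), (l * t * l⁻¹ : M.I).1 v ∈ RS Fr (Si j) := fun v hv => by
      have h3 : (l * t * l⁻¹ : M.I).1 v = g.1 ((g⁻¹ * (l * t * l⁻¹) : M.I).1 v) := by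
        change _ = g.1 (g.1⁻¹ ((l * t * l⁻¹ : M.I).1 v))
        exact (g.1.apply_symm_apply _).symm
      rw [h3]
      exact hg' _ (ker_maps M hz _ hv)
    -- the invariant subspace
    set U : Submodule F V := (RS Fr (Si j)).comap (l.1 : V →ₗ[F] V) with hU
    have hUt : ∀ x ∈ U, t.1 x ∈ U := fun x hx => by
      change l.1 (t.1 x) ∈ RS Fr (Si j)
      have h3 := h2 (l.1 x) hx
      have h4 : (l * t * l⁻¹ : M.I).1 (l.1 x) = l.1 (t.1 x) := by
        change l.1 (t.1 (l.1⁻¹ (l.1 x))) = _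
        rw [show l.1⁻¹ (l.1 x) = x from l.1.symm_apply_apply x]
      rwa [h4] at h3
    have hli : ∀ v, l.1 (l.1⁻¹ v) = v := fun v => l.1.apply_symm_apply v
    have hli' : ∀ v, l.1⁻¹ (l.1 v) = v := fun v => l.1.symm_apply_apply v
    rcases lt_or_gt_of_ne hj with hlt | hgt
    · -- a subspace of `E`
      have hsub : RS Fr (Si j) ≤ RS Fr (Si i) :=
        Submodule.span_mono (Set.image_mono fun a ha => ⟨ha.1.trans hlt.le, ha.2⟩)
      have hUE : U ≤ RS Fr (Si i) := fun x hx => by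
        have h3 : l.1⁻¹ (l.1 x) ∈ RS Fr (Si i) := (inv_mem hl1.1 : l.1⁻¹ ∈ Stb _) _ (hsub hx)
        rwa [hli'] at h3
      have hU0 : U ≠ ⊥ := by
        intro h0
        have h3 : l.1⁻¹ (Fr.b (j, true)) ∈ U := by
          change l.1 (l.1⁻¹ (Fr.b (j, true))) ∈ RS Fr (Si j)
          rw [hli]
          exact b_mem ⟨le_rfl, rfl⟩
        rw [h0, Submodule.mem_bot] at h3
        have h4 := congrArg l.1 h3
        rw [hli, map_zero] at h4
        exact b_ne_zero _ h4
      have hUE' := hirr U hUE hU0 hUt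
      have h5 : Fr.b (i, true) ∈ RS Fr (Si j) := by
        have h6 : l.1⁻¹ (Fr.b (i, true)) ∈ RS Fr (Si i) := (inv_mem hl1.1 : l.1⁻¹ ∈ Stb _) _ hbE
        rw [← hUE'] at h6
        change l.1 (l.1⁻¹ (Fr.b (i, true))) ∈ RS Fr (Si j) at h6
        rwa [hli] at h6
      have key : ∀ v ∈ RS Fr (Si j), psi Fr v (i, true) = 0 := by
        intro v hv
        refine Submodule.span_induction (p := fun v _ => psi Fr v (i, true) = 0) ?_ ?_ ?_ ?_ hv
        · rintro _ ⟨c, hc, rfl⟩
          rw [psi_b, Pi.single_eq_of_ne]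
          rintro rfl
          exact absurd hc.1 (not_le.2 hlt)
        · simp
        · intro x y _ _ hx hy
          rw [map_add, Pi.add_apply, hx, hy, add_zero]
        · intro c x _ hx
          rw [map_smul, Pi.smul_apply, hx, smul_zero]
      have h6 := key _ h5
      rw [psi_b, Pi.single_eq_same] at h6
      exact one_ne_zero h6
    · -- a subspace of the complement
      have hlM : ∀ v ∈ Mid Fr i, ∀ g : M.I, g.1 ∈ Stb (RS Fr (Si i)) → g.1 ∈ Stb (RS Fr (Ni i)) → g.1 v ∈ Mid Fr i := by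
        intro v hv g hgE hgF k hk s
        have e5 : H.h (g.1 v) (Fr.b (k, s)) = H.h v (g.1⁻¹ (Fr.b (k, s))) := by
          have := hA.iso _ g.2 v (g.1⁻¹ (Fr.b (k, s)))
          rwa [show g.1 (g.1⁻¹ (Fr.b (k, s))) = Fr.b (k, s) from g.1.apply_symm_apply _] at this
        rw [e5]
        cases s
        · exact Mid_F hv _ ((inv_mem hgF : g.1⁻¹ ∈ Stb _) _ (b_mem ⟨hk, rfl⟩))
        · exact Mid_E hv _ ((inv_mem hgE : g.1⁻¹ ∈ Stb _) _ (b_mem ⟨hk, rfl⟩))
      have hbM : Fr.b (j, true) ∈ Mid Fr i := fun k hk s => Fr.hb_ne fun h => by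
        have h3 := congrArg Prod.fst h
        rw [neg_fst] at h3
        change k = j at h3
        subst h3
        exact absurd hk (not_le.2 hgt)
      have hxM : l.1⁻¹ (Fr.b (j, true)) ∈ Mid Fr i :=
        hlM _ hbM l⁻¹ (inv_mem hl1.1) (inv_mem hl1.2)
      have hxU : l.1⁻¹ (Fr.b (j, true)) ∈ U ⊓ Mid Fr i := by
        refine ⟨?_, hxM⟩
        change l.1 (l.1⁻¹ (Fr.b (j, true))) ∈ RS Fr (Si j)
        rw [hli]
        exact b_mem ⟨le_rfl, rfl⟩
      have h0 := hiso (U ⊓ Mid Fr i) inf_le_right (fun x hx y hy => by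
        rw [← hA.iso _ l.2 x y]
        exact isotropic (isoS_Si j) _ hx.1 _ hy.1) (fun x hx => ⟨hUt x hx.1, hlM x hx.2 t hE hF⟩)
      rw [h0, Submodule.mem_bot] at hxU
      have h4 := congrArg l.1 hxU
      rw [hli, map_zero] at h4
      exact b_ne_zero _ h4

end Model

end Cfsg.Agent.H410.OZ
end

-- part: H410/OZ/Tor
section
/-!
# S4842: tori of `GL(E)` in classical groups (helper410)

`L` a field extension of `F` of degree `i + 1` with a basis `β` indexed by the `k ≤ i`.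
* `gl β z` : the isometry which acts on `E ≅ L` as multiplication by `z`, on the opposite subspace (the dual of `L`) as
  the inverse of its transpose and trivially on `Mid Fr i`;
* `ell_gl` : the elements `gl β z * D` are elliptic;
* `not_isConj_gl` : a criterion for non-conjugacy.
-/

set_option autoImplicit false
set_option linter.unusedSectionVars false

namespace Cfsg.Agent.H410.OZ

open CoxeterSystem Cfsg.Agent.ChevalleyStructure.CoxeterGeom Cfsg.Agent.Tits.Roots Cfsg.Agent.Nodes.TypeC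
open Cfsg.Agent.Nodes Cfsg.Agent.Nodes.Comb Cfsg.Agent.Nodes.Reps Cfsg.Agent.Nodes.WittRoot Cfsg.Agent.Nodes.BNOf
open Cfsg.Agent.Nodes.WittRGD Cfsg.Agent.Nodes.RGDLib Cfsg.Agent.Nodes.WittAll
open Cfsg.Agent.TitsThree Cfsg.Agent.TitsThree.Siegel Cfsg.Agent.TitsThree.WittFrame
  Cfsg.Agent.TitsThree.WittWeyl Cfsg.Agent.TitsThree.FrameCN
open Cfsg.Agent.Nodes.StabComb Cfsg.Agent.Nodes.Bruhat Cfsg.Agent.Nodes.LeviDec
open Cfsg.Agent.H62.PCFrame Cfsg.Agent.H62.PCWitt Cfsg.Agent.H985.VZ Module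

section Frame

variable {F : Type*} [Field F] {V : Type*} [AddCommGroup V] [Module F V] {H : HForm F V} {n : ℕ}
  (Fr : Frame H (Fin n)) {i : Fin n} {L : Type*} [Field L] [Algebra F L] (β : Basis {k : Fin n // k ≤ i} F L)

/-- `L ≅ E` -/
noncomputable def eE : L →ₗ[F] V where
  toFun x := ∑ k, β.repr x k • Fr.b (k.1, true)
  map_add' x y := by simp only [map_add, Finsupp.add_apply, add_smul, Finset.sum_add_distrib]
  map_smul' c x := by
    simp only [map_smul, Finsupp.smul_apply, smul_eq_mul, mul_smul, Finset.smul_sum, RingHom.id_apply]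

/-- `Dual L ≅` the opposite subspace -/
noncomputable def fF : Dual F L →ₗ[F] V where
  toFun l := ∑ k, l (β k) • Fr.b (k.1, false)
  map_add' x y := by simp only [LinearMap.add_apply, add_smul, Finset.sum_add_distrib]
  map_smul' c x := by
    simp only [LinearMap.smul_apply, smul_eq_mul, mul_smul, Finset.smul_sum, RingHom.id_apply]

/-- the component in `E` -/
noncomputable def xc : V →ₗ[F] L where
  toFun v := ∑ k, H.h v (Fr.b (k.1, false)) • β k
  map_add' x y := by simp only [H.add_left, add_smul, Finset.sum_add_distrib]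
  map_smul' c x := by simp only [H.smul_left, mul_smul, Finset.smul_sum, RingHom.id_apply]

/-- the component in the opposite subspace -/
noncomputable def lc : V →ₗ[F] Dual F L where
  toFun v := ∑ k, (H.ε⁻¹ * H.h v (Fr.b (k.1, true))) • β.coord k
  map_add' x y := by simp only [H.add_left, mul_add, add_smul, Finset.sum_add_distrib]
  map_smul' c x := by
    simp only [H.smul_left, Finset.smul_sum, RingHom.id_apply, smul_smul]
    refine Finset.sum_congr rfl fun k _ => ?_
    congr 1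
    ring

variable {Fr} {β}

theorem eE_apply (x : L) : eE Fr β x = ∑ k, β.repr x k • Fr.b (k.1, true) := rfl

theorem fF_apply (l : Dual F L) : fF Fr β l = ∑ k, l (β k) • Fr.b (k.1, false) := rfl

theorem xc_apply (v : V) : xc Fr β v = ∑ k, H.h v (Fr.b (k.1, false)) • β k := rfl

theorem lc_apply (v : V) (y : L) : lc Fr β v y = ∑ k, H.ε⁻¹ * H.h v (Fr.b (k.1, true)) * β.repr y k := by
  change (∑ k, (H.ε⁻¹ * H.h v (Fr.b (k.1, true))) • β.coord k) y = _
  rw [LinearMap.sum_apply]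
  rfl

theorem h_sum_left {κ : Type*} [Fintype κ] (c : κ → F) (u : κ → V) (w : V) :
    H.h (∑ k, c k • u k) w = ∑ k, c k * H.h (u k) w := by
  classical
  have key : ∀ s : Finset κ, H.h (∑ k ∈ s, c k • u k) w = ∑ k ∈ s, c k * H.h (u k) w := by
    intro s
    induction s using Finset.induction_on with
    | empty => simp [H.zero_left]
    | insert j s hj ih => rw [Finset.sum_insert hj, Finset.sum_insert hj, H.add_left, H.smul_left, ih]
  exact key _

theorem h_eE_false (x : L) (k : {k : Fin n // k ≤ i}) : H.h (eE Fr β x) (Fr.b (k.1, false)) = β.repr x k := by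
  rw [eE_apply, h_sum_left, Finset.sum_eq_single k]
  · rw [Fr.hb]; simp
  · intro j _ hj
    rw [Fr.hb, if_neg, mul_zero]
    rintro ⟨h1, -⟩
    exact hj (Subtype.ext h1)
  · intro h; exact absurd (Finset.mem_univ _) h

theorem h_eE_true (x : L) (k : Fin n) : H.h (eE Fr β x) (Fr.b (k, true)) = 0 := by
  rw [eE_apply, h_sum_left]
  refine Finset.sum_eq_zero fun j _ => ?_
  rw [Fr.hb]; simp

theorem h_fF_true (l : Dual F L) (k : {k : Fin n // k ≤ i}) : H.h (fF Fr β l) (Fr.b (k.1, true)) = H.ε * l (β k) := by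
  rw [fF_apply, h_sum_left, Finset.sum_eq_single k]
  · rw [Fr.hb]; simp [mul_comm]
  · intro j _ hj
    rw [Fr.hb, if_neg, mul_zero]
    rintro ⟨h1, -⟩
    exact hj (Subtype.ext h1)
  · intro h; exact absurd (Finset.mem_univ _) h

theorem h_fF_false (l : Dual F L) (k : Fin n) : H.h (fF Fr β l) (Fr.b (k, false)) = 0 := by
  rw [fF_apply, h_sum_left]
  refine Finset.sum_eq_zero fun j _ => ?_
  rw [Fr.hb]; simp

theorem xc_eE (x : L) : xc Fr β (eE Fr β x) = x := by
  rw [xc_apply]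
  simp only [h_eE_false]
  exact β.sum_repr x

theorem xc_fF (l : Dual F L) : xc Fr β (fF Fr β l) = 0 := by
  rw [xc_apply]
  simp only [h_fF_false, zero_smul, Finset.sum_const_zero]

theorem lc_eE (x : L) : lc Fr β (eE Fr β x) = 0 := by
  ext y
  rw [lc_apply]
  simp only [h_eE_true, mul_zero, zero_mul, Finset.sum_const_zero, LinearMap.zero_apply]

theorem lc_fF (l : Dual F L) : lc Fr β (fF Fr β l) = l := by
  ext y
  rw [lc_apply]
  simp only [h_fF_true]
  have h3 := H.ε_ne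
  conv_rhs => rw [← β.sum_repr y]
  rw [map_sum]
  refine Finset.sum_congr rfl fun k _ => ?_
  rw [map_smul, smul_eq_mul, ← mul_assoc, inv_mul_cancel₀ h3, one_mul, mul_comm]

theorem eE_mem (x : L) : eE Fr β x ∈ RS Fr (Si i) := by
  rw [eE_apply]
  exact Submodule.sum_mem _ fun k _ => Submodule.smul_mem _ _
    (b_mem (show ((k.1, true) : Fin n × Bool) ∈ Si i from ⟨k.2, rfl⟩))

theorem fF_mem (l : Dual F L) : fF Fr β l ∈ RS Fr (Ni i) := by
  rw [fF_apply]
  exact Submodule.sum_mem _ fun k _ => Submodule.smul_mem _ _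
    (b_mem (show ((k.1, false) : Fin n × Bool) ∈ Ni i from ⟨k.2, rfl⟩))

theorem eE_basis (k : {k : Fin n // k ≤ i}) : eE Fr β (β k) = Fr.b (k.1, true) := by
  rw [eE_apply, Finset.sum_eq_single k]
  · simp
  · intro j _ hj
    simp [Ne.symm hj]
  · intro h; exact absurd (Finset.mem_univ _) h

theorem fF_basis (k : {k : Fin n // k ≤ i}) : fF Fr β (β.coord k) = Fr.b (k.1, false) := by
  rw [fF_apply, Finset.sum_eq_single k]
  · simp
  · intro j _ hj
    simp [hj]
  · intro h; exact absurd (Finset.mem_univ _) h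

variable (β) in
theorem exists_eE {v : V} (hv : v ∈ RS Fr (Si i)) : ∃ x, eE Fr β x = v := by
  have : RS Fr (Si i) ≤ LinearMap.range (eE Fr β) := by
    refine Submodule.span_le.2 ?_
    rintro _ ⟨a, ⟨ha, hat⟩, rfl⟩
    refine ⟨β ⟨a.1, ha⟩, ?_⟩
    rw [eE_basis]
    congr 1
    exact Prod.ext rfl hat.symm
  exact this hv

variable (β) in
theorem exists_fF {v : V} (hv : v ∈ RS Fr (Ni i)) : ∃ l, fF Fr β l = v := by
  have : RS Fr (Ni i) ≤ LinearMap.range (fF Fr β) := by
    refine Submodule.span_le.2 ?_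
    rintro _ ⟨a, ⟨ha, hat⟩, rfl⟩
    refine ⟨β.coord ⟨a.1, ha⟩, ?_⟩
    rw [fF_basis]
    congr 1
    exact Prod.ext rfl hat.symm
  exact this hv

theorem eE_injective : Function.Injective (eE Fr β) := fun x y e => by
  have := congrArg (xc Fr β) e
  rwa [xc_eE, xc_eE] at this

theorem xc_Mid {v : V} (hv : v ∈ Mid Fr i) : xc Fr β v = 0 := by
  rw [xc_apply]
  refine Finset.sum_eq_zero fun k _ => ?_
  rw [hv k.1 k.2 false, zero_smul]

theorem lc_Mid {v : V} (hv : v ∈ Mid Fr i) : lc Fr β v = 0 := by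
  ext y
  rw [lc_apply]
  refine Finset.sum_eq_zero fun k _ => ?_
  rw [hv k.1 k.2 true, mul_zero, zero_mul]

variable (Fr) (β)

/-- multiplication by `z`, dually -/
noncomputable def dl (z : L) (l : Dual F L) : Dual F L := l ∘ₗ LinearMap.mulLeft F z

/-- the torus element as a linear map -/
noncomputable def glM (z : Lˣ) : V →ₗ[F] V where
  toFun v := v + eE Fr β (((z : L) - 1) * xc Fr β v) + fF Fr β (dl ((z⁻¹ : Lˣ) : L) (lc Fr β v) - lc Fr β v)
  map_add' v w := by
    have e : dl ((z⁻¹ : Lˣ) : L) (lc Fr β (v + w)) = dl ((z⁻¹ : Lˣ) : L) (lc Fr β v) + dl ((z⁻¹ : Lˣ) : L) (lc Fr β w) := by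
      rw [map_add]; rfl
    rw [e, map_add (xc Fr β), map_add (lc Fr β), mul_add, map_add]
    have e2 : ∀ a b c d : Dual F L, a + b - (c + d) = (a - c) + (b - d) := fun a b c d => by abel
    rw [e2, map_add]
    abel
  map_smul' c v := by
    have e : dl ((z⁻¹ : Lˣ) : L) (lc Fr β (c • v)) = c • dl ((z⁻¹ : Lˣ) : L) (lc Fr β v) := by
      rw [map_smul]; rfl
    have e2 : ∀ a b : Dual F L, c • a - c • b = c • (a - b) := fun a b => by
      ext y
      simp only [mul_sub, _root_.LinearMap.sub_apply, _root_.LinearMap.smul_apply, _root_.smul_eq_mul]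
    rw [e, map_smul (xc Fr β), map_smul (lc Fr β), mul_smul_comm, map_smul, e2, map_smul, RingHom.id_apply,
      smul_add, smul_add]

variable {Fr} {β}

theorem glM_apply (z : Lˣ) (v : V) : glM Fr β z v =
    v + eE Fr β (((z : L) - 1) * xc Fr β v) + fF Fr β (dl ((z⁻¹ : Lˣ) : L) (lc Fr β v) - lc Fr β v) := rfl

theorem dl_dl (z w : L) (l : Dual F L) : dl z (dl w l) = dl (w * z) l := by
  ext y
  simp only [dl, _root_.LinearMap.coe_comp, _root_.Function.comp_apply, _root_.LinearMap.mulLeft_apply, _root_.LinearMap.mulLeft_mul]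

theorem dl_one (l : Dual F L) : dl 1 l = l := by
  ext y
  simp [dl]

theorem xc_glM (z : Lˣ) (v : V) : xc Fr β (glM Fr β z v) = z * xc Fr β v := by
  rw [glM_apply, map_add, map_add, xc_eE, xc_fF]
  ring

theorem lc_glM (z : Lˣ) (v : V) : lc Fr β (glM Fr β z v) = dl ((z⁻¹ : Lˣ) : L) (lc Fr β v) := by
  rw [glM_apply, map_add, map_add, lc_eE, lc_fF]
  abel

theorem glM_mul (z w : Lˣ) (v : V) : glM Fr β z (glM Fr β w v) = glM Fr β (z * w) v := by
  have h1 : glM Fr β z (glM Fr β w v) = glM Fr β w v + eE Fr β (((z : L) - 1) * ((w : L) * xc Fr β v)) +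
      fF Fr β (dl ((z⁻¹ : Lˣ) : L) (dl ((w⁻¹ : Lˣ) : L) (lc Fr β v)) - dl ((w⁻¹ : Lˣ) : L) (lc Fr β v)) := by
    rw [glM_apply z, xc_glM, lc_glM]
  rw [h1, glM_apply w, glM_apply (z * w), dl_dl]
  have h2 : ((w⁻¹ : Lˣ) : L) * ((z⁻¹ : Lˣ) : L) = (((z * w)⁻¹ : Lˣ) : L) := by
    rw [mul_inv_rev, Units.val_mul]
  have h3 : (((z * w : Lˣ) : L) - 1) * xc Fr β v = ((w : L) - 1) * xc Fr β v + ((z : L) - 1) * ((w : L) * xc Fr β v) := by
    rw [Units.val_mul]; ring
  have h4 : dl (((z * w)⁻¹ : Lˣ) : L) (lc Fr β v) - lc Fr β v =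
      (dl ((w⁻¹ : Lˣ) : L) (lc Fr β v) - lc Fr β v) +
        (dl (((z * w)⁻¹ : Lˣ) : L) (lc Fr β v) - dl ((w⁻¹ : Lˣ) : L) (lc Fr β v)) := by abel
  rw [h2, h3, h4, map_add (eE Fr β), map_add (fF Fr β)]
  abel

theorem glM_one (v : V) : glM Fr β 1 v = v := by
  rw [glM_apply, inv_one, Units.val_one, sub_self, zero_mul, map_zero, dl_one, sub_self, map_zero, add_zero,
    add_zero]

variable (Fr) (β)

/-- **the torus** -/
noncomputable def gl : Lˣ →* (V ≃ₗ[F] V) where
  toFun z := LinearEquiv.ofLinearMap (glM Fr β z) (glM Fr β z⁻¹)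
    (by
      ext v
      show glM Fr β z (glM Fr β z⁻¹ v) = v
      rw [glM_mul, mul_inv_cancel]
      exact glM_one v)
    (by
      ext v
      show glM Fr β z⁻¹ (glM Fr β z v) = v
      rw [glM_mul, inv_mul_cancel]
      exact glM_one v)
  map_one' := by
    ext v
    exact glM_one v
  map_mul' z w := by
    ext v
    exact (glM_mul z w v).symm

variable {Fr} {β}

theorem gl_apply (z : Lˣ) (v : V) : gl Fr β z v = glM Fr β z v := rfl

theorem gl_eE (z : Lˣ) (x : L) : gl Fr β z (eE Fr β x) = eE Fr β (z * x) := by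
  rw [gl_apply, glM_apply, xc_eE, lc_eE]
  have : dl ((z⁻¹ : Lˣ) : L) (0 : Dual F L) = 0 := rfl
  rw [this, sub_zero, map_zero, add_zero, ← map_add]
  congr 1
  ring

theorem gl_fF (z : Lˣ) (l : Dual F L) : gl Fr β z (fF Fr β l) = fF Fr β (dl ((z⁻¹ : Lˣ) : L) l) := by
  rw [gl_apply, glM_apply, xc_fF, lc_fF, mul_zero, map_zero, add_zero, ← map_add]
  congr 1
  abel

theorem gl_Mid (z : Lˣ) {v : V} (hv : v ∈ Mid Fr i) : gl Fr β z v = v := by
  rw [gl_apply, glM_apply, xc_Mid hv, lc_Mid hv]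
  have : dl ((z⁻¹ : Lˣ) : L) (0 : Dual F L) = 0 := rfl
  rw [this, sub_zero, mul_zero, map_zero, map_zero, add_zero, add_zero]

theorem h_eE_left (hσ : ∀ a, H.σ a = a) (x : L) (v : V) : H.h (eE Fr β x) v = lc Fr β v x := by
  have h2 : H.ε * H.ε = 1 := by have := H.ε_mul; rwa [hσ] at this
  have h3 : H.ε⁻¹ = H.ε := inv_eq_of_mul_eq_one_right h2
  rw [eE_apply, h_sum_left, lc_apply]
  refine Finset.sum_congr rfl fun k _ => ?_
  rw [H.swap v (Fr.b (k.1, true)), hσ, h3]
  ring

theorem h_fF_left (hσ : ∀ a, H.σ a = a) (l : Dual F L) (v : V) : H.h (fF Fr β l) v = H.ε * l (xc Fr β v) := by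
  rw [fF_apply, h_sum_left, xc_apply, map_sum, Finset.mul_sum]
  refine Finset.sum_congr rfl fun k _ => ?_
  rw [map_smul, smul_eq_mul, H.swap v (Fr.b (k.1, false)), hσ]
  ring

theorem isIso_gl (hσ : ∀ a, H.σ a = a) (z : Lˣ) : H.IsIso (gl Fr β z) := by
  intro v w
  have h2 : H.ε * H.ε = 1 := by have := H.ε_mul; rwa [hσ] at this
  have hr : ∀ (v : V) (x : L), H.h v (eE Fr β x) = H.ε * lc Fr β v x := fun v x => by
    rw [H.swap (eE Fr β x) v, hσ, h_eE_left hσ]
  have hr' : ∀ (v : V) (l : Dual F L), H.h v (fF Fr β l) = l (xc Fr β v) := fun v l => by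
    rw [H.swap (fF Fr β l) v, hσ, h_fF_left hσ, ← mul_assoc, h2, one_mul]
  have hz : ((z⁻¹ : Lˣ) : L) * (z : L) = 1 := by rw [← Units.val_mul, inv_mul_cancel, Units.val_one]
  have hzz : ∀ x : L, ((z⁻¹ : Lˣ) : L) * (((z : L) - 1) * x) = x - ((z⁻¹ : Lˣ) : L) * x := fun x => by
    rw [← mul_assoc, mul_sub, hz]; ring
  rw [gl_apply, gl_apply, glM_apply, glM_apply]
  simp only [H.add_left, H.add_right, h_eE_left hσ, h_fF_left hσ, hr, hr', lc_eE, lc_fF, xc_eE, xc_fF,
    LinearMap.zero_apply, mul_zero, map_zero, add_zero, LinearMap.sub_apply, dl, LinearMap.comp_apply,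
    LinearMap.mulLeft_apply, hzz]
  simp only [map_sub]
  ring

end Frame

/-! ### Polynomials -/

section Poly

open Polynomial

variable {F : Type*} [Field F] {V V' : Type*} [AddCommGroup V] [Module F V] [AddCommGroup V'] [Module F V']

theorem aeval_comm (f : V →ₗ[F] V') (A : Module.End F V) (B : Module.End F V') (U : Submodule F V)
    (hU : ∀ v ∈ U, A v ∈ U) (h : ∀ v ∈ U, f (A v) = B (f v)) (P : F[X]) :
    ∀ v ∈ U, f (aeval A P v) = aeval B P (f v) := by
  have hp : ∀ (m : ℕ), ∀ v ∈ U, (A ^ m) v ∈ U ∧ f ((A ^ m) v) = (B ^ m) (f v) := by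
    intro m
    induction m with
    | zero => exact fun v hv => ⟨hv, rfl⟩
    | succ m ih =>
      intro v hv
      have h1 := ih (A v) (hU v hv)
      have e1 : (A ^ (m + 1)) v = (A ^ m) (A v) := by rw [pow_succ]; rfl
      have e2 : (B ^ (m + 1)) (f v) = (B ^ m) (B (f v)) := by rw [pow_succ]; rfl
      rw [e1, e2, ← h v hv]
      exact h1
  induction P using Polynomial.induction_on' with
  | add P Q hP hQ =>
    intro v hv
    rw [map_add, map_add, LinearMap.add_apply, map_add, LinearMap.add_apply, hP v hv, hQ v hv]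
  | monomial m a =>
    intro v hv
    rw [aeval_monomial, aeval_monomial]
    simp only [Module.End.mul_apply, Module.algebraMap_end_apply]
    rw [map_smul, (hp m v hv).2]

variable {L : Type*} [Field L] [Algebra F L]

theorem aeval_mulLeft (w : L) (P : F[X]) (x : L) : aeval (LinearMap.mulLeft F w) P x = aeval w P * x := by
  have h1 : (Algebra.lmul F L) w = LinearMap.mulLeft F w := rfl
  rw [← h1, aeval_algHom_apply]
  rfl

/-- the dual action -/
noncomputable def dlL (w : L) : Module.End F (Dual F L) where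
  toFun l := dl w l
  map_add' _ _ := rfl
  map_smul' _ _ := rfl

theorem aeval_dlL (w : L) (P : F[X]) (l : Dual F L) : aeval (dlL w) P l = dl (aeval w P) l := by
  have hp : ∀ (m : ℕ), ∀ l : Dual F L, ((dlL w) ^ m) l = dl (w ^ m) l := by
    intro m
    induction m with
    | zero =>
      intro l
      rw [pow_zero, pow_zero, dl_one]
      rfl
    | succ m ih =>
      intro l
      have e1 : ((dlL w) ^ (m + 1)) l = ((dlL w) ^ m) (dlL w l) := by rw [pow_succ]; rfl
      rw [e1, ih, pow_succ]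
      change dl (w ^ m) (dl w l) = _
      rw [dl_dl, mul_comm]
  induction P using Polynomial.induction_on' with
  | add P Q hP hQ =>
    rw [map_add, LinearMap.add_apply, hP, hQ, map_add]
    ext y
    simp only [dl, add_mul, _root_.LinearMap.add_apply, _root_.LinearMap.coe_comp, _root_.Function.comp_apply, _root_.LinearMap.mulLeft_apply, _root_.map_add]
  | monomial m a =>
    rw [aeval_monomial, aeval_monomial]
    simp only [Module.End.mul_apply, Module.algebraMap_end_apply]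
    rw [hp]
    ext y
    simp only [dl, ← Algebra.smul_def, _root_.LinearMap.smul_apply, _root_.LinearMap.coe_comp, _root_.Function.comp_apply, _root_.LinearMap.mulLeft_apply, _root_.smul_eq_mul, _root_.Algebra.smul_mul_assoc, _root_.map_smul]

/-- a linear map with all vectors as eigenvectors is a scalar -/
theorem exists_scalar {g : V →ₗ[F] V} (hg : ∀ v, ∃ a : F, g v = a • v) : ∃ c : F, ∀ v, g v = c • v := by
  by_cases hV : ∀ v : V, v = 0
  · exact ⟨1, fun v => by rw [hV v]; simp⟩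
  push Not at hV
  obtain ⟨x, hx0⟩ := hV
  obtain ⟨c, hc⟩ := hg x
  refine ⟨c, fun v => ?_⟩
  obtain ⟨a, ha⟩ := hg v
  by_cases hv : ∃ e : F, v = e • x
  · obtain ⟨e, rfl⟩ := hv
    rw [map_smul, hc, smul_comm]
  · obtain ⟨b, hb⟩ := hg (v + x)
    rw [map_add, hc, ha, smul_add] at hb
    have h1 : (a - b) • v = (b - c) • x := by
      rw [sub_smul, sub_smul]
      have := sub_eq_zero.2 hb
      rw [← sub_eq_zero, ← this]
      abel
    by_cases hab : a = b
    · subst hab
      rw [sub_self, zero_smul] at h1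
      have h2 : a - c = 0 := (smul_eq_zero.1 h1.symm).resolve_right hx0
      rw [ha, sub_eq_zero.1 h2]
    · exfalso
      apply hv
      refine ⟨(a - b)⁻¹ * (b - c), ?_⟩
      rw [mul_smul, ← h1, smul_smul, inv_mul_cancel₀ (sub_ne_zero.2 hab), one_smul]

end Poly

section Model

open Polynomial

variable {F : Type*} [Field F] {V : Type*} [AddCommGroup V] [Module F V] {H : HForm F V} {n : ℕ}
  {Fr : Frame H (Fin n)} {K : Type*} [Group K] {M : Model Fr K}
  {i : Fin n} {L : Type*} [Field L] [Algebra F L] {β : Basis {k : Fin n // k ≤ i} F L}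

/-- the second factor of the elements -/
structure Comp (Fr : Frame H (Fin n)) (i : Fin n) (s : ℕ) (D : V ≃ₗ[F] V) : Prop where
  iso : H.IsIso D
  fix : ∀ k ≤ i, ∀ b, D (Fr.b (k, b)) = Fr.b (k, b)
  pow : ∀ v ∈ Mid Fr i, (D ^ s) v = v

theorem Comp.eE {s : ℕ} {D : V ≃ₗ[F] V} (hD : Comp Fr i s D) (x : L) : D (eE Fr β x) = OZ.eE Fr β x := by
  rw [eE_apply, map_sum]
  refine Finset.sum_congr rfl fun k _ => ?_
  rw [map_smul, hD.fix k.1 k.2]

theorem Comp.fF {s : ℕ} {D : V ≃ₗ[F] V} (hD : Comp Fr i s D) (l : Dual F L) : D (fF Fr β l) = OZ.fF Fr β l := by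
  rw [fF_apply, map_sum]
  refine Finset.sum_congr rfl fun k _ => ?_
  rw [map_smul, hD.fix k.1 k.2]

theorem Comp.mid {s : ℕ} {D : V ≃ₗ[F] V} (hD : Comp Fr i s D) {v : V} (hv : v ∈ Mid Fr i) : D v ∈ Mid Fr i := by
  intro k hk b
  rw [← hD.fix k hk b, hD.iso]
  exact hv k hk b

variable {s : ℕ} {D : V ≃ₗ[F] V} {z : Lˣ}

theorem t_eE (hD : Comp Fr i s D) (x : L) : (gl Fr β z * D) (eE Fr β x) = eE Fr β (z * x) := by
  change gl Fr β z (D (eE Fr β x)) = _
  rw [hD.eE, gl_eE]

theorem t_fF (hD : Comp Fr i s D) (l : Dual F L) :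
    (gl Fr β z * D) (fF Fr β l) = fF Fr β (dl ((z⁻¹ : Lˣ) : L) l) := by
  change gl Fr β z (D (fF Fr β l)) = _
  rw [hD.fF, gl_fF]

theorem t_mid (hD : Comp Fr i s D) {v : V} (hv : v ∈ Mid Fr i) : (gl Fr β z * D) v = D v := by
  change gl Fr β z (D v) = _
  exact gl_Mid z (hD.mid hv)

theorem t_aeval_eE (hD : Comp Fr i s D) (P : F[X]) (x : L) :
    aeval ((gl Fr β z * D : V ≃ₗ[F] V) : V →ₗ[F] V) P (eE Fr β x) = eE Fr β (aeval (z : L) P * x) := by
  have h1 := aeval_comm (eE Fr β) (LinearMap.mulLeft F (z : L)) ((gl Fr β z * D : V ≃ₗ[F] V) : V →ₗ[F] V) ⊤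
    (fun _ _ => trivial) (fun v _ => (t_eE hD v).symm) P x trivial
  rw [← h1, aeval_mulLeft]

theorem t_aeval_fF (hD : Comp Fr i s D) (P : F[X]) (l : Dual F L) :
    aeval ((gl Fr β z * D : V ≃ₗ[F] V) : V →ₗ[F] V) P (fF Fr β l) =
      fF Fr β (dl (aeval ((z⁻¹ : Lˣ) : L) P) l) := by
  have h1 := aeval_comm (fF Fr β) (dlL ((z⁻¹ : Lˣ) : L)) ((gl Fr β z * D : V ≃ₗ[F] V) : V →ₗ[F] V) ⊤
    (fun _ _ => trivial) (fun v _ => (t_fF hD v).symm) P l trivial
  rw [← h1, aeval_dlL]

theorem pow_mid (hD : Comp Fr i s D) : ∀ (j : ℕ), ∀ v ∈ Mid Fr i, ((gl Fr β z * D) ^ j) v = (D ^ j) v ∧ (D ^ j) v ∈ Mid Fr i := by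
  intro j
  induction j with
  | zero => exact fun v hv => ⟨rfl, hv⟩
  | succ j ih =>
    intro v hv
    have e1 : ((gl Fr β z * D) ^ (j + 1)) v = ((gl Fr β z * D) ^ j) ((gl Fr β z * D) v) := by rw [pow_succ]; rfl
    have e2 : (D ^ (j + 1)) v = (D ^ j) (D v) := by rw [pow_succ]; rfl
    rw [e1, e2, t_mid hD hv]
    exact ih _ (hD.mid hv)

theorem coe_pow (g : V ≃ₗ[F] V) (j : ℕ) (v : V) : ((g : V →ₗ[F] V) ^ j : Module.End F V) v = (g ^ j) v := by
  induction j generalizing v with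
  | zero => rfl
  | succ j ih =>
    have e1 : ((g : V →ₗ[F] V) ^ (j + 1) : Module.End F V) v = ((g : V →ₗ[F] V) ^ j : Module.End F V) (g v) := by
      rw [pow_succ]; rfl
    have e2 : (g ^ (j + 1)) v = (g ^ j) (g v) := by rw [pow_succ]; rfl
    rw [e1, e2, ih]

variable [Finite V] {W : Type*} [Group W] {cs : CoxeterSystem (CoxeterMatrix.B n) W} {p : ℕ} [Fact p.Prime]
  [CharP F p] (hA : AmbT Fr p M.I) {p0 : Fr.Adm} (hp0 : p0.c ≠ 0) (hn : 0 < n)

include hA hp0 hn

/-- **elliptic elements** -/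
theorem ell_gl (hD : Comp Fr i s D) (ht : gl Fr β z * D ∈ M.I) (hadj : Algebra.adjoin F {(z : L)} = ⊤)
    (hzs : (z : L) ^ s ≠ 1) (hzz : aeval (z : L) (minpoly F ((z⁻¹ : Lˣ) : L)) ≠ 0)
    (hiso : ∀ U : Submodule F V, U ≤ Mid Fr i → (∀ x ∈ U, ∀ y ∈ U, H.h x y = 0) → (∀ x ∈ U, D x ∈ U) → U = ⊥)
    (hnd : ∀ v ∈ Mid Fr i, (∀ w ∈ Mid Fr i, H.h v w = 0) → v = 0) :
    Ell cs (isCartan n) (WittModel.T M) (WittModel.X M) {i}ᶜ (M.φ ⟨gl Fr β z * D, ht⟩) := by
  refine ell_of hA hp0 hn ?_ ?_ ?_ ?_ ?_ ?_ hnd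
  · intro x hx
    obtain ⟨y, rfl⟩ := exists_eE β hx
    change (gl Fr β z * D) _ ∈ _
    rw [t_eE hD]
    exact eE_mem _
  · intro x hx
    obtain ⟨l, rfl⟩ := exists_fF β hx
    change (gl Fr β z * D) _ ∈ _
    rw [t_fF hD]
    exact fF_mem _
  · intro U hU hU0 hUt
    set U' : Submodule F L := U.comap (eE Fr β) with hU'
    have hz : ∀ x ∈ U', (z : L) * x ∈ U' := fun x hx => by
      change eE Fr β (z * x) ∈ U
      rw [← t_eE hD]
      exact hUt _ hx
    let A : Subalgebra F L :=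
      { carrier := {a | ∀ x ∈ U', a * x ∈ U'}
        mul_mem' := fun ha hb x hx => by rw [mul_assoc]; exact ha _ (hb _ hx)
        add_mem' := fun ha hb x hx => by rw [add_mul]; exact Submodule.add_mem _ (ha _ hx) (hb _ hx)
        algebraMap_mem' := fun c x hx => by rw [← Algebra.smul_def]; exact Submodule.smul_mem _ _ hx }
    have hA : A = ⊤ := by
      rw [eq_top_iff, ← hadj]
      exact Algebra.adjoin_le (by rintro _ rfl; exact hz)
    obtain ⟨v, hv, hv0⟩ := Submodule.exists_mem_ne_zero_of_ne_bot hU0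
    obtain ⟨x, rfl⟩ := exists_eE β (hU hv)
    have hx0 : x ≠ 0 := by rintro rfl; exact hv0 (map_zero _)
    apply le_antisymm hU
    intro w hw
    obtain ⟨y, rfl⟩ := exists_eE β hw
    have h1 : y * x⁻¹ ∈ A := by rw [hA]; trivial
    have h2 := h1 x hv
    rw [inv_mul_cancel_right₀ hx0] at h2
    exact h2
  · intro f hf hft v hv
    obtain ⟨x, hx⟩ := exists_eE β (hf v hv)
    have h1 := aeval_comm f ((gl Fr β z * D : V ≃ₗ[F] V) : V →ₗ[F] V) ((gl Fr β z * D : V ≃ₗ[F] V) : V →ₗ[F] V)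
      (Mid Fr i) (fun v hv => by change (gl Fr β z * D) v ∈ _; rw [t_mid hD hv]; exact hD.mid hv) hft
      (X ^ s - 1) v hv
    rw [← hx, t_aeval_eE hD] at h1
    have h2 : aeval ((gl Fr β z * D : V ≃ₗ[F] V) : V →ₗ[F] V) (X ^ s - 1 : F[X]) v = 0 := by
      rw [map_sub, map_pow, aeval_X, map_one, LinearMap.sub_apply, coe_pow, (pow_mid hD s v hv).1, hD.pow v hv]
      exact sub_self _
    rw [h2, map_zero] at h1
    have h3 : aeval (z : L) (X ^ s - 1 : F[X]) * x = 0 := eE_injective (by rw [← h1, map_zero])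
    rw [map_sub, map_pow, aeval_X, map_one] at h3
    rw [← hx, (mul_eq_zero.1 h3).resolve_left (sub_ne_zero.2 hzs), map_zero]
  · intro f hf hft v hv
    obtain ⟨l, rfl⟩ := exists_fF β hv
    obtain ⟨x, hx⟩ := exists_eE β (hf _ hv)
    have h1 := aeval_comm f ((gl Fr β z * D : V ≃ₗ[F] V) : V →ₗ[F] V) ((gl Fr β z * D : V ≃ₗ[F] V) : V →ₗ[F] V)
      (RS Fr (Ni i)) (fun v hv => by
        obtain ⟨l, rfl⟩ := exists_fF β hv
        change (gl Fr β z * D) _ ∈ _
        rw [t_fF hD]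
        exact fF_mem _) hft (minpoly F ((z⁻¹ : Lˣ) : L)) _ hv
    rw [← hx, t_aeval_eE hD, t_aeval_fF hD, minpoly.aeval] at h1
    have h2 : dl (0 : L) l = 0 := by
      ext y
      simp [dl]
    rw [h2, map_zero, map_zero] at h1
    have h3 : aeval (z : L) (minpoly F ((z⁻¹ : Lˣ) : L)) * x = 0 := eE_injective (by rw [← h1, map_zero])
    rw [← hx, (mul_eq_zero.1 h3).resolve_left hzz, map_zero]
  · intro U hU hUi hUt
    refine hiso U hU hUi fun x hx => ?_
    rw [← t_mid (β := β) (z := z) hD (hU hx)]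
    exact hUt x hx

omit hA hp0 hn [Finite V] [Fact p.Prime] [CharP F p] in
theorem phi_surjective (M : Model Fr K) (hn : 0 < n) : Function.Surjective M.φ := by
  rw [← MonoidHom.range_eq_top]
  refine M.gen ⟨0, hn⟩ _ (fun i j _ t => ⟨⟨_, rfl⟩, ⟨_, rfl⟩⟩) fun p => ⟨⟨_, rfl⟩, ⟨_, rfl⟩⟩

omit hp0 in
/-- **non-conjugate elements** -/
theorem not_isConj_gl (hσ : ∀ a, H.σ a = a) {D' : V ≃ₗ[F] V} {z' : Lˣ} {s' : ℕ} (hD : Comp Fr i s D)
    (hD' : Comp Fr i s' D') (ht : gl Fr β z * D ∈ M.I) (ht' : gl Fr β z' * D' ∈ M.I)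
    (h1 : ∀ c : F, c * c = 1 → aeval (algebraMap F L c * z') (minpoly F (z : L)) ≠ 0)
    (h2 : ∀ c : F, c * c = 1 → aeval (algebraMap F L c * z') (minpoly F ((z⁻¹ : Lˣ) : L)) ≠ 0)
    (h3 : ∀ c : F, c * c = 1 → (algebraMap F L c * z') ^ s ≠ 1) :
    ¬ IsConj (M.φ ⟨gl Fr β z * D, ht⟩) (M.φ ⟨gl Fr β z' * D', ht'⟩) := by
  intro hc
  obtain ⟨κ, hκ⟩ := isConj_iff.1 hc
  obtain ⟨k, rfl⟩ := phi_surjective M hn κ
  set g : M.I := ⟨gl Fr β z * D, ht⟩ with hg
  set g' : M.I := ⟨gl Fr β z' * D', ht'⟩ with hg'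
  have hz : M.φ ((k * g * k⁻¹)⁻¹ * g') = 1 := by
    rw [map_mul, map_inv, map_mul, map_mul, map_inv, hκ, inv_mul_cancel]
  obtain ⟨c, hc⟩ := exists_scalar (g := ((((k * g * k⁻¹)⁻¹ * g' : M.I).1 : V ≃ₗ[F] V) : V →ₗ[F] V))
    fun v => M.ker v _ hz
  have hc' : ∀ v, ((k * g * k⁻¹)⁻¹ * g' : M.I).1 v = c • v := hc
  have hcc : c * c = 1 := by
    have h4 := hA.iso _ ((k * g * k⁻¹)⁻¹ * g' : M.I).2 (Fr.b (i, true)) (Fr.b (i, false))
    rw [hc', hc', H.smul_left, H.smul_right, hσ, Fr.hb] at h4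
    simpa only [_root_.ne_eq, _root_.Bool.true_eq_false, _root_.not_false_eq_true, _root_.and_self, ↓ _root_.reduceIte, _root_.mul_one] using h4
  -- `g' k = c k g`
  have h5 : ∀ v, g'.1 (k.1 v) = c • k.1 (g.1 v) := fun v => by
    have h6 : g'.1 (k.1 v) = (k * g * k⁻¹ : M.I).1 (((k * g * k⁻¹)⁻¹ * g' : M.I).1 (k.1 v)) := by
      change _ = (k * g * k⁻¹ : M.I).1 ((k * g * k⁻¹ : M.I).1⁻¹ (g'.1 (k.1 v)))
      exact ((k * g * k⁻¹ : M.I).1.apply_symm_apply _).symm
    rw [h6, hc', map_smul]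
    congr 1
    change k.1 (g.1 (k.1⁻¹ (k.1 v))) = _
    rw [show k.1⁻¹ (k.1 v) = v from k.1.symm_apply_apply v]
  set P : F[X] := minpoly F (z : L) * minpoly F ((z⁻¹ : Lˣ) : L) * (X ^ s - 1) with hP
  have ez : aeval (z : L) P = 0 := by rw [hP, map_mul, map_mul, minpoly.aeval, zero_mul, zero_mul]
  have ez' : aeval ((z⁻¹ : Lˣ) : L) P = 0 := by
    rw [hP, map_mul, map_mul, minpoly.aeval F ((z⁻¹ : Lˣ) : L), mul_zero, zero_mul]
  -- `P` kills `g`
  have hPg : ∀ v, aeval ((g.1 : V ≃ₗ[F] V) : V →ₗ[F] V) P v = 0 := by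
    intro v
    obtain ⟨x, hx, y, hy, w, hw, rfl⟩ := exists_decomp (Fr := Fr) i v
    obtain ⟨x, rfl⟩ := exists_eE β hx
    obtain ⟨l, rfl⟩ := exists_fF β hy
    rw [map_add, map_add]
    have e1 : aeval ((g.1 : V ≃ₗ[F] V) : V →ₗ[F] V) P (eE Fr β x) = 0 := by
      change aeval ((gl Fr β z * D : V ≃ₗ[F] V) : V →ₗ[F] V) P (eE Fr β x) = 0
      rw [t_aeval_eE hD, ez, zero_mul, map_zero]
    have e2 : aeval ((g.1 : V ≃ₗ[F] V) : V →ₗ[F] V) P (fF Fr β l) = 0 := by
      change aeval ((gl Fr β z * D : V ≃ₗ[F] V) : V →ₗ[F] V) P (fF Fr β l) = 0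
      rw [t_aeval_fF hD, ez']
      have h2 : dl (0 : L) l = 0 := by
        ext y
        simp [dl]
      rw [h2, map_zero]
    have e3 : aeval ((g.1 : V ≃ₗ[F] V) : V →ₗ[F] V) P w = 0 := by
      rw [hP, map_mul, Module.End.mul_apply]
      have h4 : aeval ((g.1 : V ≃ₗ[F] V) : V →ₗ[F] V) (X ^ s - 1 : F[X]) w = 0 := by
        rw [map_sub, map_pow, aeval_X, map_one, LinearMap.sub_apply, coe_pow]
        change ((gl Fr β z * D) ^ s) w - w = 0
        rw [(pow_mid hD s w hw).1, hD.pow w hw]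
        exact sub_self _
      rw [h4, map_zero]
    rw [e1, e2, e3, add_zero, add_zero]
  -- `P` kills `c g'`
  have h7 := aeval_comm (k.1 : V →ₗ[F] V) ((g.1 : V ≃ₗ[F] V) : V →ₗ[F] V) (c • ((g'.1 : V ≃ₗ[F] V) : V →ₗ[F] V)) ⊤
    (fun _ _ => trivial) (fun v _ => by
      change k.1 (g.1 v) = c • g'.1 (k.1 v)
      rw [h5, smul_smul, hcc, one_smul]) P (k.1⁻¹ (eE Fr β 1)) trivial
  rw [hPg, map_zero] at h7
  have h8 : (k.1 : V →ₗ[F] V) (k.1⁻¹ (eE Fr β 1)) = eE Fr β 1 := k.1.apply_symm_apply _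
  rw [h8] at h7
  have h9 := aeval_comm (eE Fr β) (LinearMap.mulLeft F (algebraMap F L c * z')) (c • ((g'.1 : V ≃ₗ[F] V) : V →ₗ[F] V)) ⊤
    (fun _ _ => trivial) (fun v _ => by
      change eE Fr β (algebraMap F L c * z' * v) = c • (gl Fr β z' * D') (eE Fr β v)
      rw [t_eE hD', mul_assoc, ← Algebra.smul_def, map_smul]) P 1 trivial
  rw [← h7, aeval_mulLeft, mul_one] at h9
  have h10 : aeval (algebraMap F L c * z') P = 0 := eE_injective (by rw [h9, map_zero])
  rw [hP, map_mul, map_mul, map_sub, map_pow, aeval_X, map_one] at h10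
  rcases mul_eq_zero.1 h10 with h10 | h10
  · rcases mul_eq_zero.1 h10 with h10 | h10
    · exact h1 c hcc h10
    · exact h2 c hcc h10
  · exact h3 c hcc (sub_eq_zero.1 h10)

end Model

end Cfsg.Agent.H410.OZ
end

-- part: H410/OZ/Fin
section
/-!
# S4842: elliptic elements, arithmetic of the torus of `GL(E)` (helper410)

`γ` a generator of the multiplicative group of the extension of degree `m = i + 1` of `F`, `N = q ^ m - 1`.
* `Good N q m s a` : the conditions on `a` for `γ ^ a`;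
* `Pair N q m s a b` : the conditions for the non-conjugacy of the elements for `γ ^ a` and `γ ^ b`;
* `exists_two` : two non-conjugate elliptic elements.
-/

set_option autoImplicit false
set_option linter.unusedSectionVars false

namespace Cfsg.Agent.H410.OZ

open CoxeterSystem Cfsg.Agent.ChevalleyStructure.CoxeterGeom Cfsg.Agent.Tits.Roots Cfsg.Agent.Nodes.TypeC
open Cfsg.Agent.Nodes Cfsg.Agent.Nodes.Comb Cfsg.Agent.Nodes.Reps Cfsg.Agent.Nodes.WittRoot Cfsg.Agent.Nodes.BNOf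
open Cfsg.Agent.Nodes.WittRGD Cfsg.Agent.Nodes.RGDLib Cfsg.Agent.Nodes.WittAll
open Cfsg.Agent.TitsThree Cfsg.Agent.TitsThree.Siegel Cfsg.Agent.TitsThree.WittFrame
  Cfsg.Agent.TitsThree.WittWeyl Cfsg.Agent.TitsThree.FrameCN
open Cfsg.Agent.Nodes.StabComb Cfsg.Agent.Nodes.Bruhat Cfsg.Agent.Nodes.LeviDec
open Cfsg.Agent.H62.PCFrame Cfsg.Agent.H62.PCWitt Cfsg.Agent.H985.VZ Module

section Field

open Polynomial

variable {F : Type*} [Field F] [Finite F] {L : Type*} [Field L] [Finite L] [Algebra F L]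

theorem exists_pow_of_root {z w : L} (h : aeval w (minpoly F z) = 0) :
    ∃ j < finrank F L, w = z ^ Nat.card F ^ j := by
  have := Fintype.ofFinite F
  have : FiniteDimensional F L := Module.Finite.of_finite
  have hz : IsIntegral F z := Algebra.IsIntegral.isIntegral z
  have h1 : minpoly F z = minpoly F w :=
    minpoly.eq_of_irreducible_of_monic (minpoly.irreducible hz) h (minpoly.monic hz)
  obtain ⟨σ, hσ⟩ := (Normal.minpoly_eq_iff_mem_orbit (F := F) L).1 h1.symm
  obtain ⟨⟨j, hj⟩, rfl⟩ := (FiniteField.bijective_frobeniusAlgEquivOfAlgebraic_pow F L).2 σ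
  refine ⟨j, hj, ?_⟩
  rw [← hσ]
  change ((FiniteField.frobeniusAlgEquivOfAlgebraic F L) ^ j) z = _
  rw [AlgEquiv.coe_pow, FiniteField.coe_frobeniusAlgEquivOfAlgebraic_iterate, Nat.card_eq_fintype_card]

theorem adjoin_eq_top {z : L} (hz0 : z ≠ 0)
    (hz : ∀ d, d ∣ finrank F L → d < finrank F L → z ^ (Nat.card F ^ d - 1) ≠ 1) : Algebra.adjoin F {z} = ⊤ := by
  have : FiniteDimensional F L := Module.Finite.of_finite
  have hzi : IsIntegral F z := Algebra.IsIntegral.isIntegral z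
  have h1 : (IntermediateField.adjoin F {z}).toSubalgebra = Algebra.adjoin F {z} :=
    IntermediateField.adjoin_simple_toSubalgebra_of_isAlgebraic hzi.isAlgebraic
  rw [← h1]
  set A := IntermediateField.adjoin F {z} with hA
  have h2 : finrank F A ∣ finrank F L := Dvd.intro _ (finrank_mul_finrank F A L)
  have h3 : z ^ (Nat.card F ^ finrank F A - 1) = 1 := by
    have : Fintype A := Fintype.ofFinite A
    have h4 : Nat.card A = Nat.card F ^ finrank F A := Module.natCard_eq_pow_finrank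
    have h5 := FiniteField.pow_card_sub_one_eq_one (⟨z, IntermediateField.mem_adjoin_simple_self F z⟩ : A)
      (fun h => hz0 (congrArg Subtype.val h))
    rw [← Nat.card_eq_fintype_card, h4] at h5
    exact congrArg Subtype.val h5
  have h4 : finrank F A = finrank F L := by
    rcases lt_or_eq_of_le (Nat.le_of_dvd finrank_pos h2) with h5 | h5
    · exact absurd h3 (hz _ h2 h5)
    · exact h5
  have h5 : A = ⊤ := IntermediateField.eq_of_le_of_finrank_eq le_top (by rw [h4, IntermediateField.finrank_top'])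
  rw [h5]
  rfl

/-- the conditions on the exponent -/
structure Good (N q m s a : ℕ) : Prop where
  adj : ∀ d, d ∣ m → d < m → ¬ N ∣ a * (q ^ d - 1)
  inv : ∀ j < m, ¬ N ∣ a * (q ^ j + 1)
  pow : ¬ N ∣ a * s

/-- the conditions on two exponents -/
structure Pair (N q m s a b : ℕ) : Prop where
  pos : ∀ j < m, ¬ (N : ℤ) ∣ 2 * b - 2 * (a * (q : ℤ) ^ j)
  neg : ∀ j < m, ¬ N ∣ 2 * b + 2 * (a * q ^ j)
  pow : s = q + 1 ∧ ¬ N ∣ b * s ∨ ¬ N ∣ 2 * (b * s)

variable {γ : Lˣ} {N q m : ℕ} (hN : orderOf γ = N) (hq : Nat.card F = q) (hm : finrank F L = m)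

include hN

theorem pow_eq_one_iff' {a : ℕ} : ((γ : L)) ^ a = 1 ↔ N ∣ a := by
  rw [← hN, orderOf_dvd_iff_pow_eq_one, ← Units.val_pow_eq_pow_val, Units.val_eq_one]

include hq hm

theorem Good.adjoin {s a : ℕ} (h : Good N q m s a) : Algebra.adjoin F {((γ ^ a : Lˣ) : L)} = ⊤ := by
  refine adjoin_eq_top (Units.ne_zero _) fun d hd hlt h1 => ?_
  rw [Units.val_pow_eq_pow_val, ← pow_mul, pow_eq_one_iff' hN, hq] at h1
  exact h.adj d (hm ▸ hd) (hm ▸ hlt) h1

theorem Good.root {s a : ℕ} (h : Good N q m s a) :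
    aeval ((γ ^ a : Lˣ) : L) (minpoly F (((γ ^ a)⁻¹ : Lˣ) : L)) ≠ 0 := by
  intro h0
  obtain ⟨j, hj, e⟩ := exists_pow_of_root h0
  have e2 : (γ ^ a : Lˣ) = ((γ ^ a)⁻¹) ^ Nat.card F ^ j := Units.ext (by rw [Units.val_pow_eq_pow_val]; exact e)
  rw [inv_pow, eq_inv_iff_mul_eq_one, ← pow_succ', ← pow_mul, ← orderOf_dvd_iff_pow_eq_one, hN, hq] at e2
  exact h.inv j (hm ▸ hj) e2

omit hq hm in
theorem Good.ne {s a : ℕ} (h : Good N q m s a) : ((γ ^ a : Lˣ) : L) ^ s ≠ 1 := by
  rw [Units.val_pow_eq_pow_val, ← pow_mul]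
  exact fun h1 => h.pow ((pow_eq_one_iff' hN).1 h1)

theorem Pair.root {s a b : ℕ} (h : Pair N q m s a b) {c : F} (hc : c * c = 1) :
    aeval (algebraMap F L c * ((γ ^ b : Lˣ) : L)) (minpoly F ((γ ^ a : Lˣ) : L)) ≠ 0 := by
  intro h0
  obtain ⟨j, hj, e⟩ := exists_pow_of_root h0
  have hcc : algebraMap F L c * algebraMap F L c = 1 := by rw [← map_mul, hc, map_one]
  have e2 : ((γ ^ b : Lˣ) : L) * ((γ ^ b : Lˣ) : L) = (((γ ^ a : Lˣ) : L) ^ Nat.card F ^ j) ^ 2 := by
    rw [← e, mul_pow, pow_two, hcc, one_mul, pow_two]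
  have e3 : (γ ^ b * γ ^ b : Lˣ) = ((γ ^ a) ^ Nat.card F ^ j) ^ 2 := Units.ext (by
    simp only [Units.val_mul, Units.val_pow_eq_pow_val] at e2 ⊢
    exact e2)
  rw [← pow_add, ← pow_mul, ← pow_mul, hq] at e3
  have e4 : γ ^ (2 * (b : ℤ) - 2 * (a * (q : ℤ) ^ j)) = 1 := by
    rw [zpow_sub, mul_inv_eq_one]
    have h1 : (2 * (b : ℤ)) = ((b + b : ℕ) : ℤ) := by push_cast; ring
    have h2 : (2 * (a * (q : ℤ) ^ j)) = ((a * q ^ j * 2 : ℕ) : ℤ) := by push_cast; ring
    rw [h1, h2, zpow_natCast, zpow_natCast, e3, mul_assoc]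
  rw [← orderOf_dvd_iff_zpow_eq_one, hN] at e4
  exact h.pos j (hm ▸ hj) e4

theorem Pair.root_inv {s a b : ℕ} (h : Pair N q m s a b) {c : F} (hc : c * c = 1) :
    aeval (algebraMap F L c * ((γ ^ b : Lˣ) : L)) (minpoly F (((γ ^ a)⁻¹ : Lˣ) : L)) ≠ 0 := by
  intro h0
  obtain ⟨j, hj, e⟩ := exists_pow_of_root h0
  have hcc : algebraMap F L c * algebraMap F L c = 1 := by rw [← map_mul, hc, map_one]
  have e2 : ((γ ^ b : Lˣ) : L) * ((γ ^ b : Lˣ) : L) = ((((γ ^ a)⁻¹ : Lˣ) : L) ^ Nat.card F ^ j) ^ 2 := by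
    rw [← e, mul_pow, pow_two, hcc, one_mul, pow_two]
  have e3 : (γ ^ b * γ ^ b : Lˣ) = (((γ ^ a)⁻¹) ^ Nat.card F ^ j) ^ 2 := Units.ext (by
    simp only [Units.val_mul, Units.val_pow_eq_pow_val] at e2 ⊢
    exact e2)
  rw [inv_pow, inv_pow, eq_inv_iff_mul_eq_one, ← pow_add, ← pow_mul, ← pow_mul, ← pow_add,
    ← orderOf_dvd_iff_pow_eq_one, hN, hq] at e3
  refine h.neg j (hm ▸ hj) ?_
  have e4 : 2 * b + 2 * (a * q ^ j) = b + b + a * (q ^ j * 2) := by ring
  rwa [e4]

omit hm in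
theorem Pair.ne {s a b : ℕ} (h : Pair N q m s a b) {c : F} (hc : c * c = 1) :
    (algebraMap F L c * ((γ ^ b : Lˣ) : L)) ^ s ≠ 1 := by
  intro h0
  have hcc : algebraMap F L c * algebraMap F L c = 1 := by rw [← map_mul, hc, map_one]
  rcases h.pow with ⟨hs, h1⟩ | h1
  · have : Fintype F := Fintype.ofFinite F
    have h2 : c ^ s = 1 := by
      rw [hs, pow_succ, ← hq, Nat.card_eq_fintype_card, FiniteField.pow_card, hc]
    rw [mul_pow, ← map_pow, h2, map_one, one_mul, Units.val_pow_eq_pow_val, ← pow_mul, pow_eq_one_iff' hN] at h0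
    exact h1 h0
  · have h2 : ((algebraMap F L c * ((γ ^ b : Lˣ) : L)) ^ s) ^ 2 = 1 := by rw [h0, one_pow]
    rw [← pow_mul, mul_comm s 2, pow_mul, mul_pow, pow_two (algebraMap F L c), hcc, one_mul,
      Units.val_pow_eq_pow_val, ← pow_mul, ← pow_mul, pow_eq_one_iff' hN] at h2
    exact h1 (by rw [show 2 * (b * s) = b * (2 * s) by ring]; exact h2)

end Field

section Model

variable {F : Type*} [Field F] [Finite F] {V : Type*} [AddCommGroup V] [Module F V] [Finite V] {H : HForm F V} {n : ℕ}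
  {Fr : Frame H (Fin n)} {K : Type*} [Group K] {M : Model Fr K}
  {W : Type*} [Group W] {cs : CoxeterSystem (CoxeterMatrix.B n) W} {p : ℕ} [Fact p.Prime]
  [CharP F p] (hA : AmbT Fr p M.I) {p0 : Fr.Adm} (hp0 : p0.c ≠ 0) (hn : 0 < n)

include hA hp0 hn

end Model

end Cfsg.Agent.H410.OZ
end

-- part: H410/OZ/Ar
section
/-!
# S4842: elliptic elements, the numerical conditions (helper410)
-/

set_option autoImplicit false

namespace Cfsg.Agent.H410.OZ

/-- not divisible by size -/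
theorem ndvd {N x : ℕ} (h0 : 0 < x) (h : x < N) : ¬ N ∣ x := Nat.not_dvd_of_pos_of_lt h0 h

theorem ndvdZ {N : ℕ} {x : ℤ} (h0 : x ≠ 0) (h1 : x < N) (h2 : -x < N) : ¬ (N : ℤ) ∣ x := by
  intro h
  have h3 := Int.eq_zero_of_abs_lt_dvd h (abs_lt.2 ⟨by omega, h1⟩)
  exact h0 h3

theorem pow_bd3 {q : ℕ} (hq : 5 ≤ q) : 4 * q ^ 2 + 8 < q ^ 3 - 1 ∧ 4 * q + 8 < q ^ 3 - 1 ∧ 13 < q ^ 3 - 1 := by
  obtain ⟨k, rfl⟩ : ∃ k, q = k + 5 := ⟨q - 5, by omega⟩
  have e : (k + 5) ^ 3 = (k ^ 3 + 15 * k ^ 2 + 75 * k + 124) + 1 := by ring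
  rw [e, Nat.add_sub_cancel]
  refine ⟨?_, ?_, ?_⟩ <;> linarith only [pow_nonneg (Nat.zero_le k) 3, _root_.sq_nonneg (↑k : ℤ), _root_.Nat.cast_nonneg (α := ℤ) (k)]

theorem pow_bd4 {q : ℕ} (hq : 5 ≤ q) : 4 * q ^ 3 + 8 < q ^ 4 - 1 ∧ 4 * q ^ 2 + 8 < q ^ 4 - 1 ∧ 4 * q + 8 < q ^ 4 - 1 ∧
    13 < q ^ 4 - 1 := by
  obtain ⟨k, rfl⟩ : ∃ k, q = k + 5 := ⟨q - 5, by omega⟩
  have e : (k + 5) ^ 4 = (k ^ 4 + 20 * k ^ 3 + 150 * k ^ 2 + 500 * k + 624) + 1 := by ring
  rw [e, Nat.add_sub_cancel]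
  refine ⟨?_, ?_, ?_, ?_⟩ <;> linarith only [pow_nonneg (Nat.zero_le k) 3, pow_nonneg (Nat.zero_le k) 4, _root_.sq_nonneg (↑k : ℤ), _root_.Nat.cast_nonneg (α := ℤ) (k)]

theorem pow_bd2 {q : ℕ} (hq : 7 ≤ q) : 4 * q + 8 < q ^ 2 - 1 ∧ 13 < q ^ 2 - 1 := by
  obtain ⟨k, rfl⟩ : ∃ k, q = k + 7 := ⟨q - 7, by omega⟩
  have e : (k + 7) ^ 2 = (k ^ 2 + 14 * k + 48) + 1 := by ring
  rw [e, Nat.add_sub_cancel]
  refine ⟨?_, ?_⟩ <;> linarith only [_root_.sq_nonneg (↑k : ℤ), _root_.Nat.cast_nonneg (α := ℤ) (k)]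

theorem good3 {q : ℕ} (hq : 3 ≤ q) {s : ℕ} (hs : s = 1 ∨ s = q + 1) {a : ℕ} (ha : a = 2 ∨ a = 4) :
    Good (q ^ 3 - 1) q 3 s a := by
  rcases Nat.lt_or_ge q 5 with h5 | h5
  · refine ⟨fun d hd hlt => ?_, fun j hj => ?_, ?_⟩
    · interval_cases d
      · exact absurd hd (by decide)
      · interval_cases q <;> rcases ha with rfl | rfl <;> norm_num
      · exact absurd hd (by decide)
    · interval_cases q <;> rcases ha with rfl | rfl <;> interval_cases j <;> norm_num
    · rcases hs with rfl | rfl <;> interval_cases q <;> rcases ha with rfl | rfl <;> norm_num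
  · obtain ⟨h1, h2, h3⟩ := pow_bd3 h5
    refine ⟨fun d hd hlt => ?_, fun j hj => ?_, ?_⟩
    · interval_cases d
      · exact absurd hd (by decide)
      · rw [pow_one]
        rcases ha with rfl | rfl <;> apply ndvd <;> (clear * - h5 h2; omega)
      · exact absurd hd (by decide)
    · interval_cases j
      · rw [pow_zero]
        rcases ha with rfl | rfl <;> apply ndvd <;> omega
      · rw [pow_one]
        rcases ha with rfl | rfl <;> apply ndvd <;> (clear * - h5 h2 h3; omega)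
      · rcases ha with rfl | rfl <;> apply ndvd <;> (clear * - h5 h1 h2; omega)
    · rcases hs with rfl | rfl <;> rcases ha with rfl | rfl <;> apply ndvd <;> omega

theorem pair3 {q : ℕ} (hq : 3 ≤ q) {s : ℕ} (hs : s = 1 ∨ s = q + 1) : Pair (q ^ 3 - 1) q 3 s 2 4 := by
  rcases Nat.lt_or_ge q 5 with h5 | h5
  · refine ⟨fun j hj => ?_, fun j hj => ?_, ?_⟩
    · interval_cases q <;> interval_cases j <;> norm_num
    · interval_cases q <;> interval_cases j <;> norm_num
    · rcases hs with rfl | rfl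
      · right
        interval_cases q <;> norm_num
      · left
        refine ⟨rfl, ?_⟩
        interval_cases q <;> norm_num
  · obtain ⟨h1, h2, h3⟩ := pow_bd3 h5
    refine ⟨fun j hj => ?_, fun j hj => ?_, ?_⟩
    · interval_cases j
      · rw [pow_zero]
        apply ndvdZ <;> push_cast <;> omega
      · rw [pow_one]
        apply ndvdZ <;> push_cast <;> (clear * - h5 h2; omega)
      · have e : ((q : ℤ) ^ 2) = ((q ^ 2 : ℕ) : ℤ) := by push_cast; ring
        have h4 : 5 * 5 ≤ q * q := Nat.mul_le_mul h5 h5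
        have h5' : q ^ 2 = q * q := by ring
        rw [e]
        apply ndvdZ <;> push_cast <;> rw [← Nat.cast_pow] <;> omega
    · interval_cases j
      · rw [pow_zero]
        apply ndvd <;> omega
      · rw [pow_one]
        apply ndvd <;> omega
      · apply ndvd <;> (clear * - h1; omega)
    · rcases hs with rfl | rfl
      · right
        apply ndvd <;> omega
      · left
        refine ⟨rfl, ?_⟩
        apply ndvd <;> omega

theorem good4 {q : ℕ} (hq : 3 ≤ q) {a : ℕ} (ha : a = 2 ∨ a = 4) : Good (q ^ 4 - 1) q 4 1 a := by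
  rcases Nat.lt_or_ge q 5 with h5 | h5
  · refine ⟨fun d hd hlt => ?_, fun j hj => ?_, ?_⟩
    · interval_cases d
      · exact absurd hd (by decide)
      · interval_cases q <;> rcases ha with rfl | rfl <;> norm_num
      · interval_cases q <;> rcases ha with rfl | rfl <;> norm_num
      · exact absurd hd (by decide)
    · interval_cases q <;> rcases ha with rfl | rfl <;> interval_cases j <;> norm_num
    · interval_cases q <;> rcases ha with rfl | rfl <;> norm_num
  · obtain ⟨h0, h1, h2, h3⟩ := pow_bd4 h5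
    have h4 : 5 * 5 ≤ q * q := Nat.mul_le_mul h5 h5
    have h5' : q ^ 2 = q * q := by ring
    refine ⟨fun d hd hlt => ?_, fun j hj => ?_, ?_⟩
    · interval_cases d
      · exact absurd hd (by decide)
      · rw [pow_one]
        rcases ha with rfl | rfl <;> apply ndvd <;> (clear * - h5 h2; omega)
      · rcases ha with rfl | rfl <;> apply ndvd <;> (clear * - h4 h5' h1; omega)
      · exact absurd hd (by decide)
    · interval_cases j
      · rw [pow_zero]
        rcases ha with rfl | rfl <;> apply ndvd <;> omega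
      · rw [pow_one]
        rcases ha with rfl | rfl <;> apply ndvd <;> (clear * - h5 h2 h3; omega)
      · rcases ha with rfl | rfl <;> apply ndvd <;> (clear * - h4 h5' h1; omega)
      · rcases ha with rfl | rfl <;> apply ndvd <;> (clear * - h5 h0 h2; omega)
    · rcases ha with rfl | rfl <;> apply ndvd <;> omega

theorem pair4 {q : ℕ} (hq : 3 ≤ q) : Pair (q ^ 4 - 1) q 4 1 2 4 := by
  rcases Nat.lt_or_ge q 5 with h5 | h5
  · refine ⟨fun j hj => ?_, fun j hj => ?_, ?_⟩
    · interval_cases q <;> interval_cases j <;> norm_num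
    · interval_cases q <;> interval_cases j <;> norm_num
    · right
      interval_cases q <;> norm_num
  · obtain ⟨h0, h1, h2, h3⟩ := pow_bd4 h5
    have h4 : 5 * 5 ≤ q * q := Nat.mul_le_mul h5 h5
    have h5' : q ^ 2 = q * q := by ring
    have h6 : 5 * (q * q) ≤ q * (q * q) := Nat.mul_le_mul_right _ h5
    have h7 : q ^ 3 = q * (q * q) := by ring
    refine ⟨fun j hj => ?_, fun j hj => ?_, ?_⟩
    · interval_cases j
      · rw [pow_zero]
        apply ndvdZ <;> push_cast <;> omega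
      · rw [pow_one]
        apply ndvdZ <;> push_cast <;> (clear * - h5 h2; omega)
      · have e : ((q : ℤ) ^ 2) = ((q ^ 2 : ℕ) : ℤ) := by push_cast; ring
        rw [e]
        apply ndvdZ <;> push_cast <;> rw [← Nat.cast_pow] <;> (clear * - h4 h5' e h0 h6 h7 h1; omega)
      · have e : ((q : ℤ) ^ 3) = ((q ^ 3 : ℕ) : ℤ) := by push_cast; ring
        rw [e]
        apply ndvdZ <;> push_cast <;> rw [← Nat.cast_pow] <;> omega
    · interval_cases j
      · rw [pow_zero]
        apply ndvd <;> omega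
      · rw [pow_one]
        apply ndvd <;> (clear * - h5 h2; omega)
      · apply ndvd <;> omega
      · apply ndvd <;> omega
    · right
      apply ndvd <;> omega

theorem good2 {q : ℕ} (hq : 4 ≤ q) {a : ℕ} (ha : a = 1 ∨ a = 2) : Good (q ^ 2 - 1) q 2 (q + 1) a := by
  rcases Nat.lt_or_ge q 7 with h5 | h5
  · refine ⟨fun d hd hlt => ?_, fun j hj => ?_, ?_⟩
    · interval_cases d
      · exact absurd hd (by decide)
      · interval_cases q <;> rcases ha with rfl | rfl <;> norm_num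
    · interval_cases q <;> rcases ha with rfl | rfl <;> interval_cases j <;> norm_num
    · interval_cases q <;> rcases ha with rfl | rfl <;> norm_num
  · obtain ⟨h1, h2⟩ := pow_bd2 h5
    refine ⟨fun d hd hlt => ?_, fun j hj => ?_, ?_⟩
    · interval_cases d
      · exact absurd hd (by decide)
      · rw [pow_one]
        rcases ha with rfl | rfl <;> apply ndvd <;> (clear * - h5 h1 h2; omega)
    · interval_cases j
      · rw [pow_zero]
        rcases ha with rfl | rfl <;> apply ndvd <;> omega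
      · rw [pow_one]
        rcases ha with rfl | rfl <;> apply ndvd <;> (clear * - h5 h1 h2; omega)
    · rcases ha with rfl | rfl <;> apply ndvd <;> omega

theorem pair2 {q : ℕ} (hq : 4 ≤ q) : Pair (q ^ 2 - 1) q 2 (q + 1) 1 2 := by
  rcases Nat.lt_or_ge q 7 with h5 | h5
  · refine ⟨fun j hj => ?_, fun j hj => ?_, ?_⟩
    · interval_cases q <;> interval_cases j <;> norm_num
    · interval_cases q <;> interval_cases j <;> norm_num
    · left
      refine ⟨rfl, ?_⟩
      interval_cases q <;> norm_num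
  · obtain ⟨h1, h2⟩ := pow_bd2 h5
    refine ⟨fun j hj => ?_, fun j hj => ?_, ?_⟩
    · interval_cases j
      · rw [pow_zero]
        apply ndvdZ <;> push_cast <;> omega
      · rw [pow_one]
        apply ndvdZ <;> push_cast <;> omega
    · interval_cases j
      · rw [pow_zero]
        apply ndvd <;> omega
      · rw [pow_one]
        apply ndvd <;> omega
    · left
      refine ⟨rfl, ?_⟩
      apply ndvd <;> omega

end Cfsg.Agent.H410.OZ
end

-- part: H410/OZ/Mat
section
/-!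
# S4842: a matrix of order `q + 1` of `SL₂(q)` without eigenvectors (helper410)
-/

set_option autoImplicit false
set_option linter.unusedSectionVars false

namespace Cfsg.Agent.H410.OZ

open Matrix Module
open scoped MatrixGroups

variable {F : Type*} [Field F]

/-- no eigenvectors -/
def Anis (C : Matrix (Fin 2) (Fin 2) F) : Prop :=
  ∀ X Z : F, C 1 0 * X ^ 2 + (C 0 0 - C 1 1) * X * Z - C 0 1 * Z ^ 2 = 0 → X = 0 ∧ Z = 0

theorem anis_of {C : Matrix (Fin 2) (Fin 2) F} (h : ∀ l : F, (C 0 0 - l) * (C 1 1 - l) - C 0 1 * C 1 0 ≠ 0) :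
    Anis C := by
  intro X Z h0
  by_cases hX : X = 0
  · refine ⟨hX, ?_⟩
    by_contra hZ
    rw [hX] at h0
    have h1 : C 0 1 = 0 := by
      have : C 0 1 * Z ^ 2 = 0 := by linear_combination -h0
      exact (mul_eq_zero.1 this).resolve_right (pow_ne_zero 2 hZ)
    exact h (C 1 1) (by rw [h1, sub_self, mul_zero, zero_mul, sub_zero])
  · exfalso
    apply h ((C 0 0 * X - C 0 1 * Z) / X)
    field_simp
    linear_combination (-C 0 1) * h0

theorem exists_C (F : Type*) [Field F] [Finite F] {p : ℕ} [Fact p.Prime] [CharP F p] :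
    ∃ C : SL(2, F), C ^ (Nat.card F + 1) = 1 ∧ Anis C.1 ∧
      (Odd (Nat.card F) → ∃ B : Matrix (Fin 2) (Fin 2) F, B.det ≠ 0 ∧ C.1 = B * B) := by
  have : Fintype F := Fintype.ofFinite F
  set q := Nat.card F with hq
  have hq2 : 1 < q := Finite.one_lt_card
  let L := FiniteField.Extension F p 2
  have hfr : finrank F L = 2 := FiniteField.finrank_extension F p 2
  have : FiniteDimensional F L := Module.Finite.of_finite
  let b : Basis (Fin 2) F L := finBasisOfFinrankEq F L hfr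
  let φ := Algebra.leftMulMatrix b
  have hcL : Nat.card Lˣ = (q - 1) * (q + 1) := by
    have h1 : Nat.card L = Nat.card F ^ 2 := FiniteField.natCard_extension F p 2
    rw [Nat.card_units, h1, ← hq]
    obtain ⟨k, hk⟩ : ∃ k, q = k + 1 := ⟨q - 1, by omega⟩
    rw [hk, Nat.add_sub_cancel]
    have : (k + 1) ^ 2 = k * (k + 1 + 1) + 1 := by ring
    rw [this, Nat.add_sub_cancel]
  obtain ⟨γ, hγ⟩ := IsCyclic.exists_generator (α := Lˣ)
  have hord : orderOf γ = (q - 1) * (q + 1) := by rw [orderOf_eq_card_of_forall_mem_zpowers hγ, hcL]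
  have hdet : ∀ x : L, x ≠ 0 → (φ x).det ≠ 0 := by
    intro x hx h0
    have h1 : φ x * φ x⁻¹ = 1 := by rw [← map_mul, mul_inv_cancel₀ hx, map_one]
    have h2 := congrArg Matrix.det h1
    rw [Matrix.det_mul, h0, zero_mul, Matrix.det_one] at h2
    exact zero_ne_one h2
  have hA : (φ (γ : L)).det ≠ 0 := hdet _ γ.ne_zero
  have hC : (φ ((γ : L) ^ (q - 1))).det = 1 := by
    rw [map_pow, Matrix.det_pow, hq, Nat.card_eq_fintype_card]
    exact FiniteField.pow_card_sub_one_eq_one _ hA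
  let C : SL(2, F) := ⟨φ ((γ : L) ^ (q - 1)), hC⟩
  refine ⟨C, ?_, ?_, ?_⟩
  · apply Subtype.ext
    rw [Matrix.SpecialLinearGroup.coe_pow C (q + 1)]
    change (φ ((γ : L) ^ (q - 1))) ^ (q + 1) = 1
    rw [← map_pow, ← pow_mul, ← hord, ← Units.val_pow_eq_pow_val, pow_orderOf_eq_one, Units.val_one, map_one]
  · apply anis_of
    intro l hl
    have h1 : (γ : L) ^ (q - 1) - algebraMap F L l ≠ 0 := by
      intro h2
      rw [sub_eq_zero] at h2
      have hl0 : l ≠ 0 := by
        rintro rfl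
        rw [map_zero] at h2
        exact pow_ne_zero _ γ.ne_zero h2
      have h3 : ((γ : L) ^ (q - 1)) ^ (q - 1) = 1 := by
        rw [h2, ← map_pow, hq, Nat.card_eq_fintype_card, FiniteField.pow_card_sub_one_eq_one _ hl0, map_one]
      rw [← pow_mul, ← Units.val_pow_eq_pow_val, Units.val_eq_one, ← orderOf_dvd_iff_pow_eq_one, hord] at h3
      have h4 := Nat.le_of_dvd (Nat.mul_pos (by omega) (by omega)) h3
      have h5 : q + 1 ≤ q - 1 := Nat.le_of_mul_le_mul_left h4 (by omega)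
      omega
    apply hdet _ h1
    rw [map_sub, AlgHom.commutes, Matrix.det_fin_two]
    simp only [Matrix.sub_apply, Matrix.algebraMap_matrix_apply]
    simp only [Algebra.algebraMap_self, RingHom.id_apply, if_true]
    have e1 : (if (0 : Fin 2) = 1 then l else 0) = 0 := if_neg (by decide)
    have e2 : (if (1 : Fin 2) = 0 then l else 0) = 0 := if_neg (by decide)
    rw [e1, e2, sub_zero, sub_zero]
    exact hl
  · intro hodd
    obtain ⟨k, hk⟩ := hodd
    refine ⟨φ ((γ : L) ^ k), hdet _ (pow_ne_zero _ γ.ne_zero), ?_⟩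
    change φ ((γ : L) ^ (q - 1)) = _
    rw [← map_mul, ← pow_add]
    congr 2
    omega

end Cfsg.Agent.H410.OZ
end

-- part: H410/OZ/SpE
section
/-!
# S4842: elliptic elements of `PSp_{2m}(q)`, `m = 3, 4` (helper410)

`J = {i}ᶜ`, `i = m - 1` (torus `q ^ m - 1` of `GL_m`), `i = m - 2` (torus `(q ^ (m - 1) - 1) (q + 1)`).
-/

set_option autoImplicit false
set_option linter.unusedSectionVars false

namespace Cfsg.Agent.H410.OZ

open CoxeterSystem Cfsg.Agent.ChevalleyStructure.CoxeterGeom Cfsg.Agent.Tits.Roots Cfsg.Agent.Nodes.TypeC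
open Cfsg.Agent.Nodes Cfsg.Agent.Nodes.Comb Cfsg.Agent.Nodes.Reps Cfsg.Agent.Nodes.WittRoot Cfsg.Agent.Nodes.BNOf
open Cfsg.Agent.Nodes.WittRGD Cfsg.Agent.Nodes.RGDLib Cfsg.Agent.Nodes.WittAll
open Cfsg.Agent.TitsThree Cfsg.Agent.TitsThree.Siegel Cfsg.Agent.TitsThree.WittFrame
  Cfsg.Agent.TitsThree.WittWeyl Cfsg.Agent.TitsThree.FrameCN
open Cfsg.Agent.Nodes.StabComb Cfsg.Agent.Nodes.Bruhat Cfsg.Agent.Nodes.LeviDec
open Cfsg.Agent.H62.PCFrame Cfsg.Agent.H62.PCWitt Cfsg.Agent.H985.VZ Module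
open scoped MatrixGroups

section Frame

variable {F : Type*} [Field F] {V : Type*} [AddCommGroup V] [Module F V] {H : HForm F V} {n : ℕ}
  {Fr : Frame H (Fin n)} {i : Fin n}

theorem nd_of (h0 : ∀ v, (∀ w, H.h v w = 0) → v = 0) :
    ∀ v ∈ Mid Fr i, (∀ w ∈ Mid Fr i, H.h v w = 0) → v = 0 := by
  intro v hv h
  refine h0 v fun u => ?_
  obtain ⟨x, hx, y, hy, w, hw, rfl⟩ := exists_decomp (Fr := Fr) i u
  rw [H.add_right, H.add_right, Mid_E hv x hx, Mid_F hv y hy, h w hw, add_zero, add_zero]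

theorem comp_one (Fr : Frame H (Fin n)) (i : Fin n) : Comp Fr i 1 (1 : V ≃ₗ[F] V) where
  iso _ _ := rfl
  fix _ _ _ := rfl
  pow _ _ := rfl

end Frame

section Sp

open Cfsg.Agent.TitsThree.SpIdent Cfsg.Agent.H62.FrameSL Cfsg.Agent.ClassicalGeometry.SympBasic
open Cfsg.Agent.Nodes.WittInst Cfsg.Agent.Nodes.WittU

variable {F : Type*} [Field F] {m : ℕ}

theorem eq_zero_sp {v : Fin m ⊕ Fin m → F} (h : ∀ (k : Fin m) (s : Bool), (_root_.Cfsg.Agent.TitsThree.SpIdent.form m F).h v ((frame m F).b (k, s)) = 0) :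
    v = 0 := by
  funext j
  rcases j with k | k
  · have h1 := h k true
    rw [(_root_.Cfsg.Agent.TitsThree.SpIdent.form m F).swap, form_ε] at h1
    change (-1 : F) * sympForm m F (e m F k) v = 0 at h1
    rw [e, sympForm_single_inr_left] at h1
    simpa using h1
  · have h1 := h k false
    rw [(_root_.Cfsg.Agent.TitsThree.SpIdent.form m F).swap, form_ε] at h1
    change (-1 : F) * sympForm m F (f m F k) v = 0 at h1
    rw [f, sympForm_single_inl_left] at h1
    simpa using h1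

theorem mid_sp {i : Fin m} (hi : i.1 + 1 = m) {v : Fin m ⊕ Fin m → F} (hv : v ∈ Mid (frame m F) i) : v = 0 :=
  eq_zero_sp fun k s => hv k (by rw [Fin.le_def]; omega) s

theorem nd_sp {v : Fin m ⊕ Fin m → F} (h : ∀ w, (_root_.Cfsg.Agent.TitsThree.SpIdent.form m F).h v w = 0) : v = 0 := eq_zero_sp fun _ _ => h _

theorem phiL_isIso (j : Fin m) (g : SL(2, F)) : (_root_.Cfsg.Agent.TitsThree.SpIdent.form m F).IsIso (phiL (frame m F) j g) := by
  have h1 : (phiL (frame m F) j).range ≤ isos (_root_.Cfsg.Agent.TitsThree.SpIdent.form m F) := by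
    rw [phiL_range]
    refine sup_le ?_ ?_
    · rintro _ ⟨t, rfl⟩
      exact (frame m F).isIso_Z _ _
    · rintro _ ⟨t, rfl⟩
      exact (frame m F).isIso_Z _ _
  exact h1 ⟨g, rfl⟩

theorem phiL_fix {j k : Fin m} (hk : k ≠ j) (b : Bool) (g : SL(2, F)) :
    phiL (frame m F) j g ((frame m F).b (k, b)) = (frame m F).b (k, b) := by
  have h1 : (_root_.Cfsg.Agent.TitsThree.SpIdent.form m F).h ((frame m F).b (k, b)) ((frame m F).b (j, true)) = 0 := by
    rw [(frame m F).hb, if_neg fun h => hk h.1]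
  have h2 : (_root_.Cfsg.Agent.TitsThree.SpIdent.form m F).h ((frame m F).b (k, b)) ((frame m F).b (j, false)) = 0 := by
    rw [(frame m F).hb, if_neg fun h => hk h.1]
  rw [phiL_apply, linL_apply, h1, h2]
  simp

theorem comp_sp {i j : Fin m} (hij : i < j) {C : SL(2, F)} {s : ℕ} (hC : C ^ s = 1) :
    Comp (frame m F) i s (phiL (frame m F) j C) where
  iso := phiL_isIso j C
  fix k hk b := phiL_fix (by intro h; rw [h] at hk; exact absurd (lt_of_lt_of_le hij hk) (lt_irrefl _)) b C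
  pow v _ := by rw [← map_pow, hC, map_one]; rfl

theorem iso_sp {i j : Fin m} (hi : i.1 + 2 = m) (hj : j.1 + 1 = m) {C : SL(2, F)} (hC : Anis C.1)
    (U : Submodule F (Fin m ⊕ Fin m → F)) (hU : U ≤ Mid (frame m F) i)
    (h0 : ∀ x ∈ U, ∀ y ∈ U, (_root_.Cfsg.Agent.TitsThree.SpIdent.form m F).h x y = 0) (hD : ∀ x ∈ U, phiL (frame m F) j C x ∈ U) : U = ⊥ := by
  rw [eq_bot_iff]
  intro x hx
  have h1 := h0 x hx _ (hD x hx)
  rw [phiL_apply, linL_apply, (_root_.Cfsg.Agent.TitsThree.SpIdent.form m F).add_right, (_root_.Cfsg.Agent.TitsThree.SpIdent.form m F).add_right, (_root_.Cfsg.Agent.TitsThree.SpIdent.form m F).smul_right,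
    (_root_.Cfsg.Agent.TitsThree.SpIdent.form m F).smul_right, h0 x hx x hx, form_ε, form_σ, form_σ] at h1
  set X := (_root_.Cfsg.Agent.TitsThree.SpIdent.form m F).h x ((frame m F).b (j, false)) with hX
  set Y := (_root_.Cfsg.Agent.TitsThree.SpIdent.form m F).h x ((frame m F).b (j, true)) with hY
  obtain ⟨hX0, hY0⟩ := hC X Y (by
    have h2 : ((-1 : F))⁻¹ = -1 := by rw [inv_neg, inv_one]
    rw [h2] at h1
    linear_combination h1)
  rw [Submodule.mem_bot]
  refine eq_zero_sp fun k s => ?_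
  by_cases hk : k = j
  · subst hk
    cases s
    · exact hX0
    · exact hY0
  · refine hU hx k ?_ s
    rw [Fin.le_def]
    have : k.1 ≠ j.1 := fun h => hk (Fin.ext h)
    omega

variable [Finite F] {p : ℕ} [Fact p.Prime] [CharP F p] {W : Type*} [Group W] (cs : CoxeterSystem (CoxeterMatrix.B m) W)

end Sp

end Cfsg.Agent.H410.OZ
end

private theorem dce_afdaddfe950f : _root_.True := by
  try have : _root_.True := by simp only [_root_.Cfsg.Agent.H410.OZ.dl.eq_1]
  exact _root_.True.intro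
end

-- part: H876/OZU/Main
section
prune_inst 0x150055413c62020000042582512022a16d0005b000008000a08408c2000100a089c02040068010094228200100010028130000d0420000000a200000000504010000100411000000020018000180000000000000300000000000000000000004200000000
set_option linter.all false
open scoped Cfsg.Agent.FastGrp

-- part: H876/OZU/IsoU
section
/-!
# Isolated primes of `PSU_n(q)` (helper876, S4842)

`iso_psu` : `r ≠ p` prime with `orderOf (-q : ZMod r) = n` or `n - 1` (`2 ≤ n - 1`), not `(n, q, r) = (4, 2, 5)`, `(4, 3, 5)`,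
`(6, 2, 7)`, is isolated; `cong_psu`.
-/

set_option autoImplicit false
set_option linter.style.haveILetI false
set_option linter.unusedSectionVars false

namespace Cfsg.Agent.H876.OZU

open Matrix Subgroup Cfsg.Agent.H127.UnitRoots Cfsg.Agent.H732.VZ

section abs

universe u

variable {G : Type u} [Group G] [Finite G] {p r : ℕ}

theorem iso_of (hr : r.Prime) (hrp : r ≠ p)
    (hc : ∀ z : G, orderOf z = r → IsCyclic ↥(centralizer ({z} : Set G)) ∧
      Nat.Coprime p (Nat.card (centralizer ({z} : Set G)))) {z : G} (hz : orderOf z = r)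
    (h4 : Nat.card (centralizer ({z} : Set G)) ≠ r ∨ ∃ m : ℕ, ¬ r ∣ m ∧ ¬ IsConj z (z ^ m)) : Iso G p r := by
  classical
  haveI : Fact r.Prime := ⟨hr⟩
  have hpz : IsPGroup r (zpowers z) := IsPGroup.of_card (n := 1) (by rw [Nat.card_zpowers, hz, pow_one])
  obtain ⟨R, hR⟩ := hpz.exists_le_sylow
  have hzR : z ∈ (R : Subgroup G) := hR (mem_zpowers z)
  have hnt : Nontrivial ↥(R : Subgroup G) := by
    refine ⟨⟨⟨z, hzR⟩, 1, fun h => ?_⟩⟩
    have : z = 1 := congrArg Subtype.val h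
    rw [this, orderOf_one] at hz
    exact hr.one_lt.ne hz
  have hcn : Nontrivial ↥(center ↥(R : Subgroup G)) := R.2.center_nontrivial
  have hpc : IsPGroup r ↥(center ↥(R : Subgroup G)) := R.2.to_subgroup _
  obtain ⟨x, hx⟩ : ∃ x : ↥(center ↥(R : Subgroup G)), orderOf x = r := by
    apply exists_prime_orderOf_dvd_card'
    obtain ⟨k, hk⟩ := hpc.exists_card_eq
    rcases Nat.eq_zero_or_pos k with h0 | h0
    · rw [h0, pow_zero] at hk
      exact absurd hk (Finite.one_lt_card_iff_nontrivial.2 hcn).ne'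
    · rw [hk]; exact dvd_pow_self r h0.ne'
  set w : G := ((x : ↥(R : Subgroup G)) : G) with hw
  have hwo : orderOf w = r := by rw [hw, Subgroup.orderOf_coe, Subgroup.orderOf_coe, hx]
  have hRw : (R : Subgroup G) ≤ centralizer ({w} : Set G) := by
    intro y hy
    rw [mem_centralizer_singleton_iff]
    have := mem_center_iff.1 x.2 ⟨y, hy⟩
    exact congrArg Subtype.val this
  have hRc : IsCyclic ↥(R : Subgroup G) := by
    haveI := (hc w hwo).1
    exact isCyclic_of_injective (Subgroup.inclusion hRw) (Subgroup.inclusion_injective hRw)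
  have hRz : (R : Subgroup G) ≤ centralizer ({z} : Set G) := by
    intro y hy
    rw [mem_centralizer_singleton_iff]
    have := (IsCyclic.commGroup (α := ↥(R : Subgroup G))).mul_comm ⟨y, hy⟩ ⟨z, hzR⟩
    exact congrArg Subtype.val this
  have hC : centralizer ({z} : Set G) ≤ centralizer ((R : Subgroup G) : Set G) := by
    intro y hy
    rw [mem_centralizer_iff]
    intro t ht
    haveI := (hc z hz).1
    have := (IsCyclic.commGroup (α := ↥(centralizer ({z} : Set G)))).mul_comm ⟨t, hRz ht⟩ ⟨y, hy⟩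
    exact congrArg Subtype.val this
  exact Iso.of_sylow hrp R hRc hz hzR hC (hc z hz).2 h4

/-- an element of order `N > r`, `r ∣ N` -/
theorem iso_of_order (hr : r.Prime) (hrp : r ≠ p)
    (hc : ∀ z : G, orderOf z = r → IsCyclic ↥(centralizer ({z} : Set G)) ∧
      Nat.Coprime p (Nat.card (centralizer ({z} : Set G)))) {t : G} {N : ℕ} (ht : orderOf t = N) (hrN : r ∣ N)
    (hlt : r < N) : Iso G p r := by
  have h1 : orderOf (t ^ (N / r)) = r := by
    rw [← ht]
    exact orderOf_pow_orderOf_div (by omega) (by rw [ht]; exact hrN)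
  refine iso_of hr hrp hc h1 (Or.inl ?_)
  have h2 : t ∈ centralizer ({t ^ (N / r)} : Set G) := by
    rw [mem_centralizer_singleton_iff]
    exact ((Commute.refl t).pow_right _).eq
  have h3 : orderOf t ∣ Nat.card (centralizer ({t ^ (N / r)} : Set G)) := by
    have := _root_.orderOf_dvd_natCard (⟨t, h2⟩ : ↥(centralizer ({t ^ (N / r)} : Set G)))
    rwa [Subgroup.orderOf_mk] at this
  have h4 := Nat.le_of_dvd Nat.card_pos h3
  omega

end abs

section arith

theorem dvd_sub_one {r q d : ℕ} (hr : r.Prime) (hrq : ¬ r ∣ q) (hd : orderOf (-(q : ZMod r)) = d) : d ∣ r - 1 := by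
  haveI : Fact r.Prime := ⟨hr⟩
  rw [← hd]
  apply orderOf_dvd_of_pow_eq_one
  apply ZMod.pow_card_sub_one_eq_one
  rw [neg_ne_zero]
  intro h
  exact hrq ((ZMod.natCast_eq_zero_iff q r).1 h)

theorem not_dvd_of_order {r q d : ℕ} (hr : r.Prime) (hd : orderOf (-(q : ZMod r)) = d) (h2 : 2 ≤ d) : ¬ r ∣ q := by
  haveI : Fact r.Prime := ⟨hr⟩
  intro h
  have h1 : (q : ZMod r) = 0 := (ZMod.natCast_eq_zero_iff q r).2 h
  rw [h1, neg_zero] at hd
  have : orderOf (0 : ZMod r) = 0 := by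
    rw [orderOf_eq_zero_iff']
    intro m hm
    rw [zero_pow hm.ne']
    exact zero_ne_one
  omega

/-- `D > r = n + 1` with `r ∣ D ∣ q ^ n - 1` prime to `q + 1` -/
theorem exists_D {n q r : ℕ} (hr : r.Prime) (hrn : r = n + 1) (hn4 : 4 ≤ n) (hn2 : Even n) (hq : 2 ≤ q)
    (hord : orderOf (-(q : ZMod r)) = n) (hex : ¬ (n = 4 ∧ q ≤ 3) ∧ ¬ (n = 6 ∧ q = 2)) :
    ∃ D, r ∣ D ∧ r < D ∧ D ∣ q ^ n - 1 ∧ Nat.Coprime D (q + 1) := by
  haveI : Fact r.Prime := ⟨hr⟩
  obtain ⟨m, hm⟩ := hn2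
  have hm2 : n = 2 * m := by omega
  have hhalf : (-(q : ZMod r)) ^ m = -1 := by
    have h1 : ((-(q : ZMod r)) ^ m) ^ 2 = 1 := by
      rw [← pow_mul, mul_comm, ← hm2, ← hord, pow_orderOf_eq_one]
    have h2 : ((-(q : ZMod r)) ^ m - 1) * ((-(q : ZMod r)) ^ m + 1) = 0 := by linear_combination h1
    rcases (mul_eq_zero.1 h2).imp sub_eq_zero.1 eq_neg_of_add_eq_zero_left with h | h
    · exfalso
      have := orderOf_dvd_of_pow_eq_one h
      rw [hord] at this
      have := Nat.le_of_dvd (by omega) this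
      omega
    · exact h
  rcases Nat.even_or_odd m with hme | hmo
  · -- `4 ∣ n`
    obtain ⟨k, hk⟩ := hme
    have hk2 : m = 2 * k := by omega
    have hk1 : 1 ≤ k := by omega
    have hrd : r ∣ q ^ m + 1 := by
      rw [Even.neg_pow (by rw [hk2]; exact even_two_mul k)] at hhalf
      rw [← ZMod.natCast_eq_zero_iff]
      push_cast
      rw [hhalf]; ring
    have hdvd : q ^ m + 1 ∣ q ^ n - 1 := by
      have : q ^ n - 1 = (q ^ m + 1) * (q ^ m - 1) := by
        rw [hm2, mul_comm 2 m, pow_mul]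
        have := Nat.sq_sub_sq (q ^ m) 1
        rwa [one_pow] at this
      rw [this]
      exact dvd_mul_right _ _
    have hmod : ∀ s, s.Prime → s ∣ q ^ m + 1 → s ∣ q + 1 → s = 2 := by
      intro s hs h1 h2
      haveI : Fact s.Prime := ⟨hs⟩
      have h3 : (q : ZMod s) = -1 := by
        have := (ZMod.natCast_eq_zero_iff (q + 1) s).2 h2
        push_cast at this
        linear_combination this
      have h4 : ((q : ZMod s)) ^ m + 1 = 0 := by
        have := (ZMod.natCast_eq_zero_iff (q ^ m + 1) s).2 h1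
        push_cast at this
        exact this
      rw [h3, Even.neg_one_pow (by rw [hk2]; exact even_two_mul k)] at h4
      have h5 : ((2 : ℕ) : ZMod s) = 0 := by push_cast; linear_combination h4
      exact (Nat.prime_dvd_prime_iff_eq hs Nat.prime_two).1 ((ZMod.natCast_eq_zero_iff 2 s).1 h5)
    have hr2 : r ≠ 2 := by omega
    rcases Nat.even_or_odd q with hqe | hqo
    · refine ⟨q ^ m + 1, hrd, ?_, hdvd, ?_⟩
      · have hsize : 2 * m + 1 < q ^ m + 1 := by
          rcases Nat.lt_or_ge k 2 with hk3 | hk3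
          · have hk4 : k = 1 := by omega
            have hq4 : 4 ≤ q := by
              by_contra hlt
              exact hex.1 ⟨by omega, by omega⟩
            rw [hk2, hk4, mul_one, pow_two]
            nlinarith only [hq4]
          · have h1 : 2 * m < 2 ^ m := by
              have : 4 ≤ m := by omega
              clear * - this
              induction m, this using Nat.le_induction with
              | base => norm_num
              | succ j hj ih => rw [pow_succ]; omega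
            have h2 : 2 ^ m ≤ q ^ m := Nat.pow_le_pow_left hq m
            omega
        omega
      · rw [Nat.coprime_iff_gcd_eq_one]
        by_contra hne
        obtain ⟨s, hs, hsd⟩ := Nat.exists_prime_and_dvd hne
        have h1 := hsd.trans (Nat.gcd_dvd_left _ _)
        have h2 := hmod s hs h1 (hsd.trans (Nat.gcd_dvd_right _ _))
        rw [h2] at h1
        have h3 : Even (q ^ m) := hqe.pow_of_ne_zero (by omega)
        have h4 : Odd (q ^ m + 1) := h3.add_one
        exact (Nat.not_even_iff_odd.2 h4) (even_iff_two_dvd.2 h1)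
    · -- `q` odd
      obtain ⟨D, hD⟩ : 2 ∣ q ^ m + 1 := even_iff_two_dvd.1 (hqo.pow.add_one)
      have hDodd : Odd D := by
        -- q ^ m ≡ 1 mod 4
        have h1 : q ^ m % 4 = 1 := by
          have h2 : q ^ 2 % 4 = 1 := by
            obtain ⟨t, rfl⟩ := hqo
            have : (2 * t + 1) ^ 2 = 4 * (t * t + t) + 1 := by ring
            rw [this]; omega
          rw [hk2, pow_mul, Nat.pow_mod, h2, one_pow]
          rfl
        rw [Nat.odd_iff]
        omega
      refine ⟨D, ?_, ?_, (Dvd.intro_left 2 hD.symm).trans hdvd, ?_⟩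
      · have h1 : r ∣ 2 * D := hD ▸ hrd
        rcases hr.dvd_mul.1 h1 with h2 | h2
        · exact absurd ((Nat.prime_dvd_prime_iff_eq hr Nat.prime_two).1 h2) hr2
        · exact h2
      · have hsize : 4 * m + 2 < q ^ m + 1 := by
          rcases Nat.lt_or_ge k 2 with hk3 | hk3
          · have hk4 : k = 1 := by omega
            have hq4 : 5 ≤ q := by
              by_contra hlt
              have h4 : ¬ q ≤ 3 := fun h => hex.1 ⟨by omega, h⟩
              have h5 : q = 4 := by omega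
              rw [h5] at hqo
              exact (Nat.not_even_iff_odd.2 hqo) (by decide)
            rw [hk2, hk4, mul_one, pow_two]
            nlinarith only [hq4]
          · have hq3 : 3 ≤ q := by
              obtain ⟨t, rfl⟩ := hqo
              omega
            have h1 : 4 * m + 1 < 3 ^ m := by
              have : 4 ≤ m := by omega
              clear * - this
              induction m, this using Nat.le_induction with
              | base => norm_num
              | succ j hj ih => rw [pow_succ]; omega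
            have h2 : 3 ^ m ≤ q ^ m := Nat.pow_le_pow_left hq3 m
            omega
        omega
      · rw [Nat.coprime_iff_gcd_eq_one]
        by_contra hne
        obtain ⟨s, hs, hsd⟩ := Nat.exists_prime_and_dvd hne
        have h1 := hsd.trans (Nat.gcd_dvd_left _ _)
        have h2 := hmod s hs (h1.trans (Dvd.intro_left 2 hD.symm)) (hsd.trans (Nat.gcd_dvd_right _ _))
        rw [h2] at h1
        exact (Nat.not_even_iff_odd.2 hDodd) (even_iff_two_dvd.2 h1)
  · -- `n = 2 m`, `m` odd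
    have hm3 : 3 ≤ m := by
      obtain ⟨t, ht⟩ := hmo
      omega
    set D := ∑ i ∈ Finset.range m, q ^ i with hDdef
    have hDmul : D * (q - 1) = q ^ m - 1 := by
      have h1 := Nat.geomSum_eq hq m
      have h2 : (q - 1) ∣ (q ^ m - 1) := by
        have := Nat.sub_dvd_pow_sub_pow q 1 m
        rwa [one_pow] at this
      rw [hDdef, h1, Nat.div_mul_cancel h2]
    have hqm : (q : ZMod r) ^ m = 1 := by
      rw [hmo.neg_pow] at hhalf
      exact neg_injective hhalf
    have hrD : r ∣ D := by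
      have h1 : r ∣ D * (q - 1) := by
        rw [hDmul, ← ZMod.natCast_eq_zero_iff, Nat.cast_sub (Nat.one_le_pow _ _ (by omega))]
        push_cast
        rw [hqm, sub_self]
      rcases hr.dvd_mul.1 h1 with h2 | h2
      · exact h2
      · exfalso
        have h3 : (q : ZMod r) = 1 := by
          have := (ZMod.natCast_eq_zero_iff (q - 1) r).2 h2
          rw [Nat.cast_sub (by omega)] at this
          push_cast at this
          exact sub_eq_zero.1 this
        have h4 : (-(q : ZMod r)) ^ 2 = 1 := by rw [h3]; ring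
        have := orderOf_dvd_of_pow_eq_one h4
        rw [hord] at this
        have := Nat.le_of_dvd (by omega) this
        omega
    refine ⟨D, hrD, ?_, ?_, ?_⟩
    · have hge : 2 * m + 1 < D := by
        rcases Nat.lt_or_ge m 4 with h1 | h1
        · have h2 : m = 3 := by omega
          have h3 : 3 ≤ q := by
            by_contra hlt
            exact hex.2 ⟨by omega, by omega⟩
          rw [hDdef, h2]
          simp only [Finset.sum_range_succ, Finset.sum_range_zero]
          nlinarith only [h3]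
        · have h2 : 2 ^ m - 1 ≤ D := by
            have h3 : ∑ i ∈ Finset.range m, 2 ^ i ≤ D := Finset.sum_le_sum fun i _ => Nat.pow_le_pow_left hq i
            have h4 := Nat.geomSum_eq (le_refl 2) m
            rw [h4] at h3
            simpa only [_root_.tsub_le_iff_right, _root_.ge_iff_le, _root_.Nat.add_one_sub_one, _root_.Nat.div_one] using h3
          have h3 : 2 * m + 2 < 2 ^ m := by
            clear * - h1
            induction m, h1 using Nat.le_induction with
            | base => norm_num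
            | succ j hj ih => rw [pow_succ]; omega
          omega
      omega
    · have h1 : D ∣ q ^ m - 1 := Dvd.intro _ hDmul
      refine h1.trans ?_
      have : q ^ n - 1 = (q ^ m + 1) * (q ^ m - 1) := by
        rw [hm2, mul_comm 2 m, pow_mul]
        have := Nat.sq_sub_sq (q ^ m) 1
        rwa [one_pow] at this
      rw [this]
      exact dvd_mul_left _ _
    · rw [Nat.coprime_iff_gcd_eq_one]
      by_contra hne
      obtain ⟨s, hs, hsd⟩ := Nat.exists_prime_and_dvd hne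
      haveI : Fact s.Prime := ⟨hs⟩
      have h1 := hsd.trans (Nat.gcd_dvd_left _ _)
      have h2 := hsd.trans (Nat.gcd_dvd_right _ _)
      have h3 : (q : ZMod s) = -1 := by
        have := (ZMod.natCast_eq_zero_iff (q + 1) s).2 h2
        push_cast at this
        linear_combination this
      have h4 : ((D : ℕ) : ZMod s) = 1 := by
        rw [hDdef]
        push_cast
        rw [h3]
        obtain ⟨t, ht⟩ := hmo
        rw [ht, Finset.sum_range_succ, neg_one_geom_sum, if_pos (even_two_mul t)]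
        rw [Even.neg_one_pow (even_two_mul t)]
        ring
      rw [(ZMod.natCast_eq_zero_iff D s).2 h1] at h4
      exact zero_ne_one h4

end arith

section main

variable {F : Type*} [Field F] [Fintype F] {q n : ℕ}

open Cfsg.Agent.H186 Cfsg.Agent.ClassicalGeometry.GUBasic Cfsg.Agent.H103.UniBlock Cfsg.Agent.H72.AdjPSU

/-- an element of order `r (q + 1)` in `PSU_{d+1}(q)`, `r = d + 1` -/
theorem exists_order_succ (hF : Fintype.card F = q ^ 2) (hn : 3 ≤ n) {r d : ℕ} (_hr : r.Prime) (hdn : d + 1 = n)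
    (hrd : r = d + 1) (hco : Nat.Coprime r (q + 1)) (h1 : HasBlock F q d r) :
    ∃ z : Cfsg.PSU n F q, orderOf z = r * (q + 1) := by
  classical
  obtain ⟨A, hA, hAd, hA1, hA2⟩ := h1
  have hq := two_le hF
  obtain ⟨y, hy⟩ := IsCyclic.exists_generator (α := Fˣ)
  have hordy : orderOf y = q ^ 2 - 1 := by
    rw [orderOf_eq_card_of_forall_mem_zpowers hy, Nat.card_units, Nat.card_eq_fintype_card, hF]
  have hfac : q ^ 2 - 1 = (q + 1) * (q - 1) := by
    have := Nat.sq_sub_sq q 1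
    rw [one_pow] at this
    exact this
  obtain ⟨a, ha⟩ : ∃ a, a = y ^ (q - 1) := ⟨_, rfl⟩
  have horda : orderOf a = q + 1 := by
    rw [ha, orderOf_pow' y (by omega), hordy, hfac, Nat.gcd_eq_right (dvd_mul_left _ _),
      Nat.mul_div_cancel _ (by omega)]
  have ha1 : (a : F) ^ (q + 1) = 1 := by
    rw [← Units.val_pow_eq_pow_val, ← horda, pow_orderOf_eq_one, Units.val_one]
  set b : Fˣ := (a ^ d)⁻¹ with hb
  have hb1 : (b : F) ^ (q + 1) = 1 := by
    rw [← Units.val_pow_eq_pow_val, hb, inv_pow, ← pow_mul, mul_comm, pow_mul, ← horda, pow_orderOf_eq_one, one_pow,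
      inv_one, Units.val_one]
  have hsm : ∀ {ι : Type} [Fintype ι] [DecidableEq ι] (c : F) (N : Matrix ι ι F), c ^ (q + 1) = 1 → Uni q N →
      Uni q (c • N) := by
    intro ι _ _ c N hc hN
    obtain ⟨x, hx, h1⟩ := hN
    refine ⟨x, hx, ?_⟩
    rw [st_smul, Matrix.smul_mul, Matrix.smul_mul, Matrix.mul_smul, smul_smul, ← pow_succ, hc, one_smul, h1]
  have hd0 : 0 < d := by omega
  have hNe : Nonempty (Fin d) := ⟨⟨0, hd0⟩⟩
  let e : Fin n ≃ Fin d ⊕ Fin 1 := (finCongr hdn.symm).trans finSumFinEquiv.symm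
  refine exists_order_of_index hF hn e (A := fromBlocks ((a : F) • A) 0 0 ((b : F) • (1 : Matrix (Fin 1) (Fin 1) F)))
    (uni_fromBlocks (by omega) (hsm _ _ ha1 hA) (hsm _ _ hb1 (uni_one hF))) ?_ (N := r * (q + 1)) ?_ _ dvd_rfl
  · rw [Matrix.det_fromBlocks_zero₂₁, Matrix.det_smul, Matrix.det_smul, hAd, Matrix.det_one, mul_one, mul_one,
      Fintype.card_fin, Fintype.card_fin, pow_one, ← Units.val_pow_eq_pow_val, ← Units.val_mul, hb, mul_inv_cancel,
      Units.val_one]
  · intro k c hk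
    rw [fromBlocks_pow] at hk
    obtain ⟨h3, h4⟩ := fromBlocks_eq_smul hk
    have h5 : (b : F) ^ k = c := by
      rw [smul_pow, one_pow] at h4
      have := congrFun (congrFun h4 0) 0
      simpa using this
    rw [smul_pow] at h3
    have hak0 : (a : F) ^ k ≠ 0 := pow_ne_zero _ a.ne_zero
    have h6 : A ^ k = (((a : F) ^ k)⁻¹ * c) • 1 := by
      rw [mul_smul, ← h3, smul_smul, inv_mul_cancel₀ hak0, one_smul]
    have h7 := pow_eq_one_of_scalar hd0 hA1 h6
    have h8 : (((a : F) ^ k)⁻¹ * c) ^ (q + 1) = 1 := scalar_pow hF (uni_of_eq h6 (uni_pow hF hA k))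
    have h9 : ((a : F) ^ k)⁻¹ * c = 1 := by
      rw [← orderOf_eq_one_iff]
      exact Nat.eq_one_of_dvd_coprimes hco (orderOf_dvd_of_pow_eq_one h7) (orderOf_dvd_of_pow_eq_one h8)
    rw [h9, one_smul] at h6
    have h10 := hA2 _ h6
    have h11 : c = (a : F) ^ k := by
      have : c = (a : F) ^ k * (((a : F) ^ k)⁻¹ * c) := by
        rw [← mul_assoc, mul_inv_cancel₀ hak0, one_mul]
      rw [this, h9, mul_one]
    have h12 : b ^ k = a ^ k := by
      apply Units.ext
      rw [Units.val_pow_eq_pow_val, Units.val_pow_eq_pow_val, h5, h11]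
    have h13 : a ^ (r * k) = 1 := by
      rw [hb, inv_pow, ← pow_mul] at h12
      rw [hrd, add_mul, one_mul, pow_add, ← h12, mul_inv_cancel]
    have h14 : q + 1 ∣ r * k := by
      rw [← horda]
      exact orderOf_dvd_of_pow_eq_one h13
    have h15 : q + 1 ∣ k := (Nat.Coprime.symm hco).dvd_of_dvd_mul_left h14
    exact Nat.Coprime.mul_dvd_of_dvd_of_dvd hco h10 h15

/-- **Isolated primes of `PSU_n(q)`.** -/
theorem iso_psu' (hF : Fintype.card F = q ^ 2) (hn : 3 ≤ n) {r d p : ℕ} (hr : r.Prime) [hp : Fact p.Prime] [CharP F p]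
    (hd : orderOf (-(q : ZMod r)) = d) (h2 : 2 ≤ d) (hdn : d = n ∨ d + 1 = n)
    (hex : d = n → r = n + 1 → ¬ (n = 4 ∧ q ≤ 3) ∧ ¬ (n = 6 ∧ q = 2)) : Iso (Cfsg.PSU n F q) p r := by
  classical
  have hq := two_le hF
  have hrq := not_dvd_of_order hr hd h2
  have hrp : r ≠ p := by
    rintro rfl
    obtain ⟨j, hj, hj1⟩ := exists_eq_pow hF r
    exact hrq (by rw [hj]; exact dvd_pow_self r (by omega))
  have hco := coprime_succ hr hd h2
  haveI : Finite (Cfsg.SU n F q) := inferInstance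
  haveI : Finite (Cfsg.PSU n F q) := inferInstance
  have hcd := fun (z : Cfsg.PSU n F q) (hz : orderOf z = r) => cent_data hF hn hr hrp hd h2 hdn hz
  have hc : ∀ z : Cfsg.PSU n F q, orderOf z = r → IsCyclic ↥(centralizer ({z} : Set (Cfsg.PSU n F q))) ∧
      Nat.Coprime p (Nat.card (centralizer ({z} : Set (Cfsg.PSU n F q)))) := fun z hz => ⟨(hcd z hz).1, (hcd z hz).2.1⟩
  have hblock : HasBlock F q d r := by
    have := nu_dvd (q := q) (by omega) r
    rw [show nu q r = d from hd] at this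
    exact hasBlock_nu hF (by omega) this hco
  have hdr := dvd_sub_one hr hrq hd
  have hr1 := hr.one_lt
  by_cases hrd : r = d + 1
  · rcases hdn with hdn | hdn
    · -- `d = n`, `r = n + 1`
      subst hdn
      have hodd : Odd r := hr.odd_of_ne_two (by omega)
      have heven : Even d := by
        obtain ⟨t, ht⟩ := hodd
        exact ⟨t, by omega⟩
      have hn4 : 4 ≤ d := by
        obtain ⟨t, ht⟩ := heven
        omega
      obtain ⟨D, hD1, hD2, hD3, hD4⟩ := exists_D hr hrd hn4 heven hq hd (hex rfl hrd)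
      have hbD : HasBlock F q d D := hasBlock_nu hF (by omega) (by rw [if_pos heven]; exact hD3) hD4
      obtain ⟨t, ht⟩ := exists_order_of_block hF hn hbD (by omega) le_rfl hD4 D dvd_rfl
      exact iso_of_order hr hrp hc ht hD1 hD2
    · obtain ⟨t, ht⟩ := exists_order_succ hF hn hr hdn hrd hco hblock
      exact iso_of_order hr hrp hc ht (dvd_mul_right _ _) (by nlinarith only [hq, hr1])
  · obtain ⟨z, hz⟩ := exists_order_of_block hF hn hblock (by omega) (by (clear * - hdn; omega)) hco r dvd_rfl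
    refine iso_of hr hrp hc hz (Or.inr ?_)
    rcases (hcd z hz).2.2 with h3 | ⟨i, hi, hi2⟩
    · exfalso
      have := Nat.le_of_dvd (by omega) hdr
      omega
    · exact ⟨i, fun h => hr.one_lt.ne' (Nat.Coprime.eq_one_of_dvd hi.symm h), hi2⟩

theorem iso_psu (hF : Fintype.card F = q ^ 2) (hn : 3 ≤ n) {r d p : ℕ} (hr : r.Prime) [hp : Fact p.Prime] [CharP F p]
    (hd : orderOf (-(q : ZMod r)) = d) (h2 : 2 ≤ d) (hdn : d = n ∨ d + 1 = n)
    (hex : ¬ (n = 4 ∧ q ≤ 3) ∧ ¬ (n = 6 ∧ q = 2)) : Iso (Cfsg.PSU n F q) p r :=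
  iso_psu' hF hn hr hd h2 hdn fun _ _ => hex

end main

end Cfsg.Agent.H876.OZU
end

-- part: H876/OZU/Num
section
/-!
# Arithmetic for `PSU_n(q)` (helper876, S4842)
-/

set_option autoImplicit false
set_option linter.style.haveILetI false
set_option linter.unusedSectionVars false

namespace Cfsg.Agent.H876.OZU

open Cfsg.Agent.H448.Van Cfsg.Agent.H730.OZ

/-- the order of `q` modulo a prime with `orderOf (-q) = d` -/
def nuf (d : ℕ) : ℕ := if Odd d then 2 * d else if d % 4 = 0 then d else d / 2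

theorem nuf_odd {d : ℕ} (h : Odd d) : nuf d = 2 * d := by rw [nuf, if_pos h]

theorem nuf_four {d : ℕ} (h : d % 4 = 0) : nuf d = d := by
  rw [nuf, if_neg (by rw [Nat.not_odd_iff_even, Nat.even_iff]; omega), if_pos h]

theorem nuf_two {d : ℕ} (h : d % 4 = 2) : nuf d = d / 2 := by
  rw [nuf, if_neg (by rw [Nat.not_odd_iff_even, Nat.even_iff]; omega), if_neg (by omega)]

/-- from the order of `x` to the order of `-x` -/
theorem order_neg {r : ℕ} [hr : Fact r.Prime] (hr2 : 2 < r) {x : ZMod r} {d : ℕ} (hd : 1 ≤ d) (hx : orderOf x = nuf d) :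
    orderOf (-x) = d := by
  have h21 : (-1 : ZMod r) ≠ 1 := by
    intro h
    have h1 : ((2 : ℕ) : ZMod r) = 0 := by push_cast; linear_combination -h
    rw [ZMod.natCast_eq_zero_iff] at h1
    have := Nat.le_of_dvd (by norm_num) h1
    omega
  have hback : ∀ e : ℕ, (-x) ^ e = 1 → nuf d ∣ 2 * e := by
    intro e he
    rw [← hx]
    apply orderOf_dvd_of_pow_eq_one
    rw [pow_mul, ← neg_sq, ← pow_mul, mul_comm, pow_mul, he, one_pow]
  rcases Nat.even_or_odd d with hde | hdo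
  · have hde' := Nat.even_iff.1 hde
    rcases (by omega : d % 4 = 0 ∨ d % 4 = 2) with h4 | h4
    · rw [nuf_four h4] at hx hback
      apply Nat.dvd_antisymm
      · apply orderOf_dvd_of_pow_eq_one
        rw [hde.neg_pow, ← hx, pow_orderOf_eq_one]
      · have h1 := hback _ (pow_orderOf_eq_one (-x))
        have h2 : Even (orderOf (-x)) := by
          rw [Nat.even_iff]
          obtain ⟨c, hc⟩ := h1
          obtain ⟨t, ht⟩ : 4 ∣ d := Nat.dvd_of_mod_eq_zero h4
          have h5 : orderOf (-x) = 2 * (t * c) := by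
            rw [ht] at hc
            have : 4 * t * c = 2 * (2 * (t * c)) := by ring
            omega
          omega
        have h3 := pow_orderOf_eq_one (-x)
        rw [h2.neg_pow] at h3
        rw [← hx]
        exact orderOf_dvd_of_pow_eq_one h3
    · rw [nuf_two h4] at hx hback
      obtain ⟨c, hc⟩ : ∃ c, d = 2 * c := ⟨d / 2, by omega⟩
      have hc2 : d / 2 = c := by omega
      rw [hc2] at hx hback
      have hco : Odd c := by rw [Nat.odd_iff]; (clear * - h4 hc; omega)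
      apply Nat.dvd_antisymm
      · apply orderOf_dvd_of_pow_eq_one
        rw [hde.neg_pow, hc, mul_comm, pow_mul, ← hx, pow_orderOf_eq_one, one_pow]
      · have h1 := hback _ (pow_orderOf_eq_one (-x))
        have h2 : c ∣ orderOf (-x) := by
          have : Nat.Coprime c 2 := (Nat.coprime_two_right).2 hco
          exact this.dvd_of_dvd_mul_left h1
        obtain ⟨t, ht⟩ := h2
        have h3 := pow_orderOf_eq_one (-x)
        rw [ht, pow_mul, hco.neg_pow, ← hx, pow_orderOf_eq_one] at h3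
        have h4 : Even t := by
          by_contra h5
          rw [Nat.not_even_iff_odd] at h5
          rw [h5.neg_one_pow] at h3
          exact h21 h3
        obtain ⟨s, hs⟩ := h4
        rw [ht, hc, hs]
        exact ⟨s, by ring⟩
  · rw [nuf_odd hdo] at hx hback
    have hxd : x ^ d = -1 := by
      have h1 : (x ^ d) * (x ^ d) = 1 := by
        rw [← pow_add, ← two_mul, ← hx, pow_orderOf_eq_one]
      rcases mul_self_eq_one_iff.1 h1 with h2 | h2
      · exfalso
        have h3 := orderOf_dvd_of_pow_eq_one h2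
        rw [hx] at h3
        have := Nat.le_of_dvd (by omega) h3
        omega
      · exact h2
    apply Nat.dvd_antisymm
    · apply orderOf_dvd_of_pow_eq_one
      rw [hdo.neg_pow, hxd, neg_neg]
    · exact Nat.dvd_of_mul_dvd_mul_left (by norm_num) (hback _ (pow_orderOf_eq_one (-x)))

/-- the primes -/
theorem exists_prime {p a d : ℕ} (hp : p.Prime) (ha : 1 ≤ a) (hd : 3 ≤ d) (h6 : ¬ (p = 2 ∧ a * nuf d = 6)) :
    ∃ r : ℕ, r.Prime ∧ orderOf (p : ZMod r) = a * nuf d ∧ orderOf (-((p ^ a : ℕ) : ZMod r)) = d ∧ 2 < r := by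
  have hnu : 3 ≤ nuf d := by
    unfold nuf
    split_ifs with h1 h2
    · omega
    · omega
    · rw [Nat.not_odd_iff_even, Nat.even_iff] at h1
      omega
  have hge : 3 ≤ a * nuf d := by nlinarith
  obtain ⟨r, hr, hord⟩ := Cfsg.Agent.Lib.Zsigmondy.exists_prime_orderOf (a := p) (n := a * nuf d) hp.two_le (by omega)
    (by omega) h6
  haveI : Fact r.Prime := ⟨hr⟩
  have hp0 : (p : ZMod r) ≠ 0 := by
    intro h
    have h1 : ((0 : ZMod r)) ^ (a * nuf d) = 1 := by rw [← h, ← hord]; exact pow_orderOf_eq_one _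
    rw [zero_pow (by omega)] at h1
    exact zero_ne_one h1
  have hr2 : 2 < r := by
    have h2 : orderOf (p : ZMod r) ∣ r - 1 := orderOf_dvd_of_pow_eq_one (ZMod.pow_card_sub_one_eq_one hp0)
    rw [hord] at h2
    have h3 := hr.two_le
    have := Nat.le_of_dvd (by omega) h2
    omega
  refine ⟨r, hr, hord, order_neg hr2 (by omega) ?_, hr2⟩
  push_cast
  rw [orderOf_pow' _ (by omega), hord, Nat.gcd_eq_right (dvd_mul_right _ _), Nat.mul_div_cancel_left _ (by omega)]

/-- the middle values: `o` odd, `f` even, coprime -/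
theorem mid_psu {a m o f Df : ℕ} {e : ℤ} (ha : 0 < a) (ho : Odd o) (hf : Even f) (hf0 : 0 < f) (hco : Nat.Coprime o f)
    (hm : 0 < m) (hm2 : m < a * (o * f)) (hD : Df = a * nuf f ∨ (a = 2 ∧ f = 6 ∧ Df = 3))
    (h1 : a * (2 * o) ∣ 2 * m) (h2 : Df ∣ 2 * m) (h3 : e = -1 → ¬ a * (2 * o) ∣ m ∧ ¬ Df ∣ m)
    (h4 : e = 1 → a * (2 * o) ∣ m ∧ Df ∣ m) (he : e = 1 ∨ e = -1) : False := by
  rcases he with rfl | rfl
  · obtain ⟨h5, h6⟩ := h4 rfl
    -- `a o f ∣ m`
    have key : a * (o * f) ∣ m := by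
      rcases hD with rfl | ⟨rfl, rfl, rfl⟩
      · obtain ⟨c, hc⟩ := (Dvd.intro _ rfl : a ∣ a * (2 * o)).trans h5
        rw [hc] at h5 h6 ⊢
        have h7 := Nat.dvd_of_mul_dvd_mul_left ha h5
        have h8 := Nat.dvd_of_mul_dvd_mul_left ha h6
        apply Nat.mul_dvd_mul_left
        have h9 : o ∣ c := (Dvd.intro_left 2 rfl).trans h7
        have h10 : 2 ∣ c := (Dvd.intro o rfl).trans h7
        have hfe := Nat.even_iff.1 hf
        rcases (by omega : f % 4 = 0 ∨ f % 4 = 2) with h11 | h11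
        · rw [nuf_four h11] at h8
          exact hco.mul_dvd_of_dvd_of_dvd h9 h8
        · rw [nuf_two h11] at h8
          have h12 : f ∣ c := by
            obtain ⟨t, ht⟩ : ∃ t, f = 2 * t := ⟨f / 2, by omega⟩
            have ht2 : f / 2 = t := by (clear * - ht; omega)
            rw [ht2] at h8
            rw [ht]
            have : Nat.Coprime 2 t := by
              rw [Nat.coprime_two_left, Nat.odd_iff]; (clear * - h11 ht; omega)
            exact this.mul_dvd_of_dvd_of_dvd h10 h8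
          exact hco.mul_dvd_of_dvd_of_dvd h9 h12
      · -- `4 o ∣ m`, `3 ∣ m`
        have h7 : Nat.Coprime o 3 := hco.coprime_dvd_right (by norm_num)
        have h8 : o ∣ m := (Dvd.intro_left 4 (by ring)).trans h5
        have h9 : 4 ∣ m := (Dvd.intro o (by ring)).trans h5
        have h10 : Nat.Coprime (4 * 3) o := by
          have : Nat.Coprime o 4 := by
            have : Nat.Coprime o 2 := (Nat.coprime_two_right).2 ho
            exact (Nat.Coprime.mul_right this this : Nat.Coprime o (2 * 2))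
          exact (this.mul_right h7).symm
        have h11 : 4 * 3 ∣ m := (by norm_num : Nat.Coprime 4 3).mul_dvd_of_dvd_of_dvd h9 h6
        have h12 := h10.mul_dvd_of_dvd_of_dvd h11 h8
        refine (Dvd.intro 1 ?_ : 2 * (o * 6) ∣ 4 * 3 * o).trans h12
        ring
    have := Nat.le_of_dvd hm key
    omega
  · obtain ⟨h5, h6⟩ := h3 rfl
    rcases hD with rfl | ⟨rfl, rfl, rfl⟩
    · obtain ⟨c, hc⟩ : a * o ∣ m := by
        apply Nat.dvd_of_mul_dvd_mul_left (by norm_num : 0 < 2)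
        refine (dvd_of_eq ?_).trans h1
        ring
      -- `c` is odd
      have hcodd : Odd c := by
        by_contra hce
        rw [Nat.not_odd_iff_even] at hce
        obtain ⟨t, ht⟩ := hce
        apply h5
        exact ⟨t, by rw [hc, ht]; ring⟩
      have hoc : Odd (o * c) := ho.mul hcodd
      have hm3 : m = a * (o * c) := by rw [hc]; ring
      rw [hm3] at h2 h6
      have h7 : nuf f ∣ 2 * (o * c) := by
        apply Nat.dvd_of_mul_dvd_mul_left ha
        refine h2.trans (dvd_of_eq ?_)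
        ring
      have h8 : ¬ nuf f ∣ o * c := fun h => h6 (Nat.mul_dvd_mul_left _ h)
      have hfe := Nat.even_iff.1 hf
      rcases (by omega : f % 4 = 0 ∨ f % 4 = 2) with h11 | h11
      · rw [nuf_four h11] at h7
        have h9 : 4 ∣ 2 * (o * c) := (Nat.dvd_of_mod_eq_zero h11).trans h7
        obtain ⟨k, hk⟩ := hoc
        omega
      · rw [nuf_two h11] at h7 h8
        apply h8
        have : Nat.Coprime (f / 2) 2 := by
          rw [Nat.coprime_two_right, Nat.odd_iff]; omega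
        exact this.dvd_of_dvd_mul_left h7
    · apply h6
      exact (by norm_num : Nat.Coprime 3 2).dvd_of_dvd_mul_left h2

end Cfsg.Agent.H876.OZU
end

-- part: H876/OZU/Row
section
/-!
# S4842: the row `PSU_n(q)`, `n ≥ 4` (helper876)
-/

set_option autoImplicit false
set_option linter.style.haveILetI false
set_option linter.unusedSectionVars false

namespace Cfsg.Agent.H876.OZU

open Cfsg Cfsg.Agent.H448.Van Cfsg.Agent.H730.OZ Cfsg.Agent.H732.VZ Cfsg.Agent.ClassicalGeometry.GUBasic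
  Cfsg.Agent.H127.UnitRoots

universe u

theorem prod_range_eq (f : ℕ → ℕ) (n : ℕ) : ((List.range n).map f).prod = ∏ i ∈ Finset.range n, f i := by
  induction n with
  | zero => simp
  | succ n ih => rw [List.range_succ, List.map_append, List.prod_append, ih, Finset.prod_range_succ]; simp

/-- the consequences of one congruence -/
theorem ords {G : Type u} [Group G] {p r D m : ℕ} {e : ℤ} (hord : orderOf (p : ZMod r) = D) (hr2 : 2 < r)
    (hc : (r : ℤ) ∣ e * (p : ℤ) ^ m - (p : ℤ) ^ 0) (he : e = 1 ∨ e = -1) :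
    D ∣ 2 * m ∧ (e = -1 → ¬ D ∣ m) ∧ (e = 1 → D ∣ m) := by
  rcases he with rfl | rfl
  · have h2 := ord_one hord hc
    exact ⟨h2.mul_left 2, fun h => absurd h (by norm_num), fun _ => h2⟩
  · obtain ⟨h2, h3⟩ := ord_neg hord hc
    exact ⟨h2, fun _ => h3 hr2, fun h => absurd h (by norm_num)⟩

section card

variable {F : Type u} [Field F] [Fintype F] {q n p a : ℕ}

theorem factor_ne (hp : p.Prime) (ha : 0 < a) (i : ℕ) :
    ¬ p ∣ (if Even i then (p ^ a) ^ (i + 1) + 1 else (p ^ a) ^ (i + 1) - 1) := by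
  have h1 : p ∣ (p ^ a) ^ (i + 1) := (dvd_pow_self p ha.ne').trans (dvd_pow_self _ (by omega))
  have h2 : 1 ≤ (p ^ a) ^ (i + 1) := Nat.one_le_pow _ _ (pow_pos hp.pos a)
  intro h
  split_ifs at h
  · have := (Nat.dvd_add_right h1).1 h
    exact hp.one_lt.ne' (Nat.dvd_one.1 this)
  · have := (Nat.dvd_sub_iff_right h2 h1).1 h
    exact hp.one_lt.ne' (Nat.dvd_one.1 this)

theorem card_fact (hF : Fintype.card F = (p ^ a) ^ 2) (hn : 2 ≤ n) (hp : p.Prime) (ha : 0 < a)
    [Finite (PSU n F (p ^ a))] : (Nat.card (PSU n F (p ^ a))).factorization p = a * (n * (n - 1) / 2) := by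
  have h1 := S0280.result hF n hn
  refine fact_of (g := Nat.gcd n (p ^ a + 1) * (p ^ a + 1)) (M := ∏ i ∈ Finset.range n,
    (if Even i then (p ^ a) ^ (i + 1) + 1 else (p ^ a) ^ (i + 1) - 1)) hp ?_ ?_ Nat.card_pos.ne' ?_
  · intro h
    have hp1 : ∀ x, x ∣ p ^ a + 1 → ¬ p ∣ x := by
      intro x hx h2
      have h3 := (Nat.dvd_add_right (dvd_pow_self p ha.ne')).1 (h2.trans hx)
      exact hp.one_lt.ne' (Nat.dvd_one.1 h3)
    rcases hp.dvd_mul.1 h with h2 | h2
    · exact hp1 _ (Nat.gcd_dvd_right _ _) h2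
    · exact hp1 _ dvd_rfl h2
  · intro h
    rw [hp.prime.dvd_finsetProd_iff] at h
    obtain ⟨i, -, hi⟩ := h
    exact factor_ne hp ha i hi
  · rw [mul_assoc, h1, ← pow_mul]

theorem card_not_dvd (hF : Fintype.card F = (p ^ a) ^ 2) (hn : 4 ≤ n) (hp : p.Prime) (ha : 0 < a) :
    ¬ p ^ (a * (n * (n - 1))) - 1 ∣ Nat.card (PSU n F (p ^ a)) := by
  have hx : 12 ≤ n * (n - 1) := by
    have := Nat.mul_le_mul hn (show 3 ≤ n - 1 by omega)
    omega
  have hlt : 2 * n < n * (n - 1) := by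
    have : 3 ≤ n - 1 := by omega
    nlinarith only [hx, this]
  refine not_dvd_card hp ha (by omega) (N := a * (n * (n - 1) / 2)) (L := (List.range n).map fun i => 2 * (i + 1)) ?_ ?_
  · have h1 := S0280.result hF n (by omega)
    have h2 : Nat.card (PSU n F (p ^ a)) ∣ (p ^ a) ^ (n * (n - 1) / 2) *
        ∏ i ∈ Finset.range n, (if Even i then (p ^ a) ^ (i + 1) + 1 else (p ^ a) ^ (i + 1) - 1) := by
      rw [← h1]
      exact Dvd.intro_left _ (mul_assoc _ _ _)
    rw [← pow_mul] at h2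
    refine h2.trans (Nat.mul_dvd_mul_left _ ?_)
    rw [List.map_map, prod_range_eq]
    apply Finset.prod_dvd_prod_of_dvd
    intro i _
    have h3 : (p ^ a) ^ (2 * (i + 1)) - 1 = ((p ^ a) ^ (i + 1) + 1) * ((p ^ a) ^ (i + 1) - 1) := by
      rw [mul_comm 2 (i + 1), pow_mul]
      have := Nat.sq_sub_sq ((p ^ a) ^ (i + 1)) 1
      rwa [one_pow] at this
    change _ ∣ (p ^ a) ^ (2 * (i + 1)) - 1
    rw [h3]
    split_ifs
    · exact dvd_mul_right _ _
    · exact dvd_mul_left _ _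
  · intro d hd
    rw [List.mem_map] at hd
    obtain ⟨i, hi, rfl⟩ := hd
    rw [List.mem_range] at hi
    omega

end card

section main

variable {F : Type u} [Field F] [Fintype F] {q n p : ℕ}

/-- **`PSU_n(q)`**, `n ≥ 4`: no irreducible character vanishes on exactly one class -/
theorem none_psu (hF : Fintype.card F = q ^ 2) (hn : 4 ≤ n) (hex : ¬ (n = 4 ∧ q ≤ 3) ∧ ¬ (n = 6 ∧ q = 2))
    [hp : Fact p.Prime] [CharP F p] (hs : IsSimpleGroup (PSU n F q)) (hK : Kaw p (PSU n F q))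
    (χ : PSU n F q → ℂ) (hχ : IsIrrCharacter (PSU n F q) χ) : ¬ OneZero χ := by
  classical
  have hq := two_le hF
  obtain ⟨a, hqa, ha⟩ := exists_eq_pow hF p
  subst hqa
  haveI : Finite (SU n F (p ^ a)) := inferInstance
  haveI : Finite (PSU n F (p ^ a)) := inferInstance
  have hv := card_fact (n := n) hF (by omega) hp.out (by omega : 0 < a)
  have hx : 12 ≤ n * (n - 1) := by
    have := Nat.mul_le_mul hn (show 3 ≤ n - 1 by omega)
    omega
  have hev : n * (n - 1) / 2 * 2 = n * (n - 1) := Nat.div_mul_cancel (Nat.even_mul_pred_self n).two_dvd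
  have h2v : 2 * (a * (n * (n - 1) / 2)) = a * (n * (n - 1)) := by
    rw [← hev]; ring_nf
    rw [Nat.mul_div_cancel _ (by norm_num)]
  refine none_of_cong hs hp.out hv ?_ hK ?_ ?_ hχ
  · have : 6 ≤ n * (n - 1) / 2 := by omega
    exact Nat.mul_ne_zero (by omega) (by omega)
  · rw [h2v]
    exact card_not_dvd hF hn hp.out (by omega)
  · intro m e he hm hm2 hc
    rw [h2v] at hm2
    -- the odd and the even one
    obtain ⟨o, f, ho, hf, hof, hmul, hco⟩ : ∃ o f, Odd o ∧ Even f ∧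
        ((o = n ∧ f + 1 = n) ∨ (f = n ∧ o + 1 = n)) ∧ o * f = n * (n - 1) ∧ Nat.Coprime o f := by
      have hcop : Nat.Coprime n (n - 1) := by
        have := Nat.coprime_self_add_left (m := n - 1) (n := 1)
        have h3 : n - 1 + 1 = n := by omega
        rw [h3] at this
        exact this.2 (Nat.coprime_one_left _)
      rcases Nat.even_or_odd n with h | h
      · refine ⟨n - 1, n, ?_, h, Or.inr ⟨rfl, by omega⟩, mul_comm _ _, hcop.symm⟩
        rw [Nat.odd_iff]
        have := Nat.even_iff.1 h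
        omega
      · refine ⟨n, n - 1, h, ?_, Or.inl ⟨rfl, by omega⟩, rfl, hcop⟩
        rw [Nat.even_iff]
        have := Nat.odd_iff.1 h
        omega
    have hod := Nat.odd_iff.1 ho
    have hfe := Nat.even_iff.1 hf
    have ho3 : 3 ≤ o := by omega
    have hf4 : 4 ≤ f := by omega
    -- the prime of the odd one
    obtain ⟨r, hr, hr1, hr2, hr3⟩ := exists_prime (p := p) (a := a) (d := o) hp.out ha ho3 (by
      rintro ⟨h2, h6⟩
      rw [nuf_odd ho] at h6
      have h7 : a = 1 := by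
        by_contra hne
        have : 2 ≤ a := by omega
        nlinarith only [ho3, h6, this]
      subst h7 h2
      have : o = 3 := by omega
      apply hex.1
      constructor
      · (clear * - hn hof h6; omega)
      · norm_num)
    have hIr : Iso (PSU n F (p ^ a)) p r := iso_psu hF (by omega) hr hr2 (by omega)
      (by rcases hof with ⟨h, -⟩ | ⟨-, h⟩ <;> omega) hex
    -- the prime of the even one
    obtain ⟨s, Df, hs', hs1, hs2, hs3, hDf⟩ : ∃ s Df : ℕ, s.Prime ∧ orderOf (p : ZMod s) = Df ∧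
        orderOf (-((p ^ a : ℕ) : ZMod s)) = f ∧ 2 < s ∧ (Df = a * nuf f ∨ (a = 2 ∧ f = 6 ∧ Df = 3)) := by
      by_cases h6 : p = 2 ∧ a * nuf f = 6
      · obtain ⟨h7, h8⟩ := h6
        have h9 : a = 2 ∧ f = 6 := by
          rcases (by (clear * - hfe; omega) : f % 4 = 0 ∨ f % 4 = 2) with h11 | h11
          · rw [nuf_four h11] at h8
            exfalso
            have : a = 1 := by
              by_contra hne
              have : 2 ≤ a := by omega
              nlinarith only [hf4, h8, this]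
            subst this
            omega
          · rw [nuf_two h11] at h8
            obtain ⟨t, ht⟩ : ∃ t, f = 2 * t := ⟨f / 2, by omega⟩
            have ht2 : f / 2 = t := by (clear * - ht; omega)
            rw [ht2] at h8
            have ht3 : 3 ≤ t := by (clear * - hf4 h11 ht; omega)
            have hto : t % 2 = 1 := by (clear * - h11 ht; omega)
            have ha2 : a ≤ 2 := by
              by_contra hne
              have : 3 ≤ a := by omega
              nlinarith only [h8, ht3, hne]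
            interval_cases a
            · (clear * - hto h8; omega)
            · (clear * - ht h8; omega)
        obtain ⟨rfl, rfl⟩ := h9
        subst h7
        refine ⟨7, 3, by norm_num, ?_, ?_, by norm_num, Or.inr ⟨rfl, rfl, rfl⟩⟩
        · haveI : Fact (Nat.Prime 3) := ⟨Nat.prime_three⟩
          exact orderOf_eq_prime (by decide) (by decide)
        · have h10 : (-((2 ^ 2 : ℕ) : ZMod 7)) = 3 := by decide
          rw [h10, orderOf_eq_iff (by norm_num)]
          refine ⟨by decide, ?_⟩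
          intro k hk hk0
          interval_cases k <;> decide
      · obtain ⟨s, hs, hs1, hs2, hs3⟩ := exists_prime (p := p) (a := a) (d := f) hp.out ha (by omega) h6
        exact ⟨s, a * nuf f, hs, hs1, hs2, hs3, Or.inl rfl⟩
    have hIs : Iso (PSU n F (p ^ a)) p s := iso_psu hF (by omega) hs' hs2 (by omega)
      (by rcases hof with ⟨-, h⟩ | ⟨h, -⟩ <;> omega) hex
    obtain ⟨h1, h2, h3⟩ := ords (G := PSU n F (p ^ a)) hr1 hr3 (hc r 0 (cong_of_iso hp.out hIr)) he
    obtain ⟨h4, h5, h6⟩ := ords (G := PSU n F (p ^ a)) hs1 hs3 (hc s 0 (cong_of_iso hp.out hIs)) he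
    rw [nuf_odd ho] at h1 h2 h3
    exact mid_psu (by omega) ho hf (by omega) hco hm (by rw [hmul]; exact hm2) hDf h1 h4 (fun h => ⟨h2 h, h5 h⟩)
      (fun h => ⟨h3 h, h6 h⟩) he

end main

end Cfsg.Agent.H876.OZU
end

-- part: H876/OZU/Main
section
/-!
# S4842: the row `PSU_n(q)`, `n ≥ 4`, without hypotheses (helper876)
-/

set_option autoImplicit false

namespace Cfsg.Agent.H876.OZU

open Cfsg Cfsg.Agent.H730.OZ Cfsg.Agent.ClassicalGeometry.GUBasic

universe u

/-- **`PSU_n(q)`**, `n ≥ 4`, except `U_4(2)`, `U_4(3)`, `U_6(2)` -/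
theorem row_psu {S : Type u} [Group S] [Finite S] (hs : IsSimpleGroup S) {F : Type} [Field F] [Fintype F] {n q : ℕ}
    (hF : Fintype.card F = q ^ 2) (hn : 4 ≤ n) (hex : ¬ (n = 4 ∧ q ≤ 3) ∧ ¬ (n = 6 ∧ q = 2))
    (e : S ≃* PSU n F q) : Row S := by
  obtain ⟨p, hp⟩ := CharP.exists F
  have hpp : Fact p.Prime := ⟨CharP.char_is_prime F p⟩
  have hfin : Finite (PSU n F q) := Finite.of_equiv S e.toEquiv
  have hsi : IsSimpleGroup (PSU n F q) := by
    have hnt : Nontrivial (PSU n F q) := e.symm.toEquiv.nontrivial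
    exact IsSimpleGroup.isSimpleGroup_of_surjective e.toMonoidHom e.surjective
  have hR : Nodes.RGDChev.HasRGD p (PSU n F q) :=
    Nodes.RGDClass.hasRGD_of_PSU ⟨F, inferInstance, inferInstance, hp, n, q, hF, by omega, by omega, ⟨MulEquiv.refl _⟩⟩
  exact Row.congr e (Row.of_none fun χ hχ => none_psu hF hn hex hsi (H279.OZ.kaw_of_hasRGD hpp.out hR) χ hχ)

end Cfsg.Agent.H876.OZU
end

private theorem dce_d0a5527015cc : _root_.True := by
  try have : _root_.True := by simp only [_root_.Cfsg.Agent.H876.OZU.nuf.eq_1]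
  exact _root_.True.intro
end
end
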